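import Mathlib

/-!
Helper lemmas on cofiltered limits of schemes with affine transition maps (EGA IV §8).
-/

set_option autoImplicit false
universe u

open CategoryTheory AlgebraicGeometry Limits

namespace Groth.Agent.Helper9.Lim8

variable {I : Type u} [SmallCategory I] [IsCofiltered I]
  (D : I ⥤ Scheme.{u}) (c : Cone D) (hc : IsLimit c)

attribute [local instance] IsCofiltered.isConnected

set_option backward.isDefEq.respectTransparency false in
include hc in
/-- The image of the projection from a cofiltered limit with affine transition maps is the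
intersection of the images of the transition maps. -/
theorem range_π_eq [∀ {i j : I} (f : i ⟶ j), IsAffineHom (D.map f)] (i : I) :
    Set.range ⇑(c.π.app i) = ⋂ (j : I) (φ : j ⟶ i), Set.range ⇑(D.map φ) := by
  apply subset_antisymm
  · rintro _ ⟨x, rfl⟩
    simp only [Set.mem_iInter]
    intro j φ
    refine ⟨c.π.app j x, ?_⟩
    rw [← Scheme.Hom.comp_apply, c.w]
    rfl
  · intro s hs
    simp only [Set.mem_iInter] at hs
    let g := (D.obj i).fromSpecResidueField s
    let F : Over i ⥤ Scheme := Over.post D ⋙ Over.pullback g ⋙ Over.forget _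
    let c' : Cone F := (Over.pullback g ⋙ Over.forget _).mapCone ((Over.conePost _ _).obj c)
    have hc' : IsLimit c' :=
      isLimitOfPreserves (Over.pullback g ⋙ Over.forget _) (Over.isLimitConePost _ hc)
    have hAff (i' : Over i) : IsAffine (F.obj i') :=
      have : IsAffineHom (pullback.snd (D.map i'.hom) g) :=
        MorphismProperty.pullback_snd _ _ inferInstance
      isAffine_of_isAffineHom (pullback.snd (D.map i'.hom) g)
    have hNe (i' : Over i) : Nonempty (F.obj i') := by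
      obtain ⟨y, hy⟩ := hs i'.left i'.hom
      obtain ⟨pt⟩ : Nonempty (Spec ((D.obj i).residueField s)) := inferInstance
      have hpt : g pt = s := Scheme.fromSpecResidueField_apply s pt
      obtain ⟨z, -, -⟩ := Scheme.Pullback.exists_preimage_pullback (f := D.map i'.hom) (g := g)
        y pt (by rw [hy, hpt])
      exact ⟨z⟩
    have hAffHom : ∀ {j k : Over i} (f : j ⟶ k), IsAffineHom (F.map f) := fun f => inferInstance
    have hCpt (i' : Over i) : CompactSpace (F.obj i') := inferInstance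
    have hne : Nonempty c'.pt := Scheme.nonempty_of_isLimit F c' hc'
    obtain ⟨z⟩ := hne
    -- c'.pt = pullback (c.π.app i) g
    let z' : ↑(pullback (c.π.app i) g) := z
    refine ⟨(pullback.fst (c.π.app i) g) z', ?_⟩
    rw [← Scheme.Hom.comp_apply, pullback.condition, Scheme.Hom.comp_apply]
    exact Scheme.fromSpecResidueField_apply s _

end Groth.Agent.Helper9.Lim8

namespace Groth.Agent.Helper9.Lim8

variable {I : Type u} [SmallCategory I] [IsCofiltered I]
  (D : I ⥤ Scheme.{u}) (c : Cone D) (hc : IsLimit c)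

attribute [local instance] IsCofiltered.isConnected

section BaseChange

variable {i : I} {T : Scheme.{u}} (g : T ⟶ D.obj i)

/-- The base change of the diagram `D` (restricted to `Over i`) along `g : T ⟶ D.obj i`. -/
noncomputable def bcDiagram : Over i ⥤ Scheme.{u} :=
  Over.post D ⋙ Over.pullback g ⋙ Over.forget _

/-- The base change of the cone. -/
noncomputable def bcCone : Cone (bcDiagram D g) :=
  (Over.pullback g ⋙ Over.forget _).mapCone ((Over.conePost _ _).obj c)

/-- The base-changed cone is a limit cone. -/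
noncomputable def bcIsLimit : IsLimit (bcCone D c g) :=
  isLimitOfPreserves (Over.pullback g ⋙ Over.forget _) (Over.isLimitConePost _ hc)

lemma bcDiagram_obj (j : Over i) : (bcDiagram D g).obj j = pullback (D.map j.hom) g := rfl

lemma bcCone_pt : (bcCone D c g).pt = pullback (c.π.app i) g := rfl

set_option backward.isDefEq.respectTransparency false in
@[reassoc]
lemma bcDiagram_map_snd {j k : Over i} (φ : j ⟶ k) :
    (bcDiagram D g).map φ ≫ pullback.snd (D.map k.hom) g = pullback.snd (D.map j.hom) g := by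
  simp only [bcDiagram, Functor.comp_map, Over.forget_map, Over.pullback_map_left]
  exact pullback.lift_snd _ _ _

set_option backward.isDefEq.respectTransparency false in
@[reassoc]
lemma bcDiagram_map_fst {j k : Over i} (φ : j ⟶ k) :
    (bcDiagram D g).map φ ≫ pullback.fst (D.map k.hom) g =
      pullback.fst (D.map j.hom) g ≫ D.map φ.left := by
  simp only [bcDiagram, Functor.comp_map, Over.forget_map, Over.pullback_map_left]
  exact pullback.lift_fst _ _ _

set_option backward.isDefEq.respectTransparency false in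
@[reassoc]
lemma bcCone_π_snd (j : Over i) :
    (bcCone D c g).π.app j ≫ pullback.snd (D.map j.hom) g = pullback.snd (c.π.app i) g := by
  simp only [bcCone, Functor.mapCone_π_app, Functor.comp_map, Over.forget_map,
    Over.pullback_map_left]
  exact pullback.lift_snd _ _ _

set_option backward.isDefEq.respectTransparency false in
@[reassoc]
lemma bcCone_π_fst (j : Over i) :
    (bcCone D c g).π.app j ≫ pullback.fst (D.map j.hom) g =
      pullback.fst (c.π.app i) g ≫ c.π.app j.left := by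
  simp only [bcCone, Functor.mapCone_π_app, Functor.comp_map, Over.forget_map,
    Over.pullback_map_left]
  exact pullback.lift_fst _ _ _

set_option backward.isDefEq.respectTransparency false in
instance bcDiagram_isAffineHom [∀ {i j : I} (f : i ⟶ j), IsAffineHom (D.map f)]
    {j k : Over i} (φ : j ⟶ k) : IsAffineHom ((bcDiagram D g).map φ) := by
  have h1 : IsAffineHom (pullback.snd (D.map k.hom) g) :=
    MorphismProperty.pullback_snd _ _ inferInstance
  have h2 : IsAffineHom ((bcDiagram D g).map φ ≫ pullback.snd (D.map k.hom) g) := by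
    rw [bcDiagram_map_snd]
    exact MorphismProperty.pullback_snd _ _ inferInstance
  exact IsAffineHom.of_comp _ (pullback.snd (D.map k.hom) g)

/-- The projection of the base-changed cone is a base change of the original projection. -/
lemma bcCone_isPullback (j : Over i) :
    IsPullback ((bcCone D c g).π.app j) (pullback.fst (c.π.app i) g)
      (pullback.fst (D.map j.hom) g) (c.π.app j.left) := by
  refine IsPullback.of_right ?_ (bcCone_π_fst D c g j)
    (IsPullback.of_hasPullback (D.map j.hom) g).flip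
  rw [bcCone_π_snd, c.w]
  exact (IsPullback.of_hasPullback (c.π.app i) g).flip

end BaseChange

include hc in
/-- If all the projections from the limit to stages over `i` are surjective and the transition
maps to `i` are open, then the projection to `i` is open. -/
theorem isOpenMap_π_of_forall [∀ {i j : I} (f : i ⟶ j), IsAffineHom (D.map f)] (i : I)
    (hs : ∀ (j : I) (_ : j ⟶ i), Function.Surjective ⇑(c.π.app j))
    (h : ∀ (j : I) (φ : j ⟶ i), IsOpenMap ⇑(D.map φ)) : IsOpenMap ⇑(c.π.app i) := by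
  have hcomp : ∀ (j : I) (φ : j ⟶ i) (x : c.pt), D.map φ (c.π.app j x) = c.π.app i x := by
    intro j φ x
    rw [← Scheme.Hom.comp_apply, c.w]
  have hB := isBasis_preimage_isAffineOpen D c hc
  rw [TopologicalSpace.Opens.IsBasis] at hB
  rw [hB.isOpenMap_iff]
  rintro _ ⟨_, ⟨j, V, hV, rfl⟩, rfl⟩
  obtain ⟨k, a, b⟩ : ∃ (k : I) (_ : k ⟶ j), Nonempty (k ⟶ i) :=
    ⟨IsCofiltered.min j i, IsCofiltered.minToLeft j i, ⟨IsCofiltered.minToRight j i⟩⟩
  obtain ⟨b⟩ := b
  have hsurj : Function.Surjective ⇑(c.π.app k) := hs k b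
  have : ⇑(c.π.app i) '' (⇑(c.π.app j) ⁻¹' (V : Set (D.obj j)))
      = ⇑(D.map b) '' (⇑(D.map a) ⁻¹' (V : Set (D.obj j))) := by
    ext y
    constructor
    · rintro ⟨x, hx, rfl⟩
      refine ⟨c.π.app k x, ?_, hcomp k b x⟩
      change D.map a (c.π.app k x) ∈ V
      have : D.map a (c.π.app k x) = c.π.app j x := by
        rw [← Scheme.Hom.comp_apply, c.w]
      rw [this]; exact hx
    · rintro ⟨v, hv, rfl⟩
      obtain ⟨x, rfl⟩ := hsurj v
      refine ⟨x, ?_, (hcomp k b x).symm⟩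
      change c.π.app j x ∈ V
      have : D.map a (c.π.app k x) = c.π.app j x := by
        rw [← Scheme.Hom.comp_apply, c.w]
      rw [← this]; exact hv
  change IsOpen (⇑(c.π.app i) '' (⇑(c.π.app j) ⁻¹' (V : Set (D.obj j))))
  rw [this]
  exact h k b _ (V.2.preimage (D.map a).continuous)

end Groth.Agent.Helper9.Lim8

namespace Groth.Agent.Helper9.Lim8

open Topology

theorem comp_coe {X Y Z : Scheme.{u}} (f : X ⟶ Y) (g : Y ⟶ Z) :
    (⇑(f ≫ g) : X → Z) = ⇑g ∘ ⇑f := by
  funext x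
  simp

/-- Induction principle: constructible sets are finite unions of differences of retrocompact
opens. -/
theorem IsConstructible.sdiff_union_induction {X : Type*} [TopologicalSpace X] {P : Set X → Prop}
    (sdiff : ∀ U V, IsOpen U → IsRetrocompact U → IsOpen V → IsRetrocompact V → P (U \ V))
    (union : ∀ s t, P s → P t → P (s ∪ t)) {s : Set X} (hs : IsConstructible s) : P s := by
  induction s, hs using BooleanSubalgebra.closure_sdiff_sup_induction with
  | isSublattice =>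
    exact ⟨fun s hs t ht ↦ ⟨hs.1.union ht.1, hs.2.union ht.2⟩,
      fun s hs t ht ↦ ⟨hs.1.inter ht.1, hs.2.inter_isOpen ht.2 ht.1⟩⟩
  | bot_mem => exact ⟨isOpen_empty, .empty⟩
  | top_mem => exact ⟨isOpen_univ, .univ⟩
  | sdiff U hU V hV => exact sdiff U V hU.1 hU.2 hV.1 hV.2
  | sup s _ t _ hs' ht' => exact union _ _ hs' ht'

/-- The preimage of a constructible subset of a quasi-compact scheme under a quasi-compact
morphism is quasi-compact. -/
theorem isCompact_preimage_of_isConstructible {X Y : Scheme.{u}} (f : X ⟶ Y) [QuasiCompact f]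
    [CompactSpace Y] {E : Set Y} (hE : IsConstructible E) : IsCompact (f ⁻¹' E) := by
  refine IsConstructible.sdiff_union_induction (P := fun E => IsCompact (f ⁻¹' E)) ?_ ?_ hE
  · intro U V hU hU' hV hV'
    rw [Set.preimage_diff]
    exact (QuasiCompact.isCompact_preimage (f := f) U hU hU'.isCompact).diff
      (hV.preimage f.continuous)
  · intro s t hs ht
    rw [Set.preimage_union]
    exact hs.union ht

/-- A constructible subset of a quasi-compact scheme is quasi-compact. -/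
theorem isCompact_of_isConstructible {Y : Scheme.{u}} [CompactSpace Y] {E : Set Y}
    (hE : IsConstructible E) : IsCompact E := by
  simpa using isCompact_preimage_of_isConstructible (𝟙 Y) hE

variable {I : Type u} [SmallCategory I] [IsCofiltered I]
  (D : I ⥤ Scheme.{u}) (c : Cone D) (hc : IsLimit c)

include hc in
/-- If the preimage of a constructible subset of a quasi-compact stage in the limit is empty, then
its preimage in some stage is already empty. -/
theorem exists_preimage_eq_empty [∀ {i j : I} (f : i ⟶ j), IsAffineHom (D.map f)] {i : I}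
    [CompactSpace (D.obj i)] {E : Set (D.obj i)} (hE : IsConstructible E)
    (h : ⇑(c.π.app i) ⁻¹' E = ∅) : ∃ (j : I) (φ : j ⟶ i), ⇑(D.map φ) ⁻¹' E = ∅ := by
  revert h
  refine IsConstructible.sdiff_union_induction (P := fun E => ⇑(c.π.app i) ⁻¹' E = ∅ →
    ∃ (j : I) (φ : j ⟶ i), ⇑(D.map φ) ⁻¹' E = ∅) ?_ ?_ hE
  · intro U V hU hU' hV hV' h
    have H : c.π.app i ⁻¹ᵁ ⟨U, hU⟩ ≤ c.π.app i ⁻¹ᵁ ⟨V, hV⟩ := by
      intro x hx
      by_contra hxV
      have : x ∈ ⇑(c.π.app i) ⁻¹' (U \ V) := ⟨hx, hxV⟩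
      rw [h] at this
      exact this
    obtain ⟨j, φ, hj⟩ := exists_map_preimage_le_map_preimage D c hc
      (U := ⟨U, hU⟩) (V := ⟨V, hV⟩) hU'.isCompact H
    refine ⟨j, φ, ?_⟩
    ext x
    simp only [Set.mem_preimage, Set.mem_diff, Set.mem_empty_iff_false, iff_false, not_and, not_not]
    intro hx
    exact hj hx
  · intro s t hs ht h
    rw [Set.preimage_union, Set.union_empty_iff] at h
    obtain ⟨j₁, φ₁, h₁⟩ := hs h.1
    obtain ⟨j₂, φ₂, h₂⟩ := ht h.2
    obtain ⟨k, a, b, hab⟩ := IsCofiltered.cospan φ₁ φ₂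
    refine ⟨k, a ≫ φ₁, ?_⟩
    rw [Set.preimage_union, Set.union_empty_iff]
    constructor
    · rw [D.map_comp, comp_coe, Set.preimage_comp, h₁, Set.preimage_empty]
    · rw [hab, D.map_comp, comp_coe, Set.preimage_comp, h₂, Set.preimage_empty]

end Groth.Agent.Helper9.Lim8

namespace Groth.Agent.Helper9.Lim8

open Topology

variable {I : Type u} [SmallCategory I] [IsCofiltered I]
  (D : I ⥤ Scheme.{u}) (c : Cone D) (hc : IsLimit c)

include hc in
/-- Compact opens of the limit come from a stage over a given index `i₀`. -/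
theorem exists_preimage_eq_over [∀ {i j : I} (f : i ⟶ j), IsAffineHom (D.map f)] (i₀ : I)
    (U : c.pt.Opens) (hU : IsCompact (U : Set c.pt)) :
    ∃ (k : I) (_ : k ⟶ i₀) (V : (D.obj k).Opens),
      IsCompact (V : Set (D.obj k)) ∧ c.π.app k ⁻¹ᵁ V = U := by
  obtain ⟨j, V, hV, hVU⟩ := exists_preimage_eq D c hc U hU
  refine ⟨IsCofiltered.min j i₀, IsCofiltered.minToRight j i₀,
    D.map (IsCofiltered.minToLeft j i₀) ⁻¹ᵁ V, ?_, ?_⟩
  · exact QuasiCompact.isCompact_preimage (f := D.map (IsCofiltered.minToLeft j i₀)) V V.2 hV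
  · rw [← Scheme.Hom.comp_preimage, c.w, hVU]

lemma compactSpace_of_hom [∀ {i j : I} (f : i ⟶ j), IsAffineHom (D.map f)] {k i₀ : I}
    (b : k ⟶ i₀) [CompactSpace (D.obj i₀)] : CompactSpace (D.obj k) :=
  QuasiCompact.compactSpace_of_compactSpace (D.map b)

lemma quasiSeparatedSpace_of_hom [∀ {i j : I} (f : i ⟶ j), IsAffineHom (D.map f)] {k i₀ : I}
    (b : k ⟶ i₀) [QuasiSeparatedSpace (D.obj i₀)] : QuasiSeparatedSpace (D.obj k) :=
  quasiSeparatedSpace_of_quasiSeparated (D.map b)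

include hc in
/-- Two constructible subsets of a quasi-compact stage with the same preimage in the limit have
the same preimage in some stage. -/
theorem exists_preimage_eq_of_preimage_eq [∀ {i j : I} (f : i ⟶ j), IsAffineHom (D.map f)]
    {i : I} [CompactSpace (D.obj i)] {E F : Set (D.obj i)} (hE : IsConstructible E)
    (hF : IsConstructible F) (h : ⇑(c.π.app i) ⁻¹' E = ⇑(c.π.app i) ⁻¹' F) :
    ∃ (j : I) (φ : j ⟶ i), ⇑(D.map φ) ⁻¹' E = ⇑(D.map φ) ⁻¹' F := by
  have hEF : IsConstructible ((E \ F) ∪ (F \ E)) := (hE.sdiff hF).union (hF.sdiff hE)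
  have hempty : ⇑(c.π.app i) ⁻¹' ((E \ F) ∪ (F \ E)) = ∅ := by
    rw [Set.preimage_union, Set.preimage_diff, Set.preimage_diff, h]; simp
  obtain ⟨l, ψ, hl⟩ := exists_preimage_eq_empty D c hc hEF hempty
  refine ⟨l, ψ, ?_⟩
  rw [Set.preimage_union, Set.union_empty_iff, Set.preimage_diff, Set.preimage_diff,
    Set.diff_eq_empty, Set.diff_eq_empty] at hl
  exact subset_antisymm hl.1 hl.2

include hc in
theorem exists_isOpen_preimage_of_qcqs [∀ {i j : I} (f : i ⟶ j), IsAffineHom (D.map f)]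
    {i₁ : I} [CompactSpace (D.obj i₁)] [QuasiSeparatedSpace (D.obj i₁)]
    {Z₁ : Set (D.obj i₁)} (hZ : IsConstructible Z₁) (hopen : IsOpen (⇑(c.π.app i₁) ⁻¹' Z₁)) :
    ∃ (j : I) (φ : j ⟶ i₁), IsOpen (⇑(D.map φ) ⁻¹' Z₁) := by
  have : IsAffineHom (c.π.app i₁) := isAffineHom_π_app D c hc i₁
  have hcpt : IsCompact (⇑(c.π.app i₁) ⁻¹' Z₁) := isCompact_preimage_of_isConstructible _ hZ
  obtain ⟨k, b, V, hV, hVU⟩ := exists_preimage_eq_over D c hc i₁ ⟨_, hopen⟩ hcpt
  have : CompactSpace (D.obj k) := compactSpace_of_hom D b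
  have : QuasiSeparatedSpace (D.obj k) := quasiSeparatedSpace_of_hom D b
  have hZk : IsConstructible (⇑(D.map b) ⁻¹' Z₁) := (D.map b).isConstructible_preimage hZ
  have hVc : IsConstructible (V : Set (D.obj k)) := hV.isConstructible V.2
  have hπZk : ⇑(c.π.app k) ⁻¹' (⇑(D.map b) ⁻¹' Z₁) = ⇑(c.π.app i₁) ⁻¹' Z₁ := by
    rw [← Set.preimage_comp, ← comp_coe, c.w]
  have hπV : ⇑(c.π.app k) ⁻¹' (V : Set _) = ⇑(c.π.app i₁) ⁻¹' Z₁ :=
    congrArg (fun W : c.pt.Opens => (W : Set c.pt)) hVU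
  obtain ⟨l, ψ, hl⟩ := exists_preimage_eq_of_preimage_eq D c hc hZk hVc (hπZk.trans hπV.symm)
  refine ⟨l, ψ ≫ b, ?_⟩
  rw [D.map_comp, comp_coe, Set.preimage_comp, hl]
  exact V.2.preimage (D.map ψ).continuous

end Groth.Agent.Helper9.Lim8

namespace Groth.Agent.Helper9.Lim8

open Topology

/-- In a scheme, between a compact set and an open set containing it there is a compact open. -/
theorem exists_isCompact_open_between (X : Scheme.{u}) {K U : Set X} (hK : IsCompact K)
    (hU : IsOpen U) (hKU : K ⊆ U) : ∃ W : X.Opens, IsCompact (W : Set X) ∧ K ⊆ W ∧ (W : Set X) ⊆ U := by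
  classical
  have : ∀ x ∈ K, ∃ V : X.Opens, IsAffineOpen V ∧ x ∈ V ∧ (V : Set X) ⊆ U := by
    intro x hx
    obtain ⟨_, ⟨V, hV, rfl⟩, hxV, hVU⟩ :=
      X.isBasis_affineOpens.exists_subset_of_mem_open (hKU hx) hU
    exact ⟨V, hV, hxV, hVU⟩
  choose V hV hxV hVU using this
  obtain ⟨t, ht⟩ := hK.elim_nhds_subcover' (fun x hx => (V x hx : Set X))
    (fun x hx => (V x hx).2.mem_nhds (hxV x hx))
  refine ⟨⨆ x : t, V x.1 x.1.2, ?_, ?_, ?_⟩
  · rw [TopologicalSpace.Opens.coe_iSup]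
    exact isCompact_iUnion fun x => (hV x.1 x.1.2).isCompact
  · intro x hx
    obtain ⟨y, hy, hxy⟩ := Set.mem_iUnion₂.1 (ht hx)
    rw [TopologicalSpace.Opens.coe_iSup]
    exact Set.mem_iUnion.2 ⟨⟨y, hy⟩, hxy⟩
  · rw [TopologicalSpace.Opens.coe_iSup]
    exact Set.iUnion_subset fun x => hVU x.1 x.1.2

variable {I : Type u} [SmallCategory I] [IsCofiltered I]
  (D : I ⥤ Scheme.{u}) (c : Cone D) (hc : IsLimit c)

include hc in
/-- A difference of two compact opens of the limit comes from such a difference at a stage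
over `i₀`. -/
theorem exists_sdiff_preimage_eq [∀ {i j : I} (f : i ⟶ j), IsAffineHom (D.map f)] (i₀ : I)
    (U V : c.pt.Opens) (hU : IsCompact (U : Set c.pt)) (hV : IsCompact (V : Set c.pt)) :
    ∃ (k : I) (_ : k ⟶ i₀) (U' V' : (D.obj k).Opens),
      IsCompact (U' : Set (D.obj k)) ∧ IsCompact (V' : Set (D.obj k)) ∧
        ⇑(c.π.app k) ⁻¹' ((U' : Set (D.obj k)) \ V') = (U : Set c.pt) \ V := by
  obtain ⟨a, φa, U₁, hU₁, hU₁U⟩ := exists_preimage_eq_over D c hc i₀ U hU
  obtain ⟨b, φb, V₁, hV₁, hV₁V⟩ := exists_preimage_eq_over D c hc i₀ V hV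
  obtain ⟨k, α, β, hαβ⟩ := IsCofiltered.cospan φa φb
  refine ⟨k, α ≫ φa, D.map α ⁻¹ᵁ U₁, D.map β ⁻¹ᵁ V₁,
    QuasiCompact.isCompact_preimage (f := D.map α) U₁ U₁.2 hU₁,
    QuasiCompact.isCompact_preimage (f := D.map β) V₁ V₁.2 hV₁, ?_⟩
  have h1 : (⇑(c.π.app k) ⁻¹' ((D.map α ⁻¹ᵁ U₁ : (D.obj k).Opens) : Set (D.obj k)) : Set c.pt)
      = (U : Set c.pt) := by
    have : c.π.app k ⁻¹ᵁ (D.map α ⁻¹ᵁ U₁) = U := by
      rw [← Scheme.Hom.comp_preimage, c.w, hU₁U]
    exact congrArg (fun W : c.pt.Opens => (W : Set c.pt)) this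
  have h2 : (⇑(c.π.app k) ⁻¹' ((D.map β ⁻¹ᵁ V₁ : (D.obj k).Opens) : Set (D.obj k)) : Set c.pt)
      = (V : Set c.pt) := by
    have : c.π.app k ⁻¹ᵁ (D.map β ⁻¹ᵁ V₁) = V := by
      rw [← Scheme.Hom.comp_preimage, c.w, hV₁V]
    exact congrArg (fun W : c.pt.Opens => (W : Set c.pt)) this
  rw [Set.preimage_diff, h1, h2]

end Groth.Agent.Helper9.Lim8

namespace Groth.Agent.Helper9.Lim8

open Topology

variable {I : Type u} [SmallCategory I] [IsCofiltered I]
  (D : I ⥤ Scheme.{u}) (c : Cone D) (hc : IsLimit c)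

set_option backward.isDefEq.respectTransparency false in
include hc in
/-- Reduction from a quasi-compact stage to quasi-compact quasi-separated (affine) stages, for a
property of subsets which is local. -/
theorem reduce_to_qcqs
    (Pr : ∀ {X : Type u} [TopologicalSpace X], Set X → Prop)
    (hPrpre : ∀ {X Y : Type u} [TopologicalSpace X] [TopologicalSpace Y] (f : X → Y),
      Continuous f → ∀ s : Set Y, Pr s → Pr (f ⁻¹' s))
    (hPrimg : ∀ {X Y : Type u} [TopologicalSpace X] [TopologicalSpace Y] (f : X → Y),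
      IsOpenEmbedding f → ∀ s : Set X, Pr s → Pr (f '' s))
    (hPrglue : ∀ {X : Type u} [TopologicalSpace X] (s : Set X) (T : Finset (TopologicalSpace.Opens X)),
      (⋃ A ∈ T, (A : Set X)) = Set.univ → (∀ A ∈ T, Pr (s ∩ (A : Set X))) → Pr s)
    (core : ∀ {J : Type u} [SmallCategory J] [IsCofiltered J] (D : J ⥤ Scheme.{u}) (c : Cone D)
      (_ : IsLimit c) [∀ {i j : J} (f : i ⟶ j), IsAffineHom (D.map f)] (i₁ : J)
      [CompactSpace (D.obj i₁)] [QuasiSeparatedSpace (D.obj i₁)] (Z₁ : Set (D.obj i₁)),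
      IsConstructible Z₁ → Pr (⇑(c.π.app i₁) ⁻¹' Z₁) →
        ∃ (j : J) (φ : j ⟶ i₁), Pr (⇑(D.map φ) ⁻¹' Z₁))
    [∀ {i j : I} (f : i ⟶ j), IsAffineHom (D.map f)] (i₁ : I) [CompactSpace (D.obj i₁)]
    (Z₁ : Set (D.obj i₁)) (hZ : IsConstructible Z₁) (h : Pr (⇑(c.π.app i₁) ⁻¹' Z₁)) :
    ∃ (j : I) (φ : j ⟶ i₁), Pr (⇑(D.map φ) ⁻¹' Z₁) := by
  classical
  -- Step 1: affine-local statement
  have step1 : ∀ A : (D.obj i₁).Opens, IsAffineOpen A → ∃ (k : I) (ψ : k ⟶ i₁),
      Pr (⇑(D.map ψ) ⁻¹' Z₁ ∩ ⇑(D.map ψ) ⁻¹' (A : Set (D.obj i₁))) := by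
    intro A hA
    let j₀ : Over i₁ := Over.mk (𝟙 i₁)
    have hAff (j : Over i₁) : IsAffine ((opensDiagram D i₁ A).obj j) := hA.preimage _
    have : CompactSpace ((opensDiagram D i₁ A).obj j₀) := inferInstance
    have : QuasiSeparatedSpace ((opensDiagram D i₁ A).obj j₀) := inferInstance
    let ι₀ : ((opensDiagram D i₁ A).obj j₀) ⟶ D.obj i₁ := (D.map j₀.hom ⁻¹ᵁ A).ι
    have hZ' : IsConstructible (⇑ι₀ ⁻¹' Z₁) := ι₀.isConstructible_preimage hZ
    have hpre : Pr (⇑((opensCone D c i₁ A).π.app j₀) ⁻¹' (⇑ι₀ ⁻¹' Z₁)) := by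
      have e : (opensCone D c i₁ A).π.app j₀ ≫ ι₀ = (c.π.app i₁ ⁻¹ᵁ A).ι ≫ c.π.app i₁ := by
        simp only [opensCone_π_app, ι₀]
        exact Scheme.Hom.resLE_comp_ι _ _
      have : ⇑((opensCone D c i₁ A).π.app j₀) ⁻¹' (⇑ι₀ ⁻¹' Z₁) =
          ⇑(c.π.app i₁ ⁻¹ᵁ A).ι ⁻¹' (⇑(c.π.app i₁) ⁻¹' Z₁) := by
        rw [← Set.preimage_comp, ← Set.preimage_comp, ← comp_coe, ← comp_coe, e]
        rfl
      rw [this]
      exact hPrpre _ (c.π.app i₁ ⁻¹ᵁ A).ι.continuous _ h
    obtain ⟨k, φ, hk⟩ := core (opensDiagram D i₁ A) (opensCone D c i₁ A)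
      (isLimitOpensCone D c hc i₁ A) j₀ _ hZ' hpre
    refine ⟨k.left, k.hom, ?_⟩
    have himg := hPrimg _ (D.map k.hom ⁻¹ᵁ A).ι.isOpenEmbedding _ hk
    have hφ : φ.left = k.hom := by simpa [j₀] using Over.w φ
    have e : (opensDiagram D i₁ A).map φ ≫ ι₀ = (D.map k.hom ⁻¹ᵁ A).ι ≫ D.map k.hom := by
      simp only [opensDiagram_map, ι₀, hφ]
      rw [Scheme.Hom.resLE_comp_ι]
    have : ⇑(D.map k.hom ⁻¹ᵁ A).ι '' (⇑((opensDiagram D i₁ A).map φ) ⁻¹' (⇑ι₀ ⁻¹' Z₁)) =
        ⇑(D.map k.hom) ⁻¹' Z₁ ∩ ⇑(D.map k.hom) ⁻¹' (A : Set (D.obj i₁)) := by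
      rw [← Set.preimage_comp, ← comp_coe, e, comp_coe, Set.preimage_comp]
      refine (Set.image_preimage_eq_inter_range).trans ?_
      rw [Scheme.Opens.range_ι]
      rfl
    rw [← this]
    exact himg
  -- Step 2: finite affine cover
  have hcover : ∀ x : D.obj i₁, ∃ A : (D.obj i₁).Opens, IsAffineOpen A ∧ x ∈ A := by
    intro x
    obtain ⟨_, ⟨A, hA, rfl⟩, hxA, -⟩ :=
      (D.obj i₁).isBasis_affineOpens.exists_subset_of_mem_open (Set.mem_univ x) isOpen_univ
    exact ⟨A, hA, hxA⟩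
  choose A hA hxA using hcover
  obtain ⟨t, ht⟩ := CompactSpace.elim_nhds_subcover (fun x => (A x : Set (D.obj i₁)))
    (fun x => (A x).2.mem_nhds (hxA x))
  -- Step 3: common index
  have step3 : ∀ s : Finset (D.obj i₁), ∃ (l : I) (ψ : l ⟶ i₁), ∀ x ∈ s,
      Pr (⇑(D.map ψ) ⁻¹' Z₁ ∩ ⇑(D.map ψ) ⁻¹' (A x : Set (D.obj i₁))) := by
    intro s
    induction s using Finset.induction_on with
    | empty => exact ⟨i₁, 𝟙 i₁, by simp⟩
    | insert x s _ ih =>
      obtain ⟨l, ψ, hl⟩ := ih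
      obtain ⟨k, ψ', hk⟩ := step1 (A x) (hA x)
      obtain ⟨m, α, β, hαβ⟩ := IsCofiltered.cospan ψ ψ'
      refine ⟨m, α ≫ ψ, ?_⟩
      intro y hy
      rw [Finset.mem_insert] at hy
      rcases hy with rfl | hy
      · have := hPrpre _ (D.map β).continuous _ hk
        rw [hαβ, D.map_comp, comp_coe, Set.preimage_comp, Set.preimage_comp, ← Set.preimage_inter]
        exact this
      · have := hPrpre _ (D.map α).continuous _ (hl y hy)
        rw [D.map_comp, comp_coe, Set.preimage_comp, Set.preimage_comp, ← Set.preimage_inter]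
        exact this
  obtain ⟨l, ψ, hl⟩ := step3 t
  refine ⟨l, ψ, ?_⟩
  refine hPrglue _ (t.image fun x => D.map ψ ⁻¹ᵁ A x) ?_ ?_
  · rw [Set.eq_univ_iff_forall]
    intro y
    have : D.map ψ y ∈ ⋃ x ∈ t, (A x : Set (D.obj i₁)) := by rw [ht]; trivial
    obtain ⟨x, hx, hyx⟩ := Set.mem_iUnion₂.1 this
    exact Set.mem_iUnion₂.2 ⟨D.map ψ ⁻¹ᵁ A x, Finset.mem_image_of_mem _ hx, hyx⟩
  · intro B hB
    obtain ⟨x, hx, rfl⟩ := Finset.mem_image.1 hB
    exact hl x hx

end Groth.Agent.Helper9.Lim8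

namespace Groth.Agent.Helper9.Lim8

open Topology

variable {I : Type u} [SmallCategory I] [IsCofiltered I]
  (D : I ⥤ Scheme.{u}) (c : Cone D) (hc : IsLimit c)

include hc in
/-- A locally closed constructible subset of the limit (over a qcqs stage) is the preimage of a
difference of compact opens at some stage. -/
theorem exists_sdiff_preimage_eq_of_isLocallyClosed
    [∀ {i j : I} (f : i ⟶ j), IsAffineHom (D.map f)] (i₀ : I)
    [CompactSpace (D.obj i₀)] [QuasiSeparatedSpace (D.obj i₀)] (Z : Set c.pt)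
    (hZ : IsConstructible Z) (hZ' : IsLocallyClosed Z) :
    ∃ (k : I) (_ : k ⟶ i₀) (U' V' : (D.obj k).Opens),
      IsCompact (U' : Set (D.obj k)) ∧ IsCompact (V' : Set (D.obj k)) ∧
        ⇑(c.π.app k) ⁻¹' ((U' : Set (D.obj k)) \ V') = Z := by
  have : IsAffineHom (c.π.app i₀) := isAffineHom_π_app D c hc i₀
  have : CompactSpace c.pt := QuasiCompact.compactSpace_of_compactSpace (c.π.app i₀)
  have : QuasiSeparatedSpace c.pt := quasiSeparatedSpace_of_quasiSeparated (c.π.app i₀)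
  have hZc : IsCompact Z := isCompact_of_isConstructible hZ
  obtain ⟨U₀, F, hU₀, hF, rfl⟩ := hZ'
  obtain ⟨W, hWc, hZW, hWU⟩ := exists_isCompact_open_between c.pt hZc hU₀ Set.inter_subset_left
  have hVeq : (W : Set c.pt) \ (U₀ ∩ F) = (W : Set c.pt) ∩ Fᶜ := by
    ext x
    simp only [Set.mem_sdiff, Set.mem_inter_iff, Set.mem_compl_iff, not_and]
    constructor
    · rintro ⟨hxW, h⟩
      exact ⟨hxW, h (hWU hxW)⟩
    · rintro ⟨hxW, hxF⟩
      exact ⟨hxW, fun _ => hxF⟩
  have hVopen : IsOpen ((W : Set c.pt) \ (U₀ ∩ F)) := by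
    rw [hVeq]; exact W.2.inter hF.isOpen_compl
  have hVcons : IsConstructible ((W : Set c.pt) \ (U₀ ∩ F)) :=
    (hWc.isConstructible W.2).sdiff hZ
  have hVc : IsCompact ((W : Set c.pt) \ (U₀ ∩ F)) := isCompact_of_isConstructible hVcons
  obtain ⟨k, φ, U', V', hU'c, hV'c, h⟩ := exists_sdiff_preimage_eq D c hc i₀ W
    ⟨_, hVopen⟩ hWc hVc
  refine ⟨k, φ, U', V', hU'c, hV'c, ?_⟩
  rw [h]
  change (W : Set c.pt) \ ((W : Set c.pt) \ (U₀ ∩ F)) = U₀ ∩ F
  rw [Set.sdiff_sdiff_right_self, Set.inter_eq_right]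
  exact hZW

include hc in
theorem exists_isLocallyClosed_preimage_of_qcqs [∀ {i j : I} (f : i ⟶ j), IsAffineHom (D.map f)]
    {i₁ : I} [CompactSpace (D.obj i₁)] [QuasiSeparatedSpace (D.obj i₁)]
    {Z₁ : Set (D.obj i₁)} (hZ : IsConstructible Z₁)
    (hlc : IsLocallyClosed (⇑(c.π.app i₁) ⁻¹' Z₁)) :
    ∃ (j : I) (φ : j ⟶ i₁), IsLocallyClosed (⇑(D.map φ) ⁻¹' Z₁) := by
  have hZS : IsConstructible (⇑(c.π.app i₁) ⁻¹' Z₁) := (c.π.app i₁).isConstructible_preimage hZ
  obtain ⟨k, b, U', V', hU', hV', h⟩ :=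
    exists_sdiff_preimage_eq_of_isLocallyClosed D c hc i₁ _ hZS hlc
  have : CompactSpace (D.obj k) := compactSpace_of_hom D b
  have : QuasiSeparatedSpace (D.obj k) := quasiSeparatedSpace_of_hom D b
  have hZk : IsConstructible (⇑(D.map b) ⁻¹' Z₁) := (D.map b).isConstructible_preimage hZ
  have hUV : IsConstructible ((U' : Set (D.obj k)) \ V') :=
    (hU'.isConstructible U'.2).sdiff (hV'.isConstructible V'.2)
  have hπZk : ⇑(c.π.app k) ⁻¹' (⇑(D.map b) ⁻¹' Z₁) = ⇑(c.π.app i₁) ⁻¹' Z₁ := by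
    rw [← Set.preimage_comp, ← comp_coe, c.w]
  obtain ⟨l, ψ, hl⟩ := exists_preimage_eq_of_preimage_eq D c hc hZk hUV (hπZk.trans h.symm)
  refine ⟨l, ψ ≫ b, ?_⟩
  rw [D.map_comp, comp_coe, Set.preimage_comp, hl]
  have : IsLocallyClosed ((U' : Set (D.obj k)) \ V') :=
    ⟨U', (V' : Set (D.obj k))ᶜ, U'.2, V'.2.isClosed_compl, rfl⟩
  exact this.preimage (D.map ψ).continuous

/-- Local closedness can be checked on a finite open cover. -/
theorem isLocallyClosed_of_finite_cover {X : Type*} [TopologicalSpace X] (s : Set X)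
    (T : Finset (TopologicalSpace.Opens X)) (hT : (⋃ A ∈ T, (A : Set X)) = Set.univ)
    (h : ∀ A ∈ T, IsLocallyClosed (s ∩ (A : Set X))) : IsLocallyClosed s := by
  refine ((isLocallyClosed_tfae s).out 0 3).2 ?_
  intro x hx
  have : x ∈ ⋃ A ∈ T, (A : Set X) := by rw [hT]; trivial
  obtain ⟨A, hA, hxA⟩ := Set.mem_iUnion₂.1 this
  have h4 : ∀ x ∈ s ∩ (A : Set X), ∃ U, x ∈ U ∧ IsOpen U ∧
      U ∩ closure (s ∩ (A : Set X)) ⊆ s ∩ (A : Set X) :=
    ((isLocallyClosed_tfae (s ∩ (A : Set X))).out 0 3).1 (h A hA)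
  obtain ⟨U, hxU, hU, hUs⟩ := h4 x ⟨hx, hxA⟩
  refine ⟨U ∩ A, ⟨hxU, hxA⟩, hU.inter A.2, ?_⟩
  intro y ⟨⟨hyU, hyA⟩, hys⟩
  have : y ∈ closure (s ∩ (A : Set X)) := by
    exact A.2.closure_inter (s := s) ⟨hys, hyA⟩
  exact (hUs ⟨hyU, this⟩).1

end Groth.Agent.Helper9.Lim8

namespace Groth.Agent.Helper9.Lim8

open Topology

variable {I : Type u} [SmallCategory I] [IsCofiltered I]
  (D : I ⥤ Scheme.{u}) (c : Cone D) (hc : IsLimit c)

set_option backward.isDefEq.respectTransparency false in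
include hc in
/-- If all transition maps to `i` are dominant then so is the projection. -/
theorem isDominant_π_of_forall [∀ {i j : I} (f : i ⟶ j), IsAffineHom (D.map f)] (i : I)
    (h : ∀ (j : I) (φ : j ⟶ i), IsDominant (D.map φ)) : IsDominant (c.π.app i) := by
  refine ⟨?_⟩
  rw [DenseRange, dense_iff_inter_open]
  rintro U hU ⟨s, hs⟩
  obtain ⟨_, ⟨V, hV : IsAffineOpen V, rfl⟩, hsV, hVU⟩ :=
    (D.obj i).isBasis_affineOpens.exists_subset_of_mem_open hs hU
  have hAff (j : Over i) : IsAffine ((opensDiagram D i V).obj j) := hV.preimage _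
  have hCpt (j : Over i) : CompactSpace ((opensDiagram D i V).obj j) := inferInstance
  have hNe (j : Over i) : Nonempty ((opensDiagram D i V).obj j) := by
    have := (h j.left j.hom).denseRange
    obtain ⟨_, hyV, ⟨y, rfl⟩⟩ := (dense_iff_inter_open.1 this) V V.2 ⟨s, hsV⟩
    exact ⟨⟨y, hyV⟩⟩
  have hne : Nonempty (opensCone D c i V).pt :=
    Scheme.nonempty_of_isLimit _ _ (isLimitOpensCone D c hc i V)
  obtain ⟨⟨x, hx⟩⟩ := hne
  exact ⟨c.π.app i x, hVU hx, x, rfl⟩

include hc in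
/-- If all stages over `i` are nonempty and compact, then the limit is nonempty. -/
theorem nonempty_of_forall_over [∀ {i j : I} (f : i ⟶ j), IsAffineHom (D.map f)] (i : I)
    [CompactSpace (D.obj i)] (h : ∀ (j : I) (_ : j ⟶ i), Nonempty (D.obj j)) : Nonempty c.pt := by
  have hc' : IsLimit (c.whisker (Over.forget i)) :=
    (Functor.Initial.isLimitWhiskerEquiv (Over.forget i) c).symm hc
  have h1 : ∀ {j k : Over i} (f : j ⟶ k), IsAffineHom ((Over.forget i ⋙ D).map f) := by
    intro j k f; dsimp; infer_instance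
  have h2 : ∀ j : Over i, Nonempty ((Over.forget i ⋙ D).obj j) := fun j => h j.left j.hom
  have h3 : ∀ j : Over i, CompactSpace ((Over.forget i ⋙ D).obj j) :=
    fun j => compactSpace_of_hom D j.hom
  exact Scheme.nonempty_of_isLimit (Over.forget i ⋙ D) _ hc'

/-- An open subset with empty preimage under a dominant morphism is empty. -/
theorem eq_empty_of_preimage_eq_empty {X Y : Scheme.{u}} (f : X ⟶ Y) [IsDominant f]
    {U : Set Y} (hU : IsOpen U) (h : ⇑f ⁻¹' U = ∅) : U = ∅ := by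
  by_contra hne
  obtain ⟨_, hy, ⟨x, rfl⟩⟩ := (dense_iff_inter_open.1 f.denseRange) U hU
    (Set.nonempty_iff_ne_empty.2 hne)
  have : x ∈ ⇑f ⁻¹' U := hy
  rw [h] at this
  exact this

include hc in
/-- If the preimage of an open set `W` of a compact stage is everything, then this already
happens at some stage. -/
theorem exists_preimage_eq_univ [∀ {i j : I} (f : i ⟶ j), IsAffineHom (D.map f)] {i : I}
    [CompactSpace (D.obj i)] (W : (D.obj i).Opens) (h : ⇑(c.π.app i) ⁻¹' (W : Set (D.obj i)) = Set.univ) :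
    ∃ (j : I) (φ : j ⟶ i), ⇑(D.map φ) ⁻¹' (W : Set (D.obj i)) = Set.univ := by
  have H : c.π.app i ⁻¹ᵁ (⊤ : (D.obj i).Opens) ≤ c.π.app i ⁻¹ᵁ W := by
    intro x _
    have : x ∈ ⇑(c.π.app i) ⁻¹' (W : Set (D.obj i)) := by rw [h]; trivial
    exact this
  obtain ⟨j, φ, hj⟩ := exists_map_preimage_le_map_preimage D c hc
    (U := ⊤) (V := W) CompactSpace.isCompact_univ H
  refine ⟨j, φ, ?_⟩
  rw [Set.eq_univ_iff_forall]
  intro x
  exact hj (by trivial : x ∈ D.map φ ⁻¹ᵁ (⊤ : (D.obj i).Opens))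

end Groth.Agent.Helper9.Lim8

namespace Groth.Agent.Helper9.Lim8

open Topology

variable {I : Type u} [SmallCategory I] [IsCofiltered I]
  (D : I ⥤ Scheme.{u}) (c : Cone D) (hc : IsLimit c)

include hc in
/-- Two compact opens of the limit come from compact opens at a common stage over `i₀`. -/
theorem exists_pair_preimage_eq [∀ {i j : I} (f : i ⟶ j), IsAffineHom (D.map f)] (i₀ : I)
    (U V : c.pt.Opens) (hU : IsCompact (U : Set c.pt)) (hV : IsCompact (V : Set c.pt)) :
    ∃ (k : I) (_ : k ⟶ i₀) (U' V' : (D.obj k).Opens),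
      IsCompact (U' : Set (D.obj k)) ∧ IsCompact (V' : Set (D.obj k)) ∧
        ⇑(c.π.app k) ⁻¹' (U' : Set (D.obj k)) = (U : Set c.pt) ∧
        ⇑(c.π.app k) ⁻¹' (V' : Set (D.obj k)) = (V : Set c.pt) := by
  obtain ⟨a, φa, U₁, hU₁, hU₁U⟩ := exists_preimage_eq_over D c hc i₀ U hU
  obtain ⟨b, φb, V₁, hV₁, hV₁V⟩ := exists_preimage_eq_over D c hc i₀ V hV
  obtain ⟨k, α, β, hαβ⟩ := IsCofiltered.cospan φa φb
  refine ⟨k, α ≫ φa, D.map α ⁻¹ᵁ U₁, D.map β ⁻¹ᵁ V₁,
    QuasiCompact.isCompact_preimage (f := D.map α) U₁ U₁.2 hU₁,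
    QuasiCompact.isCompact_preimage (f := D.map β) V₁ V₁.2 hV₁, ?_, ?_⟩
  · have : c.π.app k ⁻¹ᵁ (D.map α ⁻¹ᵁ U₁) = U := by
      rw [← Scheme.Hom.comp_preimage, c.w, hU₁U]
    exact congrArg (fun W : c.pt.Opens => (W : Set c.pt)) this
  · have : c.π.app k ⁻¹ᵁ (D.map β ⁻¹ᵁ V₁) = V := by
      rw [← Scheme.Hom.comp_preimage, c.w, hV₁V]
    exact congrArg (fun W : c.pt.Opens => (W : Set c.pt)) this

include hc in
/-- The limit is compact as soon as one stage is. -/
theorem compactSpace_pt [∀ {i j : I} (f : i ⟶ j), IsAffineHom (D.map f)] (i₀ : I)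
    [CompactSpace (D.obj i₀)] : CompactSpace c.pt := by
  have : IsAffineHom (c.π.app i₀) := isAffineHom_π_app D c hc i₀
  exact QuasiCompact.compactSpace_of_compactSpace (c.π.app i₀)

include hc in
/-- Two disjoint compact opens covering the limit come from two disjoint compact opens covering
a stage over `i₀` (quasi-compact and quasi-separated). -/
theorem exists_disjoint_cover [∀ {i j : I} (f : i ⟶ j), IsAffineHom (D.map f)] (i₀ : I)
    [CompactSpace (D.obj i₀)] [QuasiSeparatedSpace (D.obj i₀)]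
    (s : Set c.pt) (hs : IsClopen s) :
    ∃ (k : I) (_ : k ⟶ i₀) (U' V' : (D.obj k).Opens),
      ⇑(c.π.app k) ⁻¹' (U' : Set (D.obj k)) = s ∧
      ⇑(c.π.app k) ⁻¹' (V' : Set (D.obj k)) = sᶜ ∧
      (U' : Set (D.obj k)) ∩ V' = ∅ ∧ (U' : Set (D.obj k)) ∪ V' = Set.univ := by
  have := compactSpace_pt D c hc i₀
  obtain ⟨k, b, U', V', hU', hV', hU's, hV's⟩ := exists_pair_preimage_eq D c hc i₀
    ⟨s, hs.isOpen⟩ ⟨sᶜ, hs.compl.isOpen⟩ hs.isClosed.isCompact hs.compl.isClosed.isCompact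
  have : CompactSpace (D.obj k) := compactSpace_of_hom D b
  have : QuasiSeparatedSpace (D.obj k) := quasiSeparatedSpace_of_hom D b
  have hUc : IsConstructible (U' : Set (D.obj k)) := hU'.isConstructible U'.2
  have hVc : IsConstructible (V' : Set (D.obj k)) := hV'.isConstructible V'.2
  have hE : IsConstructible (((U' : Set (D.obj k)) ∩ V') ∪ ((U' : Set (D.obj k)) ∪ V')ᶜ) :=
    (hUc.inter hVc).union (hUc.union hVc).compl
  obtain ⟨l, ψ, hl⟩ := exists_preimage_eq_empty D c hc hE (by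
    rw [Set.preimage_union, Set.preimage_inter, Set.preimage_compl, Set.preimage_union, hU's, hV's]
    simp)
  refine ⟨l, ψ ≫ b, D.map ψ ⁻¹ᵁ U', D.map ψ ⁻¹ᵁ V', ?_, ?_, ?_, ?_⟩
  · change ⇑(c.π.app l) ⁻¹' (⇑(D.map ψ) ⁻¹' (U' : Set (D.obj k))) = s
    rw [← Set.preimage_comp, ← comp_coe, c.w, hU's]
    rfl
  · change ⇑(c.π.app l) ⁻¹' (⇑(D.map ψ) ⁻¹' (V' : Set (D.obj k))) = sᶜ
    rw [← Set.preimage_comp, ← comp_coe, c.w, hV's]
    rfl
  · rw [Set.preimage_union, Set.union_empty_iff, Set.preimage_inter] at hl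
    exact hl.1
  · rw [Set.preimage_union, Set.union_empty_iff, Set.preimage_compl, Set.compl_empty_iff,
      Set.preimage_union] at hl
    exact hl.2

end Groth.Agent.Helper9.Lim8

namespace Groth.Agent.Helper9.Lim8

open Topology

variable {I : Type u} [SmallCategory I] [IsCofiltered I]
  (D : I ⥤ Scheme.{u}) (c : Cone D) (hc : IsLimit c)

include hc in
/-- A map out of the limit is open as soon as, cofinally, images of preimages of opens of the
stages are open. -/
theorem isOpenMap_of_forall_image_preimage [∀ {i j : I} (f : i ⟶ j), IsAffineHom (D.map f)]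
    {Z : Type*} [TopologicalSpace Z] (F : c.pt → Z)
    (h : ∀ j : I, ∃ (k : I) (_ : k ⟶ j), ∀ U : Set (D.obj k), IsOpen U →
      IsOpen (F '' (⇑(c.π.app k) ⁻¹' U))) : IsOpenMap F := by
  intro W hW
  rw [isOpen_iff_mem_nhds]
  rintro _ ⟨x, hx, rfl⟩
  obtain ⟨_, ⟨j, V, -, rfl⟩, hxV, hVW⟩ :=
    TopologicalSpace.Opens.isBasis_iff_nbhd.1 (isBasis_preimage_isAffineOpen D c hc)
      (U := ⟨W, hW⟩) (x := x) hx
  obtain ⟨k, a, hk⟩ := h j
  have hopen := hk (⇑(D.map a) ⁻¹' (V : Set (D.obj j))) (V.2.preimage (D.map a).continuous)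
  rw [← Set.preimage_comp, ← comp_coe, c.w] at hopen
  refine Filter.mem_of_superset (hopen.mem_nhds ⟨x, hxV, rfl⟩) ?_
  exact Set.image_mono hVW

end Groth.Agent.Helper9.Lim8
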