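import Mathlib
import Groth.Agent.S0556
import Groth.Agent.Lib.Helper12.KrullAkizuki

set_option autoImplicit false
universe u

namespace Groth.Agent.Helper9.SLD1

variable {K : Type u} [Field K]

/-- Krull–Akizuki for subrings of `K`. -/
theorem isNoetherianRing_of_le (R : Subring K) [IsFractionRing R K] [IsNoetherianRing R]
    (hdim : ringKrullDim R = 1) (C : Subring K) (h : R ≤ C) : IsNoetherianRing C := by
  letI : Algebra R C := (Subring.inclusion h).toAlgebra
  haveI : IsScalarTower R C K := IsScalarTower.of_algebraMap_eq (fun x => rfl)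
  exact Groth.Agent.S0556.result R hdim K K C Subtype.val_injective

theorem isDVR_of_isNoetherian (V : ValuationSubring K) [IsNoetherianRing V] (hV : V ≠ ⊤) :
    IsDiscreteValuationRing V := by
  have hVR : ValuationRing V := inferInstance
  have h10 : ValuationRing V ↔ IsPrincipalIdealRing V :=
    (tfae_of_isNoetherianRing_of_isLocalRing_of_isDomain V).out 1 0
  have hPID : IsPrincipalIdealRing V := h10.mp hVR
  refine { hPID with not_a_field' := ?_ }
  intro hbot
  have hex : ∃ x : K, x ∉ V := by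
    by_contra hall
    push Not at hall
    exact hV (eq_top_iff.mpr fun x _ => hall x)
  obtain ⟨x, hx⟩ := hex
  have hx0 : x ≠ 0 := fun h => hx (h ▸ V.zero_mem)
  have hx' : x⁻¹ ∈ V := (V.mem_or_inv_mem x).resolve_left hx
  have hmem : (⟨x⁻¹, hx'⟩ : V) ∈ IsLocalRing.maximalIdeal V := by
    rw [IsLocalRing.mem_maximalIdeal, mem_nonunits_iff]
    intro hu
    obtain ⟨⟨u, hu'⟩, huv⟩ := hu.exists_right_inv
    have h1 : x⁻¹ * u = 1 := congrArg Subtype.val huv
    have h2 : u = x := by
      have := congrArg (fun t => x * t) h1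
      simpa [hx0] using this
    exact hx (h2 ▸ hu')
  rw [hbot, Ideal.mem_bot] at hmem
  have h3 : x⁻¹ = 0 := congrArg Subtype.val hmem
  exact hx0 (inv_eq_zero.mp h3)

theorem exists_dvr (R : Subring K) [IsFractionRing R K] [IsNoetherianRing R]
    (hdim : ringKrullDim R = 1) (C : Subring K) (h : R ≤ C) (I : Ideal C) (hI : I ≠ ⊤)
    (c : C) (hcI : c ∈ I) (hc0 : c ≠ 0) :
    ∃ V : ValuationSubring K, IsDiscreteValuationRing V ∧ C ≤ V.toSubring ∧
      ∀ x ∈ I, (x : K) ∈ V.nonunits := by
  obtain ⟨V, hCV, hIV⟩ := Ideal.image_subset_nonunits_valuationSubring I hI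
  haveI : IsNoetherianRing V.toSubring :=
    isNoetherianRing_of_le R hdim V.toSubring (h.trans hCV)
  haveI : IsNoetherianRing V := ‹IsNoetherianRing V.toSubring›
  have hVtop : V ≠ ⊤ := by
    rintro rfl
    have h1 : (c : K) ∈ (⊤ : ValuationSubring K).nonunits := hIV ⟨c, hcI, rfl⟩
    rw [ValuationSubring.mem_nonunits_iff_or] at h1
    rcases h1 with h1 | h1
    · exact hc0 (Subtype.ext h1)
    · exact h1 (ValuationSubring.mem_top _)
  exact ⟨V, isDVR_of_isNoetherian V hVtop, hCV, fun x hx => hIV ⟨x, hx, rfl⟩⟩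

theorem dvr_ne_top (O : ValuationSubring K) [IsDiscreteValuationRing O] : O.toSubring ≠ ⊤ := by
  intro htop
  obtain ⟨ϖ, hϖ⟩ := IsDiscreteValuationRing.exists_irreducible O
  have h0 : (ϖ : K) ≠ 0 := fun h => hϖ.ne_zero (Subtype.ext h)
  have hmem : (ϖ : K)⁻¹ ∈ O.toSubring := htop ▸ Subring.mem_top _
  apply hϖ.not_isUnit
  exact IsUnit.of_mul_eq_one (⟨(ϖ : K)⁻¹, hmem⟩ : O) (Subtype.ext (mul_inv_cancel₀ h0))

/-- Krull–Akizuki, general form. -/
theorem isNoetherianRing_of_tower (R : Type u) [CommRing R] [IsDomain R] [IsNoetherianRing R]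
    [Algebra R K] [IsFractionRing R K] (hdim : ringKrullDim R = 1)
    (C : Type u) [CommRing C] [Algebra R C] [Algebra C K] [IsScalarTower R C K]
    (hinj : Function.Injective (algebraMap C K)) : IsNoetherianRing C :=
  Groth.Agent.S0556.result R hdim K K C hinj

/-- Krull–Akizuki, dimension part: nonzero primes of an overring are maximal. -/
theorem isMaximal_of_tower (R : Type u) [CommRing R] [IsDomain R] [IsNoetherianRing R]
    [Algebra R K] [IsFractionRing R K] (hdim : ringKrullDim R = 1)
    (C : Type u) [CommRing C] [Algebra R C] [Algebra C K] [IsScalarTower R C K]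
    (hinj : Function.Injective (algebraMap C K)) (P : Ideal C) [hP : P.IsPrime]
    (hP0 : P ≠ ⊥) : P.IsMaximal := by
  obtain ⟨c, hcP, hc0⟩ := Submodule.exists_mem_ne_zero_of_ne_bot hP0
  obtain ⟨n, d, hd, hnd⟩ := IsFractionRing.div_surjective (A := R) (algebraMap C K c)
  have hd0 : algebraMap R K d ≠ 0 := fun h =>
    (nonZeroDivisors.ne_zero hd) (IsFractionRing.injective R K (by rw [h, map_zero]))
  have hcK : algebraMap C K c ≠ 0 := fun h => hc0 (hinj (by rw [h, map_zero]))
  have hnK : algebraMap R K n = algebraMap C K c * algebraMap R K d := by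
    rw [← hnd, div_mul_cancel₀ _ hd0]
  have hn0 : n ≠ 0 := by
    intro h0
    have : algebraMap R K n = 0 := by rw [h0, map_zero]
    rw [hnK] at this
    exact (mul_ne_zero hcK hd0) this
  have hnP : algebraMap R C n ∈ P := by
    have : algebraMap R C n = c * algebraMap R C d := by
      apply hinj
      rw [map_mul, ← IsScalarTower.algebraMap_apply, ← IsScalarTower.algebraMap_apply, hnK]
    rw [this]
    exact P.mul_mem_right _ hcP
  obtain ⟨ι, hι⟩ : ∃ ι : C →ₗ[R] K, ∀ x, ι x = algebraMap C K x :=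
    ⟨(IsScalarTower.toAlgHom R C K).toLinearMap, fun x => rfl⟩
  have hιinj : Function.Injective ι := fun x y hxy => hinj (by rw [← hι, ← hι, hxy])
  obtain ⟨hRa, hlen⟩ := Groth.Agent.Helper12.KA.length_quot_le_finrank R hdim K K C ι hιinj n hn0
  have hfin : Module.length R (C ⧸ Groth.Agent.Helper12.KA.aN C n 1) ≠ ⊤ := by
    rw [Module.finrank_self, Nat.cast_one, one_mul] at hlen
    exact ne_top_of_le_ne_top hRa hlen
  let f : C →ₗ[R] (C ⧸ P) := (Ideal.Quotient.mkₐ R P).toLinearMap
  have hf : Function.Surjective f := Ideal.Quotient.mk_surjective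
  have hker : Groth.Agent.Helper12.KA.aN C n 1 ≤ LinearMap.ker f := by
    intro x hx
    obtain ⟨y, rfl⟩ := Groth.Agent.Helper12.KA.mem_aN.mp hx
    rw [LinearMap.mem_ker]
    show Ideal.Quotient.mk P (n ^ 1 • y) = 0
    rw [Ideal.Quotient.eq_zero_iff_mem, pow_one, Algebra.smul_def]
    exact P.mul_mem_right _ hnP
  let g : (C ⧸ Groth.Agent.Helper12.KA.aN C n 1) →ₗ[R] (C ⧸ P) :=
    Submodule.liftQ _ f hker
  have hg : Function.Surjective g := by
    intro y
    obtain ⟨x, rfl⟩ := hf y
    exact ⟨Submodule.Quotient.mk x, rfl⟩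
  have hlenP : Module.length R (C ⧸ P) ≠ ⊤ :=
    ne_top_of_le_ne_top hfin (Module.length_le_of_surjective g hg)
  have hFL : IsFiniteLength R (C ⧸ P) := Module.length_ne_top_iff.mp hlenP
  haveI : IsArtinian R (C ⧸ P) := (isFiniteLength_iff_isNoetherian_isArtinian.mp hFL).2
  haveI : IsArtinianRing (C ⧸ P) := isArtinian_of_tower R ‹IsArtinian R (C ⧸ P)›
  haveI : IsDomain (C ⧸ P) := Ideal.Quotient.isDomain P
  exact Ideal.Quotient.maximal_of_isField _ (IsArtinianRing.isField_of_isDomain (C ⧸ P))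

theorem isMaximal_of_le (R : Subring K) [IsFractionRing R K] [IsNoetherianRing R]
    (hdim : ringKrullDim R = 1) (C : Subring K) (h : R ≤ C) (P : Ideal C) [hP : P.IsPrime]
    (hP0 : P ≠ ⊥) : P.IsMaximal := by
  letI : Algebra R C := (Subring.inclusion h).toAlgebra
  haveI : IsScalarTower R C K := IsScalarTower.of_algebraMap_eq (fun x => rfl)
  exact isMaximal_of_tower R hdim C Subtype.val_injective P hP0

/-- In a Noetherian domain whose nonzero primes are maximal, powers of an element of the Jacobson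
radical eventually lie in any nonzero principal ideal. -/
theorem exists_pow_mem_span {B : Type*} [CommRing B] [IsDomain B] [IsNoetherianRing B]
    (hmax : ∀ P : Ideal B, P.IsPrime → P ≠ ⊥ → P.IsMaximal) (e d : B)
    (he : e ∈ (⊥ : Ideal B).jacobson) (hd : d ≠ 0) :
    ∃ N : ℕ, ∀ n, N ≤ n → e ^ n ∈ Ideal.span {d} := by
  haveI : Ring.KrullDimLE 0 (B ⧸ Ideal.span {d}) := by
    rw [Ideal.krullDimLE_zero_quotient_iff_forall_minimalPrimes_isMaximal]
    intro J hJ
    refine hmax J hJ.1.1 ?_
    intro hbot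
    have : d ∈ J := hJ.1.2 (Ideal.subset_span rfl)
    rw [hbot, Ideal.mem_bot] at this
    exact hd this
  haveI : IsArtinianRing (B ⧸ Ideal.span {d}) :=
    IsNoetherianRing.isArtinianRing_of_krullDimLE_zero
  obtain ⟨N, hN⟩ := IsArtinianRing.isNilpotent_jacobson_bot (R := B ⧸ Ideal.span {d})
  have hemem : Ideal.Quotient.mk (Ideal.span {d}) e ∈
      (⊥ : Ideal (B ⧸ Ideal.span {d})).jacobson := by
    rw [Ideal.mem_jacobson_bot]
    intro y
    obtain ⟨y, rfl⟩ := Ideal.Quotient.mk_surjective y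
    rw [← map_mul, ← map_one (Ideal.Quotient.mk (Ideal.span {d})), ← map_add]
    exact (Ideal.mem_jacobson_bot.mp he y).map _
  refine ⟨N, fun n hn => ?_⟩
  rw [← Ideal.Quotient.eq_zero_iff_mem, map_pow]
  have h1 : (Ideal.Quotient.mk (Ideal.span {d}) e) ^ N ∈
      (⊥ : Ideal (B ⧸ Ideal.span {d})).jacobson ^ N := Ideal.pow_mem_pow hemem N
  rw [hN] at h1
  have h2 : (Ideal.Quotient.mk (Ideal.span {d}) e) ^ N = 0 := h1
  rw [← Nat.sub_add_cancel hn, pow_add, h2, mul_zero]

/-- If `z` lies in all maximal ideals of the integral closure of the one-dimensional Noetherian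
domain `B`, then large powers of `z` lie in the Jacobson radical of `B`. -/
theorem exists_pow_mem_jacobson (B : Type u) [CommRing B] [IsDomain B] [IsNoetherianRing B]
    [Algebra B K] [IsFractionRing B K] (hdim : ringKrullDim B = 1) (z : K)
    (hz : z ∈ integralClosure B K)
    (hQ : ∀ Q : Ideal (integralClosure B K), Q.IsMaximal →
      (⟨z, hz⟩ : integralClosure B K) ∈ Q) :
    ∃ N : ℕ, ∀ n, N ≤ n → ∃ b : B, algebraMap B K b = z ^ n ∧ b ∈ (⊥ : Ideal B).jacobson := by
  classical
  let M : Subalgebra B K := Algebra.adjoin B {z}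
  have hzint : IsIntegral B z := hz
  have hMfg : M.toSubmodule.FG := hzint.fg_adjoin_singleton
  have hMle : M ≤ integralClosure B K := Algebra.adjoin_le (Set.singleton_subset_iff.mpr hz)
  have hzM : z ∈ M := Algebra.subset_adjoin (Set.mem_singleton z)
  let z' : M := ⟨z, hzM⟩
  have hinjM : Function.Injective (algebraMap M K) := Subtype.val_injective
  haveI : IsNoetherianRing M := isNoetherianRing_of_tower B hdim M hinjM
  have hmaxM : ∀ P : Ideal M, P.IsPrime → P ≠ ⊥ → P.IsMaximal :=
    fun P hP hP0 => isMaximal_of_tower B hdim M hinjM P hP0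
  haveI : Algebra.IsIntegral B M := ⟨fun y =>
    (isIntegral_algHom_iff M.val Subtype.val_injective).mp
      (IsIntegral.of_mem_of_fg M hMfg y.1 y.2)⟩
  let φ : M →ₐ[B] integralClosure B K := Subalgebra.inclusion hMle
  letI : Algebra M (integralClosure B K) := φ.toRingHom.toAlgebra
  haveI : IsScalarTower B M (integralClosure B K) :=
    IsScalarTower.of_algebraMap_eq (fun b => (φ.commutes b).symm)
  haveI : Algebra.IsIntegral M (integralClosure B K) := Algebra.IsIntegral.tower_top (R := B)
  have hφinj : Function.Injective (algebraMap M (integralClosure B K)) :=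
    Subalgebra.inclusion_injective hMle
  have hBMinj : Function.Injective (algebraMap B M) := by
    intro a b hab
    apply IsFractionRing.injective B K
    have := congrArg (algebraMap M K) hab
    exact this
  have hzJ : ∀ q : Ideal M, q.IsMaximal → z' ∈ q := by
    intro q hq
    obtain ⟨Q, hQmax, hQq⟩ := Ideal.exists_ideal_over_maximal_of_isIntegral
      (S := integralClosure B K) q
      (by rw [(RingHom.injective_iff_ker_eq_bot _).mp hφinj]; exact bot_le)
    have h1 : (⟨z, hz⟩ : integralClosure B K) ∈ Q := hQ Q hQmax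
    rw [← hQq]
    exact h1
  have hzJ' : z' ∈ (⊥ : Ideal M).jacobson := by
    rw [Ideal.jacobson, Ideal.mem_sInf]
    rintro q ⟨-, hq⟩
    exact hzJ q hq
  obtain ⟨G, hG⟩ := hMfg
  obtain ⟨⟨c, hc⟩, hcG⟩ :=
    IsLocalization.exist_integer_multiples_of_finset (nonZeroDivisors B) G
  have hc0 : c ≠ 0 := nonZeroDivisors.ne_zero hc
  have hcM' : ∀ m : K, m ∈ Submodule.span B (G : Set K) →
      ∃ b : B, algebraMap B K b = algebraMap B K c * m := by
    intro m hm'
    induction hm' using Submodule.span_induction with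
    | mem g hg =>
      obtain ⟨b, hb⟩ := hcG g hg
      exact ⟨b, by rw [hb, Algebra.smul_def]⟩
    | zero => exact ⟨0, by rw [map_zero, mul_zero]⟩
    | add x y _ _ hx hy =>
      obtain ⟨bx, hbx⟩ := hx
      obtain ⟨by', hby⟩ := hy
      exact ⟨bx + by', by rw [map_add, hbx, hby, mul_add]⟩
    | smul r x _ hx =>
      obtain ⟨bx, hbx⟩ := hx
      exact ⟨r * bx, by rw [map_mul, hbx, Algebra.smul_def]; ring⟩
  have hcM : ∀ m ∈ M, ∃ b : B, algebraMap B K b = algebraMap B K c * m :=
    fun m hm => hcM' m (by rw [hG]; exact hm)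
  let c' : M := algebraMap B M c
  have hc'0 : c' ≠ 0 := fun h => hc0 (hBMinj (by rw [map_zero]; exact h))
  obtain ⟨N, hN⟩ := exists_pow_mem_span hmaxM z' c' hzJ' hc'0
  refine ⟨max N 1, fun n hn => ?_⟩
  have hn1 : N ≤ n := le_trans (le_max_left _ _) hn
  have hn2 : 0 < n := lt_of_lt_of_le Nat.zero_lt_one (le_trans (le_max_right _ _) hn)
  obtain ⟨m, hm⟩ := Ideal.mem_span_singleton'.mp (hN n hn1)
  obtain ⟨b, hb⟩ := hcM m.1 m.2
  have hbz : algebraMap B K b = z ^ n := by
    rw [hb]
    have h1 := congrArg (algebraMap M K) hm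
    rw [map_mul, map_pow] at h1
    rw [mul_comm]
    exact h1
  refine ⟨b, hbz, ?_⟩
  rw [Ideal.jacobson, Ideal.mem_sInf]
  rintro p ⟨-, hp⟩
  haveI := hp
  obtain ⟨q, hqmax, hqp⟩ := Ideal.exists_ideal_over_maximal_of_isIntegral (S := M) p
    (by rw [(RingHom.injective_iff_ker_eq_bot _).mp hBMinj]; exact bot_le)
  have h1 : z' ^ n ∈ q := Ideal.pow_mem_of_mem q (hzJ q hqmax) n hn2
  have h2 : algebraMap B M b = z' ^ n := Subtype.ext hbz
  rw [← hqp, Ideal.mem_comap, h2]
  exact h1

section Valuations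
open WithZero

theorem exists_lt_pow_of_one_lt (x y : ℤᵐ⁰) (hx : 1 < x) : ∃ n : ℕ, y < x ^ n := by
  obtain ⟨n, hn⟩ := MulArchimedean.arch y hx
  exact ⟨n + 1, lt_of_le_of_lt hn (by
    rw [pow_succ]
    exact lt_mul_of_one_lt_right (pow_pos (lt_trans zero_lt_one hx) n) hx)⟩

/-- Simultaneous "pole" for finitely many discrete valuations. -/
theorem exists_forall_one_lt {ι : Type*} (s : Finset ι) (w : ι → Valuation K ℤᵐ⁰) (A : Subring K)
    (h : ∀ j ∈ s, ∃ a ∈ A, 1 < w j a) : ∃ a ∈ A, a ≠ 0 ∧ ∀ j ∈ s, 1 < w j a := by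
  classical
  induction s using Finset.induction_on with
  | empty => exact ⟨1, A.one_mem, one_ne_zero, fun j hj => absurd hj (Finset.notMem_empty j)⟩
  | insert j₀ s hj₀ ih =>
    obtain ⟨a, haA, ha0, ha⟩ := ih (fun j hj => h j (Finset.mem_insert_of_mem hj))
    obtain ⟨b, hbA, hb⟩ := h j₀ (Finset.mem_insert_self j₀ s)
    by_cases hcase : 1 < w j₀ a
    · refine ⟨a, haA, ha0, fun j hj => ?_⟩
      rcases Finset.mem_insert.mp hj with hjj | hj
      · rw [hjj]; exact hcase
      · exact ha j hj
    · push Not at hcase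
      have hN : ∃ N : ℕ, 0 < N ∧ ∀ j ∈ s, w j b < (w j a) ^ N := by
        choose! n hn using fun j (hj : j ∈ s) => exists_lt_pow_of_one_lt (w j a) (w j b) (ha j hj)
        refine ⟨s.sup n + 1, Nat.succ_pos _, fun j hj => ?_⟩
        refine lt_of_lt_of_le (hn j hj) ?_
        exact pow_le_pow_right₀ (ha j hj).le (le_trans (Finset.le_sup hj) (Nat.le_succ _))
      obtain ⟨N, hN0, hN⟩ := hN
      have h1' : w j₀ (a ^ N) < w j₀ b := by
        rw [map_pow]
        exact lt_of_le_of_lt (pow_le_one₀ zero_le hcase) hb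
      have hne : a ^ N + b ≠ 0 := by
        intro h0
        have h2 : w j₀ (a ^ N + b) = w j₀ b := Valuation.map_add_eq_of_lt_right _ h1'
        rw [h0, map_zero] at h2
        rw [← h2] at hb
        exact not_lt_of_ge zero_le hb
      refine ⟨a ^ N + b, A.add_mem (A.pow_mem haA N) hbA, hne, fun j hj => ?_⟩
      rcases Finset.mem_insert.mp hj with hjj | hj
      · rw [hjj]
        have h1 : w j₀ (a ^ N) < w j₀ b := by
          rw [map_pow]
          exact lt_of_le_of_lt (pow_le_one₀ zero_le hcase) hb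
        rw [Valuation.map_add_eq_of_lt_right _ h1]
        exact hb
      · have h1 : w j b < w j (a ^ N) := by rw [map_pow]; exact hN j hj
        rw [Valuation.map_add_eq_of_lt_left _ h1, map_pow]
        exact one_lt_pow₀ (ha j hj) hN0.ne'

end Valuations

section Dedekind
open IsDedekindDomain

variable (B : Type u) [CommRing B] [IsDomain B] [IsNoetherianRing B] [Algebra B K]
  [IsFractionRing B K]

theorem isDedekindDomain_integralClosure (hdim : ringKrullDim B = 1) :
    IsDedekindDomain (integralClosure B K) := by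
  have hinj : Function.Injective (algebraMap (integralClosure B K) K) := Subtype.val_injective
  refine (isDedekindDomain_iff (integralClosure B K) K).mpr
    ⟨inferInstance, isNoetherianRing_of_tower B hdim _ hinj,
    ⟨fun {P} hP0 hP => ?_⟩, fun {x} hx => ?_⟩
  · haveI := hP
    exact isMaximal_of_tower B hdim _ hinj P hP0
  · have h1 : IsIntegral B x := isIntegral_trans x hx
    exact ⟨⟨x, h1⟩, rfl⟩

theorem maximal_ne_bot (hdim : ringKrullDim B = 1) (m : Ideal B) (hm : m.IsMaximal) : m ≠ ⊥ := by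
  rintro rfl
  have hF : IsField B := Ring.isField_iff_maximal_bot.mpr hm
  have h1 := ringKrullDim_eq_zero_of_isField hF
  rw [hdim] at h1
  exact one_ne_zero h1

theorem exists_mem_jacobson_ne_zero (hdim : ringKrullDim B = 1) [Finite (MaximalSpectrum B)] :
    ∃ c : B, c ≠ 0 ∧ ∀ m : Ideal B, m.IsMaximal → c ∈ m := by
  classical
  haveI := Fintype.ofFinite (MaximalSpectrum B)
  have hex : ∀ m : MaximalSpectrum B, ∃ c ∈ m.asIdeal, c ≠ 0 := fun m =>
    Submodule.exists_mem_ne_zero_of_ne_bot (maximal_ne_bot B hdim m.asIdeal m.isMaximal)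
  choose c hc hc0 using hex
  refine ⟨∏ m, c m, Finset.prod_ne_zero_iff.mpr (fun m _ => hc0 m), fun m hm => ?_⟩
  exact Ideal.prod_mem m (Finset.mem_univ (⟨m, hm⟩ : MaximalSpectrum B)) (hc ⟨m, hm⟩)

theorem injective_algebraMap_integralClosure :
    Function.Injective (algebraMap B (integralClosure B K)) := by
  intro a b hab
  apply IsFractionRing.injective B K
  exact congrArg Subtype.val hab

theorem finite_heightOneSpectrum (hdim : ringKrullDim B = 1) [Finite (MaximalSpectrum B)] :
    Finite (HeightOneSpectrum (integralClosure B K)) := by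
  haveI := isDedekindDomain_integralClosure (K := K) B hdim
  obtain ⟨c, hc0, hc⟩ := exists_mem_jacobson_ne_zero B hdim
  obtain ⟨c', hc'⟩ : ∃ c' : integralClosure B K, c' = algebraMap B _ c := ⟨_, rfl⟩
  have hc'0 : c' ≠ 0 := fun h => hc0 (injective_algebraMap_integralClosure (K := K) B
    (by rw [map_zero, ← hc']; exact h))
  have hfin := Ideal.finite_factors (R := integralClosure B K) (I := Ideal.span {c'})
    (by rw [Ne, Ideal.zero_eq_bot, Ideal.span_singleton_eq_bot]; exact hc'0)
  have hall : ∀ v : HeightOneSpectrum (integralClosure B K),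
      v ∈ {v : HeightOneSpectrum (integralClosure B K) | v.asIdeal ∣ Ideal.span {c'}} := by
    intro v
    show v.asIdeal ∣ Ideal.span {c'}
    rw [Ideal.dvd_span_singleton, hc']
    have hmax : (v.asIdeal.comap (algebraMap B (integralClosure B K))).IsMaximal :=
      Ideal.isMaximal_comap_of_isIntegral_of_isMaximal v.asIdeal
    exact hc _ hmax
  exact Set.finite_univ_iff.mp (hfin.subset (fun v _ => hall v))

/-- an element all of whose valuations are `< 1` lies in all maximal ideals of the integral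
closure -/
theorem mem_maximal_of_valuation_lt_one (hdim : ringKrullDim B = 1)
    [IsDedekindDomain (integralClosure B K)] (z : K)
    (hv : ∀ v : HeightOneSpectrum (integralClosure B K), v.valuation K z < 1) :
    ∃ hz : z ∈ integralClosure B K, ∀ Q : Ideal (integralClosure B K), Q.IsMaximal →
      (⟨z, hz⟩ : integralClosure B K) ∈ Q := by
  obtain ⟨y, hy⟩ := HeightOneSpectrum.mem_integers_of_valuation_le_one K z (fun v => (hv v).le)
  have hz : z ∈ integralClosure B K := by
    have : (y : K) = z := hy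
    rw [← this]; exact y.2
  refine ⟨hz, fun Q hQ => ?_⟩
  have hQ0 : Q ≠ ⊥ := by
    rintro rfl
    have hmax : ((⊥ : Ideal (integralClosure B K)).comap
        (algebraMap B (integralClosure B K))).IsMaximal :=
      Ideal.isMaximal_comap_of_isIntegral_of_isMaximal _
    have hbot : (⊥ : Ideal (integralClosure B K)).comap (algebraMap B (integralClosure B K)) = ⊥ := by
      rw [← RingHom.ker_eq_comap_bot,
        (RingHom.injective_iff_ker_eq_bot _).mp (injective_algebraMap_integralClosure (K := K) B)]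
    rw [hbot] at hmax
    exact maximal_ne_bot B hdim ⊥ hmax rfl
  let v : HeightOneSpectrum (integralClosure B K) := ⟨Q, hQ.isPrime, hQ0⟩
  have h1 : v.valuation K (algebraMap (integralClosure B K) K ⟨z, hz⟩) < 1 := hv v
  exact (HeightOneSpectrum.valuation_lt_one_iff_mem v (⟨z, hz⟩ : integralClosure B K)).mp h1

end Dedekind

section ThmX
open IsDedekindDomain WithZero

theorem exists_pole (B : Subring K) [IsNoetherianRing B] [IsFractionRing B K]
    [IsDedekindDomain (integralClosure B K)] (A : Subring K) (hgen : A ⊔ B = ⊤)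
    (v : HeightOneSpectrum (integralClosure B K)) : ∃ a ∈ A, 1 < v.valuation K a := by
  by_contra hcon
  push Not at hcon
  have hB : B ≤ (v.valuation K).valuationSubring.toSubring := by
    intro b hb
    have hbi : b ∈ integralClosure B K := by
      have : b = algebraMap B K ⟨b, hb⟩ := rfl
      rw [this]; exact Subalgebra.algebraMap_mem _ _
    exact v.valuation_le_one (K := K) (⟨b, hbi⟩ : integralClosure B K)
  have hA : A ≤ (v.valuation K).valuationSubring.toSubring := fun a ha => hcon a ha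
  have htop : (⊤ : Subring K) ≤ (v.valuation K).valuationSubring.toSubring := by
    rw [← hgen]; exact sup_le hA hB
  obtain ⟨π, hπ⟩ := v.valuation_exists_uniformizer K
  have h1 : v.valuation K π⁻¹ ≤ 1 := htop (Subring.mem_top _)
  rw [map_inv₀, hπ, ← WithZero.exp_neg, neg_neg, ← WithZero.exp_zero] at h1
  have := WithZero.exp_le_exp.mp h1
  omega

theorem exists_inv_mem_jacobson {ι : Type*} [Finite ι] (A : Subring K) (B : ι → Subring K)
    [∀ i, IsNoetherianRing (B i)] [∀ i, IsFractionRing (B i) K]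
    (hdim : ∀ i, ringKrullDim (B i) = 1) (hsl : ∀ i, Finite (MaximalSpectrum (B i)))
    (hgen : ∀ i, A ⊔ B i = ⊤) :
    ∃ x : K, x ∈ A ∧ x ≠ 0 ∧
      ∀ i, ∃ hx : x⁻¹ ∈ B i, (⟨x⁻¹, hx⟩ : B i) ∈ (⊥ : Ideal (B i)).jacobson := by
  classical
  haveI := Fintype.ofFinite ι
  haveI hD : ∀ i, IsDedekindDomain (integralClosure (B i) K) := fun i =>
    isDedekindDomain_integralClosure (K := K) (B i) (hdim i)
  haveI hfin : ∀ i, Finite (HeightOneSpectrum (integralClosure (B i) K)) := fun i => by
    haveI := hsl i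
    exact finite_heightOneSpectrum (K := K) (B i) (hdim i)
  haveI : ∀ i, Fintype (HeightOneSpectrum (integralClosure (B i) K)) := fun i =>
    Fintype.ofFinite _
  obtain ⟨a, haA, ha0, ha⟩ := exists_forall_one_lt
    (Finset.univ : Finset (Σ i, HeightOneSpectrum (integralClosure (B i) K)))
    (fun j => j.2.valuation K) A
    (fun j _ => exists_pole (B j.1) A (hgen j.1) j.2)
  have hz : ∀ i, ∀ v : HeightOneSpectrum (integralClosure (B i) K), v.valuation K a⁻¹ < 1 := by
    intro i v
    rw [map_inv₀]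
    exact inv_lt_one_of_one_lt₀ (ha ⟨i, v⟩ (Finset.mem_univ _))
  have hN : ∀ i, ∃ N : ℕ, ∀ n, N ≤ n →
      ∃ b : B i, algebraMap (B i) K b = a⁻¹ ^ n ∧ b ∈ (⊥ : Ideal (B i)).jacobson := by
    intro i
    obtain ⟨hzi, hQ⟩ := mem_maximal_of_valuation_lt_one (B i) (hdim i) a⁻¹ (hz i)
    exact exists_pow_mem_jacobson (B i) (hdim i) a⁻¹ hzi hQ
  choose N hN using hN
  refine ⟨a ^ (Finset.univ.sup N), A.pow_mem haA _, pow_ne_zero _ ha0, fun i => ?_⟩
  obtain ⟨b, hb, hbJ⟩ := hN i (Finset.univ.sup N) (Finset.le_sup (Finset.mem_univ i))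
  have hb' : (b : K) = (a ^ (Finset.univ.sup N))⁻¹ := by
    rw [← inv_pow, ← hb]; rfl
  have hx : (a ^ (Finset.univ.sup N))⁻¹ ∈ B i := by rw [← hb']; exact b.2
  refine ⟨hx, ?_⟩
  have : (⟨(a ^ (Finset.univ.sup N))⁻¹, hx⟩ : B i) = b := Subtype.ext hb'.symm
  rw [this]; exact hbJ

end ThmX

end Groth.Agent.Helper9.SLD1
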