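import Mathlib
import Groth.Agent.Lib.Helper9.SLD1

set_option autoImplicit false
universe u

namespace Groth.Agent.Helper9.DVRDom
open Groth.Agent.Helper9.SLD1

variable {L : Type u} [Field L]

/-- the set of fractions of a subring of a field, as a subfield -/
def fracSubfield (S : Subring L) : Subfield L where
  carrier := {z | ∃ a ∈ S, ∃ b ∈ S, b ≠ 0 ∧ z = a / b}
  mul_mem' := by
    rintro _ _ ⟨a, ha, b, hb, hb0, rfl⟩ ⟨a', ha', b', hb', hb'0, rfl⟩
    exact ⟨a * a', S.mul_mem ha ha', b * b', S.mul_mem hb hb', mul_ne_zero hb0 hb'0,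
      by field_simp⟩
  one_mem' := ⟨1, S.one_mem, 1, S.one_mem, one_ne_zero, by simp⟩
  add_mem' := by
    rintro _ _ ⟨a, ha, b, hb, hb0, rfl⟩ ⟨a', ha', b', hb', hb'0, rfl⟩
    exact ⟨a * b' + a' * b, S.add_mem (S.mul_mem ha hb') (S.mul_mem ha' hb), b * b',
      S.mul_mem hb hb', mul_ne_zero hb0 hb'0, by field_simp⟩
  zero_mem' := ⟨0, S.zero_mem, 1, S.one_mem, one_ne_zero, by simp⟩
  neg_mem' := by
    rintro _ ⟨a, ha, b, hb, hb0, rfl⟩
    exact ⟨-a, S.neg_mem ha, b, hb, hb0, by ring⟩
  inv_mem' := by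
    rintro _ ⟨a, ha, b, hb, hb0, rfl⟩
    by_cases ha0 : a = 0
    · exact ⟨0, S.zero_mem, 1, S.one_mem, one_ne_zero, by simp [ha0]⟩
    · exact ⟨b, hb, a, ha, ha0, by rw [inv_div]⟩

theorem mem_fracSubfield {S : Subring L} {z : L} :
    z ∈ fracSubfield S ↔ ∃ a ∈ S, ∃ b ∈ S, b ≠ 0 ∧ z = a / b := Iff.rfl

theorem le_fracSubfield (S : Subring L) : (S : Set L) ⊆ fracSubfield S := fun a ha =>
  ⟨a, ha, 1, S.one_mem, one_ne_zero, by simp⟩

/-- **Existence of dominating discrete valuation rings** (subring form).  Let `A₀` be a Noetherian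
subring of a field `L`, `J` a proper ideal of `A₀` containing a nonzero element, and assume `L` is
generated as a field by `A₀` and a finite set `T`.  Then there is a discrete valuation subring of
`L` containing `A₀` in which all elements of `J` are non-units. -/
theorem exists_dvr_dominating (A₀ : Subring L) [IsNoetherianRing A₀] (J : Ideal A₀) (hJ : J ≠ ⊤)
    (c : A₀) (hcJ : c ∈ J) (hc0 : c ≠ 0) (T : Finset L)
    (hT : Subfield.closure ((A₀ : Set L) ∪ (T : Set L)) = ⊤) :
    ∃ V : ValuationSubring L, IsDiscreteValuationRing V ∧ A₀ ≤ V.toSubring ∧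
      ∀ a ∈ J, (a : L) ∈ V.nonunits := by
  classical
  obtain ⟨W, hAW, hJW⟩ := Ideal.image_subset_nonunits_valuationSubring J hJ
  obtain ⟨G, hG⟩ := (isNoetherianRing_iff_ideal_fg A₀).mp inferInstance J
  have hG' : Ideal.span ((insert c G : Finset A₀) : Set A₀) = J := by
    rw [Finset.coe_insert, Ideal.span_insert, hG]
    exact sup_eq_right.mpr ((Ideal.span_singleton_le_iff_mem _).mpr hcJ)
  obtain ⟨x, hxG', hxmax⟩ := Finset.exists_max_image (insert c G)
    (fun g : A₀ => W.valuation (g : L)) ⟨c, Finset.mem_insert_self c G⟩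
  have hxJ : x ∈ J := hG' ▸ Ideal.subset_span hxG'
  have hx0 : (x : L) ≠ 0 := by
    intro h0
    have h1 := hxmax c (Finset.mem_insert_self c G)
    simp only [h0, map_zero] at h1
    have : W.valuation (c : L) = 0 := le_antisymm h1 zero_le
    exact hc0 (Subtype.ext ((map_eq_zero _).mp this))
  -- the finite generating set, inside `W`
  obtain ⟨S, hS⟩ : ∃ S : Finset L, S = T.image (fun t => if t ∈ W then t else t⁻¹) ∪
      (insert c G).image (fun g : A₀ => (g : L) / (x : L)) := ⟨_, rfl⟩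
  have hSW : ∀ s ∈ S, s ∈ W := by
    intro s hs
    rw [hS, Finset.mem_union] at hs
    rcases hs with hs | hs
    · obtain ⟨t, -, rfl⟩ := Finset.mem_image.mp hs
      by_cases ht : t ∈ W
      · simp only [ht, if_true]
      · simp only [ht, if_false]
        exact (W.mem_or_inv_mem t).resolve_left ht
    · obtain ⟨g, hg, rfl⟩ := Finset.mem_image.mp hs
      rw [← W.valuation_le_one_iff, map_div₀]
      exact div_le_one_of_le₀ (hxmax g hg) zero_le
  obtain ⟨R', hR'⟩ : ∃ R' : Subalgebra A₀ L, R' = Algebra.adjoin A₀ (S : Set L) := ⟨_, rfl⟩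
  haveI hft : Algebra.FiniteType A₀ R' := by
    rw [hR']; exact Algebra.FiniteType.adjoin_of_finite S.finite_toSet
  haveI hnoeth' : IsNoetherianRing R' := Algebra.FiniteType.isNoetherianRing A₀ R'
  haveI hnoeth : IsNoetherianRing R'.toSubring := hnoeth'
  have hAR : A₀ ≤ R'.toSubring := fun a ha => R'.algebraMap_mem ⟨a, ha⟩
  have hSR : ∀ s ∈ S, s ∈ R'.toSubring := fun s hs => by
    rw [hR']; exact Algebra.subset_adjoin hs
  have hRW : R'.toSubring ≤ W.toSubring := by
    let Wa : Subalgebra A₀ L := { W.toSubring with algebraMap_mem' := fun a => hAW a.2 }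
    have : R' ≤ Wa := by
      rw [hR']; exact Algebra.adjoin_le (fun s hs => hSW s hs)
    exact fun z hz => this hz
  -- fraction field
  have hfrac : fracSubfield R'.toSubring = ⊤ := by
    rw [eq_top_iff, ← hT, Subfield.closure_le]
    rintro z (hz | hz)
    · exact le_fracSubfield _ (hAR hz)
    · by_cases hzW : z ∈ W
      · apply le_fracSubfield
        apply hSR
        rw [hS]
        exact Finset.mem_union_left _ (Finset.mem_image.mpr ⟨z, hz, by simp [hzW]⟩)
      · have hzinv : z⁻¹ ∈ R'.toSubring := by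
          apply hSR
          rw [hS]
          exact Finset.mem_union_left _ (Finset.mem_image.mpr ⟨z, hz, by simp [hzW]⟩)
        have hz0 : z ≠ 0 := fun h => hzW (h ▸ W.zero_mem)
        exact ⟨1, Subring.one_mem _, z⁻¹, hzinv, inv_ne_zero hz0, by simp⟩
  -- the principal ideal `(x)` of `R'` is proper
  have hxR : (x : L) ∈ R'.toSubring := hAR x.2
  have hxne : Ideal.span {(⟨x, hxR⟩ : R'.toSubring)} ≠ ⊤ := by
    intro htop
    rw [Ideal.eq_top_iff_one, Ideal.mem_span_singleton'] at htop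
    obtain ⟨r, hr⟩ := htop
    have hr' : (r : L) * (x : L) = 1 := congrArg Subtype.val hr
    have hnu : (x : L) ∈ W.nonunits := hJW ⟨x, hxJ, rfl⟩
    rw [ValuationSubring.mem_nonunits_iff_or] at hnu
    rcases hnu with h | h
    · exact hx0 h
    · apply h
      have : (x : L)⁻¹ = (r : L) := by
        apply inv_eq_of_mul_eq_one_right
        rw [mul_comm]; exact hr'
      rw [this]; exact hRW r.2
  obtain ⟨M, hM, hxM⟩ := Ideal.exists_le_maximal _ hxne
  haveI := hM.isPrime
  obtain ⟨q, hq, -⟩ := Ideal.exists_minimalPrimes_le hxM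
  haveI hqp : q.IsPrime := hq.1.1
  have hxq : (⟨x, hxR⟩ : R'.toSubring) ∈ q := hq.1.2 (Ideal.mem_span_singleton_self _)
  have hq0 : q ≠ ⊥ := by
    intro hbot
    rw [hbot, Ideal.mem_bot] at hxq
    exact hx0 (congrArg Subtype.val hxq)
  have hht : q.height = 1 := by
    refine le_antisymm (Ideal.height_le_one_of_isPrincipal_of_mem_minimalPrimes _ q hq) ?_
    rw [Order.one_le_iff_ne_zero]
    exact fun h => hq0 (Ideal.height_eq_zero_iff_eq_bot.mp h)
  -- localize at `q`
  obtain ⟨Rq, hRq⟩ : ∃ Rq : LocalSubring L, Rq = LocalSubring.ofPrime R'.toSubring q := ⟨_, rfl⟩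
  subst hRq
  have hle : R'.toSubring ≤ (LocalSubring.ofPrime R'.toSubring q).toSubring :=
    LocalSubring.le_ofPrime _ _
  haveI : IsNoetherianRing (LocalSubring.ofPrime R'.toSubring q).toSubring :=
    IsLocalization.isNoetherianRing q.primeCompl _ hnoeth
  have hdim : ringKrullDim (LocalSubring.ofPrime R'.toSubring q).toSubring = 1 := by
    rw [IsLocalization.AtPrime.ringKrullDim_eq_height q, hht]; rfl
  haveI : IsFractionRing (LocalSubring.ofPrime R'.toSubring q).toSubring L := by
    refine IsFractionRing.of_field (R := (LocalSubring.ofPrime R'.toSubring q).toSubring)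
      (K := L) (fun z => ?_)
    have hz : z ∈ fracSubfield R'.toSubring := hfrac ▸ Subfield.mem_top z
    obtain ⟨a, ha, b, hb, -, rfl⟩ := hz
    exact ⟨⟨a, hle ha⟩, ⟨b, hle hb⟩, rfl⟩
  have hmapq : ∀ r : R'.toSubring, r ∈ q → (⟨r, hle r.2⟩ :
      (LocalSubring.ofPrime R'.toSubring q).toSubring) ∈
      IsLocalRing.maximalIdeal (LocalSubring.ofPrime R'.toSubring q).toSubring := by
    intro r hr
    rw [← IsLocalization.AtPrime.map_eq_maximalIdeal q
      (LocalSubring.ofPrime R'.toSubring q).toSubring]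
    exact Ideal.mem_map_of_mem _ hr
  obtain ⟨V, hV, hRV, hIV⟩ := exists_dvr (LocalSubring.ofPrime R'.toSubring q).toSubring hdim
    (LocalSubring.ofPrime R'.toSubring q).toSubring le_rfl
    (IsLocalRing.maximalIdeal _) (Ideal.IsPrime.ne_top inferInstance)
    ⟨x, hle hxR⟩ (hmapq ⟨x, hxR⟩ hxq) (fun h => hx0 (congrArg Subtype.val h))
  refine ⟨V, hV, hAR.trans (hle.trans hRV), fun a ha => ?_⟩
  -- `a ∈ J` maps into `(x) ⊆ q`
  have hspan : J ≤ Ideal.comap (Subring.inclusion hAR) (Ideal.span {(⟨x, hxR⟩ : R'.toSubring)}) := by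
    rw [← hG', Ideal.span_le]
    intro g hg
    have hgx : (g : L) / (x : L) ∈ R'.toSubring := by
      apply hSR
      rw [hS]
      exact Finset.mem_union_right _ (Finset.mem_image.mpr ⟨g, hg, rfl⟩)
    show Subring.inclusion hAR g ∈ Ideal.span {(⟨x, hxR⟩ : R'.toSubring)}
    rw [Ideal.mem_span_singleton']
    refine ⟨⟨_, hgx⟩, Subtype.ext ?_⟩
    show (g : L) / (x : L) * (x : L) = (g : L)
    field_simp
  have haq : (Subring.inclusion hAR a) ∈ q := hq.1.2 (hspan ha)
  exact hIV _ (hmapq _ haq)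

theorem closure_eq_top_of_adjoin_eq_top (A K : Type*) [CommRing A] [Field K]
    [Algebra A K] [IsFractionRing A K] [Algebra K L] [Algebra A L] [IsScalarTower A K L]
    (T : Set L) (hT : IntermediateField.adjoin K T = ⊤) :
    Subfield.closure (((algebraMap A L).range : Set L) ∪ T) = ⊤ := by
  rw [eq_top_iff]
  intro z _
  have hz : z ∈ (IntermediateField.adjoin K T).toSubfield := by
    rw [hT]; exact Subfield.mem_top z
  rw [IntermediateField.adjoin_toSubfield] at hz
  refine (Subfield.closure_le.mpr ?_) hz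
  rintro y (⟨k, rfl⟩ | hy)
  · obtain ⟨n, d, -, rfl⟩ := IsFractionRing.div_surjective (A := A) k
    rw [map_div₀, ← IsScalarTower.algebraMap_apply A K L, ← IsScalarTower.algebraMap_apply A K L]
    exact div_mem (Subfield.subset_closure (Or.inl ⟨n, rfl⟩))
      (Subfield.subset_closure (Or.inl ⟨d, rfl⟩))
  · exact Subfield.subset_closure (Or.inr hy)

end Groth.Agent.Helper9.DVRDom
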