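import Mathlib

set_option autoImplicit false

open CategoryTheory AlgebraicGeometry CategoryTheory.Limits TensorProduct

universe u

namespace Groth.Agent.Helper9.GeomConn

theorem eq_zero_of_forall_algHom {K A : Type u} [Field K] [IsAlgClosed K] [CommRing A] [IsDomain A]
    [Algebra K A] [Algebra.FiniteType K A] (a : A) (h : ∀ ψ : A →ₐ[K] K, ψ a = 0) : a = 0 := by
  haveI : IsJacobsonRing A := isJacobsonRing_of_finiteType (A := K) (B := A)
  have hj : (⊥ : Ideal A).jacobson = ⊥ := (isJacobsonRing_iff.mp inferInstance) ⊥ Ideal.bot_prime.isRadical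
  have hmem : a ∈ (⊥ : Ideal A).jacobson := by
    rw [Ideal.jacobson, Ideal.mem_sInf]
    rintro m ⟨-, hm⟩
    haveI := hm
    letI : Field (A ⧸ m) := Ideal.Quotient.field m
    haveI : Algebra.FiniteType K (A ⧸ m) :=
      Algebra.FiniteType.of_surjective (Ideal.Quotient.mkₐ K m) (Ideal.Quotient.mkₐ_surjective K m)
    haveI : Module.Finite K (A ⧸ m) := finite_of_finite_type_of_isJacobsonRing K (A ⧸ m)
    have hb := IsAlgClosed.algebraMap_bijective_of_isIntegral (k := K) (K := A ⧸ m)
    obtain ⟨c, hc⟩ := hb.2 (Ideal.Quotient.mk m a)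
    let ε : K ≃ₐ[K] (A ⧸ m) := AlgEquiv.ofBijective (Algebra.ofId K (A ⧸ m)) hb
    have h1 := h ((ε.symm : (A ⧸ m) →ₐ[K] K).comp (Ideal.Quotient.mkₐ K m))
    have h2 : ε.symm (Ideal.Quotient.mk m a) = 0 := h1
    have h3 : Ideal.Quotient.mk m a = 0 := by
      have := congrArg ε h2
      simpa using this
    exact Ideal.Quotient.eq_zero_iff_mem.mp h3
  rw [hj] at hmem
  exact hmem

theorem idem_fg {K A Ω : Type u} [Field K] [IsAlgClosed K] [CommRing A] [IsDomain A]
    [Algebra K A] [Algebra.FiniteType K A] [Field Ω] [Algebra K Ω] (e : A ⊗[K] Ω)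
    (he : e * e = e) : e = 0 ∨ e = 1 := by
  classical
  let b := Module.Free.chooseBasis K Ω
  let B := Algebra.TensorProduct.basis A b
  have key : ∀ (ψ : A →ₐ[K] K) (x : A ⊗[K] Ω) (i),
      b.repr (Algebra.TensorProduct.lift ((Algebra.ofId K Ω).comp ψ) (AlgHom.id K Ω)
        (fun _ _ => Commute.all _ _) x) i = ψ (B.repr x i) := by
    intro ψ x i
    induction x using TensorProduct.induction_on with
    | zero => simp
    | tmul a ω =>
      rw [Algebra.TensorProduct.lift_tmul]
      simp only [AlgHom.coe_comp, Function.comp_apply, Algebra.ofId_apply, AlgHom.coe_id, id_eq, B,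
        Algebra.TensorProduct.basis_repr_tmul, Finsupp.smul_apply, Finsupp.mapRange_apply,
        smul_eq_mul, map_mul, AlgHom.commutes, Algebra.algebraMap_self, RingHom.id_apply]
      rw [← Algebra.smul_def, map_smul, Finsupp.smul_apply, smul_eq_mul]
    | add x y hx hy =>
      simp only [map_add, Finsupp.add_apply, hx, hy]
  have hψ : ∀ (ψ : A →ₐ[K] K) (i j),
      ψ (B.repr e i * (B.repr e j - algebraMap K A (b.repr 1 j))) = 0 := by
    intro ψ i j
    obtain ⟨Ψ, hΨ⟩ : ∃ Ψ : A ⊗[K] Ω →ₐ[K] Ω, Ψ = Algebra.TensorProduct.lift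
      ((Algebra.ofId K Ω).comp ψ) (AlgHom.id K Ω) (fun _ _ => Commute.all _ _) := ⟨_, rfl⟩
    have hk : ∀ x i, b.repr (Ψ x) i = ψ (B.repr x i) := by
      intro x i; rw [hΨ]; exact key ψ x i
    have hid : Ψ e * Ψ e = Ψ e := by rw [← map_mul, he]
    have h01 : Ψ e = 0 ∨ Ψ e = 1 := by
      have : Ψ e * (Ψ e - 1) = 0 := by rw [mul_sub, hid, mul_one, sub_self]
      rcases mul_eq_zero.mp this with h | h
      · exact Or.inl h
      · exact Or.inr (sub_eq_zero.mp h)
    rw [map_mul, map_sub, AlgHom.commutes, ← hk, ← hk]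
    rcases h01 with h | h
    · rw [h]; simp
    · rw [h]; simp
  have hc : ∀ i j, B.repr e i = 0 ∨ B.repr e j = algebraMap K A (b.repr 1 j) := by
    intro i j
    have := eq_zero_of_forall_algHom _ (fun ψ => hψ ψ i j)
    rcases mul_eq_zero.mp this with h | h
    · exact Or.inl h
    · exact Or.inr (sub_eq_zero.mp h)
  by_cases hall : ∀ i, B.repr e i = 0
  · left
    have : B.repr e = 0 := Finsupp.ext hall
    exact (LinearEquiv.map_eq_zero_iff _).mp this
  · right
    rw [not_forall] at hall
    obtain ⟨i₀, hi₀⟩ := hall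
    have h1 : ∀ j, B.repr e j = algebraMap K A (b.repr 1 j) := fun j =>
      (hc i₀ j).resolve_left hi₀
    have h2 : B.repr e = B.repr ((1 : A) ⊗ₜ[K] (1 : Ω)) := by
      apply Finsupp.ext
      intro j
      rw [h1 j]
      simp [B]
    have h3 := B.repr.injective h2
    rw [h3, Algebra.TensorProduct.one_def]

theorem map_incl {K L Ω : Type u} [Field K] [CommRing L] [Algebra K L] [CommRing Ω] [Algebra K Ω]
    (B₁ B₂ : Subalgebra K L) (hle : B₁ ≤ B₂) (z : B₁ ⊗[K] Ω) :
    Algebra.TensorProduct.map B₂.val (AlgHom.id K Ω)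
      (Algebra.TensorProduct.map (Subalgebra.inclusion hle) (AlgHom.id K Ω) z) =
    Algebra.TensorProduct.map B₁.val (AlgHom.id K Ω) z := by
  induction z using TensorProduct.induction_on with
  | zero => simp
  | tmul a ω => simp
  | add a b ha hb => simp only [map_add, ha, hb]

theorem exists_fg {K L Ω : Type u} [Field K] [CommRing L] [Algebra K L] [CommRing Ω] [Algebra K Ω]
    (x : L ⊗[K] Ω) :
    ∃ A : Subalgebra K L, A.FG ∧
      x ∈ Set.range (Algebra.TensorProduct.map A.val (AlgHom.id K Ω)) := by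
  induction x using TensorProduct.induction_on with
  | zero => exact ⟨⊥, Subalgebra.fg_bot, 0, map_zero _⟩
  | tmul l ω =>
    refine ⟨Algebra.adjoin K {l}, ⟨{l}, by simp⟩,
      (⟨l, Algebra.subset_adjoin (Set.mem_singleton l)⟩ : Algebra.adjoin K {l}) ⊗ₜ ω, ?_⟩
    simp
  | add x y hx hy =>
    obtain ⟨A₁, h₁, x', rfl⟩ := hx
    obtain ⟨A₂, h₂, y', rfl⟩ := hy
    refine ⟨A₁ ⊔ A₂, h₁.sup h₂,
      Algebra.TensorProduct.map (Subalgebra.inclusion (le_sup_left : A₁ ≤ A₁ ⊔ A₂)) (AlgHom.id K Ω) x' +
      Algebra.TensorProduct.map (Subalgebra.inclusion (le_sup_right : A₂ ≤ A₁ ⊔ A₂)) (AlgHom.id K Ω) y', ?_⟩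
    rw [map_add, map_incl, map_incl]

theorem idem_domain {K L Ω : Type u} [Field K] [IsAlgClosed K] [CommRing L] [IsDomain L]
    [Algebra K L] [Field Ω] [Algebra K Ω] (e : L ⊗[K] Ω) (he : e * e = e) : e = 0 ∨ e = 1 := by
  obtain ⟨A, hA, e', rfl⟩ := exists_fg e
  haveI : Algebra.FiniteType K A := ⟨(Subalgebra.fg_top A).mpr hA⟩
  have hcoe : ∀ z, LinearMap.rTensor Ω A.val.toLinearMap z =
      Algebra.TensorProduct.map A.val (AlgHom.id K Ω) z := by
    intro z
    induction z using TensorProduct.induction_on with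
    | zero => simp
    | tmul a ω => simp
    | add a b ha hb => simp only [map_add, ha, hb]
  have hinj : Function.Injective (Algebra.TensorProduct.map A.val (AlgHom.id K Ω)) := by
    have h1 : Function.Injective (LinearMap.rTensor Ω A.val.toLinearMap) :=
      Module.Flat.rTensor_preserves_injective_linearMap _ Subtype.val_injective
    intro x y hxy
    apply h1
    rw [hcoe, hcoe, hxy]
  have he' : e' * e' = e' := hinj (by rw [map_mul, he])
  rcases idem_fg e' he' with h | h
  · left; rw [h, map_zero]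
  · right; rw [h, map_one]

theorem connectedSpace_tensor {K L Ω : Type u} [Field K] [IsAlgClosed K] [Field L] [Algebra K L]
    [Field Ω] [Algebra K Ω] : ConnectedSpace (PrimeSpectrum (L ⊗[K] Ω)) := by
  haveI : Nontrivial (L ⊗[K] Ω) :=
    Algebra.TensorProduct.nontrivial_of_algebraMap_injective_of_flat_left K L Ω
      (algebraMap K Ω).injective
  haveI : PreconnectedSpace (PrimeSpectrum (L ⊗[K] Ω)) := by
    rw [preconnectedSpace_iff_clopen]
    intro s hs
    obtain ⟨e, f, hef, hadd, rfl⟩ := PrimeSpectrum.isClopen_iff_mul_add.mp hs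
    have he : e * e = e := by
      have : e * (e + f) = e := by rw [hadd, mul_one]
      rw [mul_add, hef, add_zero] at this; exact this
    rcases idem_domain e he with h | h
    · left; rw [h]; simp
    · right; rw [h]; simp
  exact { toPreconnectedSpace := inferInstance, toNonempty := inferInstance }

theorem geomConn_spec {K Ω : Type u} [Field K] [IsAlgClosed K] [Field Ω] (φ : K →+* Ω) :
    GeometricallyConnected (Spec.map (CommRingCat.ofHom φ)) := by
  algebraize [φ]
  refine ⟨geometrically_iff_of_isClosedUnderIsomorphisms.mpr fun L _ y => ?_⟩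
  obtain ⟨ψ, rfl⟩ := Spec.map_surjective y
  algebraize [ψ.hom]
  have e := pullbackSpecIso K Ω L
  haveI : ConnectedSpace (Spec (CommRingCat.of (Ω ⊗[K] L))) :=
    connectedSpace_tensor (K := K) (L := Ω) (Ω := L)
  exact (e.hom.homeomorph.connectedSpace_iff).mpr inferInstance

/-- If `X_{k̄}` is connected then every base change of `X` to a field is connected. -/
theorem connected_bc_of_algClosure {k : Type u} [Field k] {X : Scheme.{u}}
    (f : X ⟶ Spec (CommRingCat.of k))
    [hX : ConnectedSpace ↥(pullback f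
      (Spec.map (CommRingCat.ofHom (algebraMap k (AlgebraicClosure k)))))]
    (K : Type u) [Field K] (y : Spec (CommRingCat.of K) ⟶ Spec (CommRingCat.of k)) :
    ConnectedSpace ↥(pullback f y) := by
  obtain ⟨φ, rfl⟩ := Spec.map_surjective y
  algebraize [φ.hom]
  obtain ⟨ι⟩ : Nonempty (AlgebraicClosure k →ₐ[k] AlgebraicClosure K) := ⟨IsAlgClosed.lift⟩
  obtain ⟨b, hbdef⟩ : ∃ b : Spec (CommRingCat.of (AlgebraicClosure K)) ⟶ Spec (CommRingCat.of K),
      b = Spec.map (CommRingCat.ofHom (algebraMap K (AlgebraicClosure K))) := ⟨_, rfl⟩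
  have hb : b ≫ Spec.map φ = Spec.map (CommRingCat.ofHom ι.toRingHom) ≫
      Spec.map (CommRingCat.ofHom (algebraMap k (AlgebraicClosure k))) := by
    rw [hbdef, ← Spec.map_comp, ← Spec.map_comp]
    congr 1
    ext x
    have h1 := ι.commutes x
    have h2 := IsScalarTower.algebraMap_apply k K (AlgebraicClosure K) x
    simp only [CommRingCat.hom_comp, CommRingCat.hom_ofHom, RingHom.coe_comp, Function.comp_apply]
    exact h2.symm.trans h1.symm
  haveI := geomConn_spec (ι.toRingHom)
  haveI hc1 : ConnectedSpace ↥(pullback (pullback.snd f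
      (Spec.map (CommRingCat.ofHom (algebraMap k (AlgebraicClosure k)))))
      (Spec.map (CommRingCat.ofHom ι.toRingHom))) := inferInstance
  have hc2 : ConnectedSpace ↥(pullback f (Spec.map (CommRingCat.ofHom ι.toRingHom) ≫
      Spec.map (CommRingCat.ofHom (algebraMap k (AlgebraicClosure k))))) :=
    ((pullbackLeftPullbackSndIso f
      (Spec.map (CommRingCat.ofHom (algebraMap k (AlgebraicClosure k))))
      (Spec.map (CommRingCat.ofHom ι.toRingHom))).hom.homeomorph.connectedSpace_iff).mp hc1
  rw [← hb] at hc2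
  haveI hc3 : ConnectedSpace ↥(pullback (pullback.snd f (Spec.map φ)) b) :=
    ((pullbackLeftPullbackSndIso f (Spec.map φ) b).hom.homeomorph.connectedSpace_iff).mpr hc2
  haveI : Surjective b := ⟨fun s => ⟨Nonempty.some inferInstance, Subsingleton.elim _ _⟩⟩
  haveI : Surjective (pullback.fst (pullback.snd f (Spec.map φ)) b) :=
    MorphismProperty.pullback_fst _ _ inferInstance
  exact (pullback.fst (pullback.snd f (Spec.map φ)) b).surjective.connectedSpace
    (pullback.fst (pullback.snd f (Spec.map φ)) b).continuous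

end Groth.Agent.Helper9.GeomConn
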