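import Mathlib

/-!
# Stalk map at generic points of a dominant integral/finite morphism (helper9)
-/

set_option autoImplicit false
universe u
open CategoryTheory CategoryTheory.Limits AlgebraicGeometry TopologicalSpace

namespace Groth.Agent.Helper9.GenStalk

lemma map_genericPoint {X S : Scheme.{u}} [IrreducibleSpace X] [IrreducibleSpace S] (f : X ⟶ S)
    [IsDominant f] : f.base (genericPoint X) = genericPoint S := by
  have h := (genericPoint_spec X).image f.continuous
  simp only [Set.top_eq_univ, Set.image_univ] at h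
  rw [f.denseRange.closure_range] at h
  exact ((genericPoint_spec S).eq h).symm

section alg
variable {A B R L : Type*} [CommRing A] [CommRing B] [CommRing R] [Field L]
  (a : A →+* B) (gA : A →+* R) (gB : B →+* L) (φ : R →+* L) (h : φ.comp gA = gB.comp a)
  (hR : IsField R) (hfrac : ∀ z : L, ∃ b s : B, z = gB b * (gB s)⁻¹)

include h hR in
lemma isIntegral_gB (ha : a.IsIntegral) (b : B) :
    letI := hR.toField
    letI : Algebra R L := φ.toAlgebra
    IsIntegral R (gB b) := by
  letI := hR.toField
  letI : Algebra R L := φ.toAlgebra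
  obtain ⟨p, hp, hpe⟩ := ha b
  refine ⟨p.map gA, hp.map _, ?_⟩
  rw [Polynomial.eval₂_map]
  change Polynomial.eval₂ (φ.comp gA) (gB b) p = 0
  rw [h, ← Polynomial.hom_eval₂, hpe, map_zero]

include h hR in
lemma isIntegralElem_frac (ha : a.IsIntegral) (b s : B) : φ.IsIntegralElem (gB b * (gB s)⁻¹) := by
  letI := hR.toField
  letI : Algebra R L := φ.toAlgebra
  exact (isIntegral_gB a gA gB φ h hR ha b).mul (isIntegral_gB a gA gB φ h hR ha s).inv

include h hR hfrac in
lemma isIntegral_of_frac (ha : a.IsIntegral) : φ.IsIntegral := by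
  letI := hR.toField
  letI : Algebra R L := φ.toAlgebra
  intro z
  obtain ⟨b, s, rfl⟩ := hfrac z
  exact (isIntegral_gB a gA gB φ h hR ha b).mul (isIntegral_gB a gA gB φ h hR ha s).inv

include h hR hfrac in
lemma finite_of_frac (ha : a.Finite) : φ.Finite := by
  classical
  have hai : a.IsIntegral := ha.to_isIntegral
  letI := hR.toField
  letI : Algebra R L := φ.toAlgebra
  letI : Algebra A B := a.toAlgebra
  haveI : Module.Finite A B := ha
  obtain ⟨G, hG⟩ := (Module.Finite.fg_top : (⊤ : Submodule A B).FG)
  have hspan : ∀ c : B, gB c ∈ Submodule.span R (gB '' (G : Set B)) := by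
    intro c
    have hc : c ∈ Submodule.span A (G : Set B) := hG ▸ Submodule.mem_top
    induction hc using Submodule.span_induction with
    | mem x hx => exact Submodule.subset_span ⟨x, hx, rfl⟩
    | zero => rw [map_zero]; exact zero_mem _
    | add x y _ _ hx hy => rw [map_add]; exact add_mem hx hy
    | smul t x _ hx =>
      have : gB (t • x) = (gA t) • gB x := by
        rw [Algebra.smul_def, Algebra.smul_def, map_mul]
        congr 1
        exact (RingHom.congr_fun h t).symm
      rw [this]; exact Submodule.smul_mem _ _ hx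
  refine ⟨⟨G.image gB, ?_⟩⟩
  rw [Finset.coe_image, eq_top_iff]
  intro z _
  obtain ⟨b, s, rfl⟩ := hfrac z
  have hinv : (gB s)⁻¹ ∈ Algebra.adjoin R {gB s} :=
    (isIntegral_gB a gA gB φ h hR hai s).inv_mem_adjoin
  rw [Algebra.adjoin_singleton_eq_range_aeval] at hinv
  obtain ⟨p, hp⟩ := hinv
  rw [← hp]
  change gB b * Polynomial.aeval (gB s) p ∈ _
  rw [Polynomial.aeval_eq_sum_range, Finset.mul_sum]
  refine Submodule.sum_mem _ (fun i _ => ?_)
  rw [mul_smul_comm, ← map_pow, ← map_mul]
  exact Submodule.smul_mem _ _ (hspan _)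

end alg

end Groth.Agent.Helper9.GenStalk
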