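import Mathlib

/-!
# Points in the closure of the image of a quasi-compact morphism are specializations of
image points (helper9)
-/

set_option autoImplicit false
universe u

open CategoryTheory Limits AlgebraicGeometry TopologicalSpace

namespace Groth.Agent.Helper9.QcClosure

theorem exists_specializes_aux {U X : Scheme.{u}} (h : U ⟶ X) [QuasiCompact h]
    (R : CommRingCat.{u}) (j : Spec R ⟶ X) [IsOpenImmersion j] (p : Spec R)
    (hx : j p ∈ closure (Set.range h)) : ∃ u : U, h u ⤳ j p := by
  have hcs : CompactSpace ↑(pullback h j) :=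
    QuasiCompact.compactSpace_of_compactSpace (pullback.snd h j)
  obtain ⟨R', g, hg⟩ := compactSpace_iff_exists.mp hcs
  obtain ⟨φ, hφ⟩ : ∃ φ : R ⟶ R', Spec.map φ = g ≫ pullback.snd h j :=
    ⟨Spec.preimage _, Spec.map_preimage _⟩
  have h1 : Set.range (pullback.snd h j) = j ⁻¹' Set.range h := Scheme.Pullback.range_snd h j
  have h2 : p ∈ closure (j ⁻¹' Set.range h) := by
    rw [← j.isOpenEmbedding.isOpenMap.preimage_closure_eq_closure_preimage j.continuous]
    exact hx
  have h3 : Set.range (Spec.map φ) = Set.range (pullback.snd h j) := by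
    rw [hφ]
    ext y
    constructor
    · rintro ⟨w, rfl⟩
      exact ⟨g w, (Scheme.Hom.comp_apply g _ w).symm⟩
    · rintro ⟨z, rfl⟩
      obtain ⟨w, rfl⟩ := hg z
      exact ⟨w, Scheme.Hom.comp_apply g _ w⟩
  have hle : (⊥ : Ideal R').comap φ.hom ≤ (show PrimeSpectrum R from p).asIdeal := by
    have h4 : (show PrimeSpectrum R from p) ∈ closure (PrimeSpectrum.comap φ.hom ''
        PrimeSpectrum.zeroLocus ((⊥ : Ideal R') : Set R')) := by
      rw [PrimeSpectrum.zeroLocus_bot, Set.image_univ]
      rw [← h1, ← h3] at h2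
      exact h2
    rw [PrimeSpectrum.closure_image_comap_zeroLocus] at h4
    exact h4
  obtain ⟨q, hq₁, hq₂⟩ := Ideal.exists_minimalPrimes_le hle
  obtain ⟨q', hq', -, hqe⟩ := Ideal.exists_comap_eq_of_mem_minimalPrimes φ.hom _ hq₁
  let w : Spec R' := (⟨q', hq'⟩ : PrimeSpectrum R')
  have hw : (Spec.map φ) w ⤳ p :=
    (PrimeSpectrum.le_iff_specializes (show PrimeSpectrum R from (Spec.map φ) w)
      (show PrimeSpectrum R from p)).mp (by
        show Ideal.comap φ.hom q' ≤ (show PrimeSpectrum R from p).asIdeal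
        rw [hqe]; exact hq₂)
  refine ⟨pullback.fst h j (g w), ?_⟩
  have h5 : h (pullback.fst h j (g w)) = j ((Spec.map φ) w) := by
    rw [hφ, ← Scheme.Hom.comp_apply, ← Scheme.Hom.comp_apply, ← Scheme.Hom.comp_apply,
      pullback.condition, Category.assoc]
  rw [h5]
  exact hw.map j.continuous

/-- Points in the closure of the image of a quasi-compact morphism are specializations of
points of the image. -/
theorem exists_specializes_of_mem_closure_range {U X : Scheme.{u}} (h : U ⟶ X) [QuasiCompact h]
    (x : X) (hx : x ∈ closure (Set.range h)) : ∃ u : U, h u ⤳ x := by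
  obtain ⟨p, hp⟩ := X.affineCover.covers x
  have hoi : IsOpenImmersion (X.affineCover.f (X.affineCover.idx x)) := inferInstance
  obtain ⟨u, hu⟩ := @exists_specializes_aux U X h _ _ (X.affineCover.f (X.affineCover.idx x)) hoi p
    ((congrArg (fun y => y ∈ closure (Set.range h)) hp).mpr hx)
  exact ⟨u, (congrArg (fun y => h u ⤳ y) hp).mp hu⟩

end Groth.Agent.Helper9.QcClosure
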