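import Mathlib
import Groth.Agent.Lib.Helper9.GenStalk
import Groth.Agent.Lib.Helper9.QcClosure

/-!
# Generic finiteness for dominant lft morphisms of integral schemes (helper9)
-/

set_option autoImplicit false
universe u
open CategoryTheory CategoryTheory.Limits AlgebraicGeometry TopologicalSpace

namespace Groth.Agent.Helper9.GenFin

section ring
variable {R S : Type u} [CommRing R] [IsDomain R] [CommRing S]

theorem exists_mul_integral (φ : R →+* S) (hft : φ.FiniteType)
    (hmul : ∀ s : S, ∃ y : R, y ≠ 0 ∧ φ.IsIntegralElem (φ y * s)) :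
    ∃ r : R, r ≠ 0 ∧ ∀ (R' S' : Type u) [CommRing R'] [CommRing S'] (a : R →+* R') (b : S →+* S')
      (φ' : R' →+* S'), φ'.comp a = b.comp φ → IsUnit (a r) →
      ∀ s : S, φ'.IsIntegralElem (b s) := by
  classical
  letI := φ.toAlgebra
  obtain ⟨⟨G, hG⟩⟩ := hft
  choose y hy0 hyint using hmul
  refine ⟨∏ g ∈ G, y g, Finset.prod_ne_zero_iff.mpr (fun g _ => hy0 g), ?_⟩
  intro R' S' _ _ a b φ' hcomm hunit s
  have hcomm' : ∀ x, φ' (a x) = b (φ x) := fun x => RingHom.congr_fun hcomm x
  have hunit' : ∀ g ∈ G, IsUnit (a (y g)) := by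
    intro g hg
    have : a (y g) ∣ a (∏ g ∈ G, y g) := map_dvd a (Finset.dvd_prod_of_mem y hg)
    exact isUnit_of_dvd_unit this hunit
  have hgen : ∀ g ∈ G, φ'.IsIntegralElem (b g) := by
    intro g hg
    obtain ⟨u, hu⟩ := hunit' g hg
    have h1 : φ'.IsIntegralElem (b (φ (y g) * g)) := by
      obtain ⟨p, hp, hpe⟩ := hyint g
      refine ⟨p.map a, hp.map _, ?_⟩
      rw [Polynomial.eval₂_map, hcomm, ← Polynomial.hom_eval₂, hpe, map_zero]
    have h2 : b g = φ' (↑u⁻¹) * b (φ (y g) * g) := by
      rw [map_mul, ← hcomm', ← hu, ← mul_assoc, ← map_mul, Units.inv_mul, map_one, one_mul]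
    rw [h2]
    exact RingHom.IsIntegralElem.mul _ (φ'.isIntegralElem_map) h1
  have hs : s ∈ Algebra.adjoin R (G : Set S) := by rw [hG]; trivial
  induction hs using Algebra.adjoin_induction with
  | mem x hx => exact hgen x hx
  | algebraMap r =>
    show φ'.IsIntegralElem (b (φ r))
    rw [← hcomm']; exact φ'.isIntegralElem_map
  | add x y _ _ hx hy => rw [map_add]; exact RingHom.IsIntegralElem.add _ hx hy
  | mul x y _ _ hx hy => rw [map_mul]; exact RingHom.IsIntegralElem.mul _ hx hy

end ring

section scheme
variable {X Y : Scheme.{u}} (f : X ⟶ Y)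

theorem finite_residueFieldMap_iff (x : X)
    (hX : IsField (X.presheaf.stalk x)) (hY : IsField (Y.presheaf.stalk (f.base x))) :
    (f.residueFieldMap x).hom.Finite ↔ (f.stalkMap x).hom.Finite := by
  have hsX : Function.Surjective (X.residue x).hom := IsLocalRing.residue_surjective
  have hsY : Function.Surjective (Y.residue (f.base x)).hom := IsLocalRing.residue_surjective
  have hiX : Function.Injective (X.residue x).hom := by
    letI := hX.toField
    exact RingHom.injective _
  have hcomp : (f.residueFieldMap x).hom.comp (Y.residue (f.base x)).hom =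
      (X.residue x).hom.comp (f.stalkMap x).hom := by
    rw [← CommRingCat.hom_comp, ← CommRingCat.hom_comp, Scheme.residue_residueFieldMap]
  constructor
  · intro hr
    have h1 : ((X.residue x).hom.comp (f.stalkMap x).hom).Finite :=
      hcomp ▸ hr.comp (RingHom.Finite.of_surjective _ hsY)
    let eX := RingEquiv.ofBijective (X.residue x).hom ⟨hiX, hsX⟩
    have h2 : (f.stalkMap x).hom =
        (eX.symm : _ →+* _).comp ((X.residue x).hom.comp (f.stalkMap x).hom) := by
      ext t
      exact (eX.symm_apply_apply ((f.stalkMap x).hom t)).symm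
    rw [h2]
    exact (RingHom.Finite.of_surjective _ eX.symm.surjective).comp h1
  · intro hs
    have h1 : ((f.residueFieldMap x).hom.comp (Y.residue (f.base x)).hom).Finite :=
      hcomp ▸ (RingHom.Finite.of_surjective _ hsX).comp hs
    exact RingHom.Finite.of_comp_finite h1

theorem quasiFiniteAt_iff_finite (x : X) (hY : IsField (Y.presheaf.stalk (f.base x))) :
    f.QuasiFiniteAt x ↔ (f.stalkMap x).hom.Finite := by
  constructor
  · intro h
    haveI : IsArtinianRing (Y.presheaf.stalk (f.base x)) :=
      @DivisionRing.instIsArtinianRing _ hY.toField.toDivisionRing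
    letI := (f.stalkMap x).hom.toAlgebra
    haveI : Algebra.QuasiFinite (Y.presheaf.stalk (f.base x)) (X.presheaf.stalk x) := h
    exact Module.Finite.of_quasiFinite
  · exact RingHom.QuasiFinite.of_finite

theorem quasiFiniteAt_genericPoint_iff [IrreducibleSpace X] [LocallyOfFiniteType f]
    (η : Y) (hη : f.base (genericPoint X) = η) :
    f.QuasiFiniteAt (genericPoint X) ↔ ∀ x : X, f.base x = η → x = genericPoint X := by
  subst hη
  constructor
  · intro h x hx
    have hcl : IsClosed {f.asFiber (genericPoint X)} := h.isClopen_singleton_asFiber.1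
    let z : f.fiber (f.base (genericPoint X)) := (f.fiberHomeo _).symm ⟨x, hx⟩
    have hz : f.fiberι _ z = x := f.fiberι_fiberHomeo_symm _ ⟨x, hx⟩
    have hspec : f.asFiber (genericPoint X) ⤳ z := by
      rw [← (f.fiberι _).isEmbedding.isInducing.specializes_iff, f.fiberι_asFiber, hz]
      exact genericPoint_specializes x
    have hzm : z ∈ ({f.asFiber (genericPoint X)} : Set _) := hspec.mem_closed hcl rfl
    rw [Set.mem_singleton_iff] at hzm
    rw [← hz, hzm, f.fiberι_asFiber]
  · intro hC
    rw [Scheme.Hom.quasiFiniteAt_iff_isOpen_singleton_asFiber]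
    have : ({f.asFiber (genericPoint X)} : Set _) = Set.univ := by
      ext z
      simp only [Set.mem_singleton_iff, Set.mem_univ, iff_true]
      apply (f.fiberι _).isEmbedding.injective
      rw [f.fiberι_asFiber]
      apply hC
      have : f.fiberι _ z ∈ f ⁻¹' {f.base (genericPoint X)} := by
        rw [← f.range_fiberι]; exact ⟨z, rfl⟩
      exact this
    rw [this]; exact isOpen_univ

end scheme

end Groth.Agent.Helper9.GenFin
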