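import Mathlib
import Groth.Agent.Lib.Helper9.GenFin

/-!
# Generic finiteness for dominant lft morphisms of integral schemes, part 2 (helper9)
-/

set_option autoImplicit false
universe u
open CategoryTheory CategoryTheory.Limits AlgebraicGeometry TopologicalSpace

namespace Groth.Agent.Helper9.GenFin

variable {X Y : Scheme.{u}} (f : X ⟶ Y)

theorem isFractionRing_stalk [IsIntegral Y] (V₀ : Y.Opens) (hV₀ : IsAffineOpen V₀) (y : Y)
    (hy : y = genericPoint Y) (h : y ∈ V₀) :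
    @IsFractionRing Γ(Y, V₀) _ (Y.presheaf.stalk y) _ (Y.presheaf.germ V₀ y h).hom.toAlgebra := by
  subst hy
  haveI : Nonempty V₀ := ⟨⟨_, h⟩⟩
  exact functionField_isFractionRing_of_isAffineOpen Y V₀ hV₀

theorem finite_stalkMap_of_resLE [IsIntegral X] [IsIntegral Y] [IsDominant f]
    (U : X.Opens) (V : Y.Opens) (hUV : U ≤ f ⁻¹ᵁ V) (hU : IsAffineOpen U) (hV : IsAffineOpen V)
    (hne : Nonempty ↥U) (hfin : IsFinite (f.resLE V U hUV)) :
    (f.stalkMap (genericPoint X)).hom.Finite := by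
  have hξU : genericPoint X ∈ U :=
    ((genericPoint_spec X).mem_open_set_iff U.isOpen).mpr ⟨hne.some.1, trivial, hne.some.2⟩
  have hηV : f.base (genericPoint X) ∈ V := hUV hξU
  have hR : IsField (Y.presheaf.stalk (f.base (genericPoint X))) := by
    rw [GenStalk.map_genericPoint f]; exact Field.toIsField Y.functionField
  haveI : Nonempty U := hne
  haveI := functionField_isFractionRing_of_isAffineOpen X U hU
  have key : ∀ z : X.presheaf.stalk (genericPoint X), ∃ b s : Γ(X, U),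
      z = (X.presheaf.germ U (genericPoint X) hξU).hom b *
        ((X.presheaf.germ U (genericPoint X) hξU).hom s)⁻¹ := by
    intro z
    obtain ⟨b, s, -, hz⟩ := IsFractionRing.div_surjective (A := Γ(X, U)) z
    exact ⟨b, s, by rw [← hz, div_eq_mul_inv]; rfl⟩
  have hcomp : (f.stalkMap (genericPoint X)).hom.comp (Y.presheaf.germ V _ hηV).hom =
      (X.presheaf.germ U (genericPoint X) hξU).hom.comp (f.appLE V U hUV).hom := by
    rw [← CommRingCat.hom_comp, ← CommRingCat.hom_comp]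
    congr 1
    rw [Scheme.Hom.appLE, Category.assoc, TopCat.Presheaf.germ_res, Scheme.Hom.germ_stalkMap]
  have hafin : (f.appLE V U hUV).hom.Finite := by
    haveI : IsAffine (V : Scheme.{u}) := hV
    have := (HasAffineProperty.iff_of_isAffine (P := @IsFinite) (f := f.resLE V U hUV)).mp hfin
    exact (RingHom.finite_respectsIso.arrow_mk_iso_iff (arrowResLEAppIso f V U hUV)).mp this.2
  exact GenStalk.finite_of_frac _ _ _ _ hcomp hR key hafin

set_option maxHeartbeats 800000 in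
theorem exists_resLE_finite [IsIntegral X] [IsIntegral Y] [IsDominant f] [LocallyOfFiniteType f]
    (hA : (f.stalkMap (genericPoint X)).hom.Finite) :
    ∃ (U : X.Opens) (V : Y.Opens) (hUV : U ≤ f ⁻¹ᵁ V), IsAffineOpen U ∧ IsAffineOpen V ∧
      Nonempty ↥U ∧ IsFinite (f.resLE V U hUV) := by
  have hy : f.base (genericPoint X) = genericPoint Y := GenStalk.map_genericPoint f
  obtain ⟨V₀, hV₀, hηV₀⟩ : ∃ V₀ : Y.Opens, IsAffineOpen V₀ ∧ f.base (genericPoint X) ∈ V₀ := by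
    obtain ⟨_, ⟨A, hA, rfl⟩, hxA, -⟩ := Y.isBasis_affineOpens.exists_subset_of_mem_open
      (Set.mem_univ (f.base (genericPoint X))) isOpen_univ
    exact ⟨A, hA, hxA⟩
  obtain ⟨U₀, hU₀, hξU₀, hUV₀⟩ : ∃ U₀ : X.Opens, IsAffineOpen U₀ ∧ genericPoint X ∈ U₀ ∧
      U₀ ≤ f ⁻¹ᵁ V₀ := by
    obtain ⟨_, ⟨A, hA, rfl⟩, hxA, hAsub⟩ := X.isBasis_affineOpens.exists_subset_of_mem_open
      (show genericPoint X ∈ ((f ⁻¹ᵁ V₀ : X.Opens) : Set X) from hηV₀) (f ⁻¹ᵁ V₀).isOpen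
    exact ⟨A, hA, hxA, hAsub⟩
  haveI : Nonempty V₀ := ⟨⟨_, hηV₀⟩⟩
  haveI : Nonempty U₀ := ⟨⟨_, hξU₀⟩⟩
  have hcomp : (f.stalkMap (genericPoint X)).hom.comp (Y.presheaf.germ V₀ _ hηV₀).hom =
      (X.presheaf.germ U₀ (genericPoint X) hξU₀).hom.comp (f.appLE V₀ U₀ hUV₀).hom := by
    rw [← CommRingCat.hom_comp, ← CommRingCat.hom_comp]
    congr 1
    rw [Scheme.Hom.appLE, Category.assoc, TopCat.Presheaf.germ_res, Scheme.Hom.germ_stalkMap]
  have hinjB : Function.Injective (X.presheaf.germ U₀ (genericPoint X) hξU₀).hom :=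
    germ_injective_of_isIntegral X (genericPoint X) hξU₀
  have hmul : ∀ s : Γ(X, U₀), ∃ y : Γ(Y, V₀), y ≠ 0 ∧
      (f.appLE V₀ U₀ hUV₀).hom.IsIntegralElem ((f.appLE V₀ U₀ hUV₀).hom y * s) := by
    intro s
    letI aR : Algebra Γ(Y, V₀) (Y.presheaf.stalk (f.base (genericPoint X))) :=
      (Y.presheaf.germ V₀ _ hηV₀).hom.toAlgebra
    letI aK : Algebra (Y.presheaf.stalk (f.base (genericPoint X)))
        (X.presheaf.stalk (genericPoint X)) := (f.stalkMap (genericPoint X)).hom.toAlgebra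
    letI aRL : Algebra Γ(Y, V₀) (X.presheaf.stalk (genericPoint X)) :=
      ((X.presheaf.germ U₀ (genericPoint X) hξU₀).hom.comp (f.appLE V₀ U₀ hUV₀).hom).toAlgebra
    haveI : IsScalarTower Γ(Y, V₀) (Y.presheaf.stalk (f.base (genericPoint X)))
        (X.presheaf.stalk (genericPoint X)) := IsScalarTower.of_algebraMap_eq' hcomp.symm
    haveI : IsLocalization (nonZeroDivisors Γ(Y, V₀))
        (Y.presheaf.stalk (f.base (genericPoint X))) :=
      isFractionRing_stalk V₀ hV₀ _ hy hηV₀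
    have hint : IsIntegral (Y.presheaf.stalk (f.base (genericPoint X)))
        ((X.presheaf.germ U₀ (genericPoint X) hξU₀).hom s) := hA.to_isIntegral _
    obtain ⟨m, p, hp, hpe⟩ := IsIntegral.exists_multiple_integral_of_isLocalization
      (nonZeroDivisors Γ(Y, V₀)) (Rₘ := Y.presheaf.stalk (f.base (genericPoint X))) _ hint
    refine ⟨m.1, nonZeroDivisors.ne_zero m.2, p, hp, hinjB ?_⟩
    rw [map_zero, Polynomial.hom_eval₂, map_mul]
    rw [Submonoid.smul_def, Algebra.smul_def] at hpe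
    exact hpe
  obtain ⟨r, hr0, hr⟩ := exists_mul_integral (f.appLE V₀ U₀ hUV₀).hom
    (f.finiteType_appLE hV₀ hU₀ hUV₀) hmul
  have hUeq : X.basicOpen ((f.appLE V₀ U₀ hUV₀).hom r) = U₀ ⊓ f ⁻¹ᵁ (Y.basicOpen r) :=
    Scheme.basicOpen_appLE f U₀ V₀ hUV₀ r
  have hUV : X.basicOpen ((f.appLE V₀ U₀ hUV₀).hom r) ≤ f ⁻¹ᵁ (Y.basicOpen r) :=
    hUeq.le.trans inf_le_right
  have hVV₀ : Y.basicOpen r ≤ V₀ := Y.basicOpen_le r
  have hUU₀ : X.basicOpen ((f.appLE V₀ U₀ hUV₀).hom r) ≤ U₀ := X.basicOpen_le _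
  have hV : IsAffineOpen (Y.basicOpen r) := hV₀.basicOpen r
  have hU : IsAffineOpen (X.basicOpen ((f.appLE V₀ U₀ hUV₀).hom r)) := hU₀.basicOpen _
  have hηV : f.base (genericPoint X) ∈ Y.basicOpen r := by
    rw [hy]
    refine ((genericPoint_spec Y).mem_open_set_iff (Y.basicOpen r).isOpen).mpr ?_
    have hne : Y.basicOpen r ≠ ⊥ := fun h => hr0 ((basicOpen_eq_bot_iff r).mp h)
    obtain ⟨z, hz⟩ := (Opens.ne_bot_iff_nonempty _).mp hne
    exact ⟨z, trivial, hz⟩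
  have hξU : genericPoint X ∈ X.basicOpen ((f.appLE V₀ U₀ hUV₀).hom r) := by
    rw [hUeq]; exact ⟨hξU₀, hηV⟩
  refine ⟨_, _, hUV, hU, hV, ⟨⟨_, hξU⟩⟩, ?_⟩
  rw [IsFinite.iff_isIntegralHom_and_locallyOfFiniteType]
  refine ⟨?_, inferInstance⟩
  haveI : IsAffine ((Y.basicOpen r : Y.Opens) : Scheme.{u}) := hV
  haveI : IsAffine ((X.basicOpen ((f.appLE V₀ U₀ hUV₀).hom r) : X.Opens) : Scheme.{u}) := hU
  rw [HasAffineProperty.iff_of_isAffine (P := @IsIntegralHom)]
  refine ⟨inferInstance,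
    (RingHom.isIntegral_respectsIso.arrow_mk_iso_iff (arrowResLEAppIso f _ _ hUV)).mpr ?_⟩
  intro t
  have hcomm : (f.appLE (Y.basicOpen r) (X.basicOpen ((f.appLE V₀ U₀ hUV₀).hom r)) hUV).hom.comp
      (Y.presheaf.map (homOfLE hVV₀).op).hom =
      (X.presheaf.map (homOfLE hUU₀).op).hom.comp (f.appLE V₀ U₀ hUV₀).hom := by
    rw [← CommRingCat.hom_comp, ← CommRingCat.hom_comp, Scheme.Hom.map_appLE,
      Scheme.Hom.appLE_map]
  have hunit : IsUnit ((Y.presheaf.map (homOfLE hVV₀).op).hom r) :=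
    Y.toRingedSpace.isUnit_res_basicOpen r
  have hint := hr _ _ _ _ _ hcomm hunit
  haveI hloc := hU₀.isLocalization_of_eq_basicOpen ((f.appLE V₀ U₀ hUV₀).hom r)
    (homOfLE hUU₀) rfl
  letI := (X.presheaf.map (homOfLE hUU₀).op).hom.toAlgebra
  obtain ⟨⟨s, m⟩, hsm⟩ := IsLocalization.surj (Submonoid.powers ((f.appLE V₀ U₀ hUV₀).hom r)) t
  obtain ⟨n, hn⟩ := m.2
  obtain ⟨u, hu⟩ := hunit
  have hsm' : t * (X.presheaf.map (homOfLE hUU₀).op).hom m.1 =
      (X.presheaf.map (homOfLE hUU₀).op).hom s := hsm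
  have h1 : (X.presheaf.map (homOfLE hUU₀).op).hom m.1 =
      (f.appLE (Y.basicOpen r) (X.basicOpen ((f.appLE V₀ U₀ hUV₀).hom r)) hUV).hom
        ((u : Γ(Y, Y.basicOpen r)) ^ n) := by
    rw [← hn, map_pow, map_pow, hu]
    congr 1
    exact (RingHom.congr_fun hcomm r).symm
  have h2 : t = (X.presheaf.map (homOfLE hUU₀).op).hom s *
      (f.appLE (Y.basicOpen r) (X.basicOpen ((f.appLE V₀ U₀ hUV₀).hom r)) hUV).hom
        (((u⁻¹ : (Γ(Y, Y.basicOpen r))ˣ) : Γ(Y, Y.basicOpen r)) ^ n) := by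
    rw [← hsm', mul_assoc, h1, ← map_mul, ← mul_pow, Units.mul_inv, one_pow, map_one, mul_one]
  rw [h2]
  exact RingHom.IsIntegralElem.mul _ (hint s) (RingHom.isIntegralElem_map _)

end Groth.Agent.Helper9.GenFin
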