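import Mathlib
import Groth.Agent.Lib.Helper9.GenFin2

/-!
# Birational morphisms of integral schemes: iso on affine opens (helper9)
-/

set_option autoImplicit false
universe u
open CategoryTheory CategoryTheory.Limits AlgebraicGeometry TopologicalSpace

namespace Groth.Agent.Helper9.Birat

section ring
variable {R S : Type u} [CommRing R] [IsDomain R] [CommRing S]

theorem exists_range (φ : R →+* S) (hft : φ.FiniteType)
    (hfrac : ∀ s : S, ∃ b c : R, c ≠ 0 ∧ φ c * s = φ b) :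
    ∃ r : R, r ≠ 0 ∧ ∀ (R' S' : Type u) [CommRing R'] [CommRing S'] (a : R →+* R') (b : S →+* S')
      (φ' : R' →+* S'), φ'.comp a = b.comp φ → IsUnit (a r) →
      ∀ s : S, b s ∈ φ'.range := by
  classical
  letI := φ.toAlgebra
  obtain ⟨⟨G, hG⟩⟩ := hft
  choose nb nc hc0 hbc using hfrac
  refine ⟨∏ g ∈ G, nc g, Finset.prod_ne_zero_iff.mpr (fun g _ => hc0 g), ?_⟩
  intro R' S' _ _ a b φ' hcomm hunit s
  have hcomm' : ∀ x, φ' (a x) = b (φ x) := fun x => RingHom.congr_fun hcomm x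
  have hunit' : ∀ g ∈ G, IsUnit (a (nc g)) := by
    intro g hg
    have : a (nc g) ∣ a (∏ g ∈ G, nc g) := map_dvd a (Finset.dvd_prod_of_mem nc hg)
    exact isUnit_of_dvd_unit this hunit
  have hgen : ∀ g ∈ G, b g ∈ φ'.range := by
    intro g hg
    obtain ⟨u, hu⟩ := hunit' g hg
    refine ⟨↑u⁻¹ * a (nb g), ?_⟩
    have h1 : φ' (a (nc g)) * b g = φ' (a (nb g)) := by
      rw [hcomm', hcomm', ← map_mul, hbc]
    rw [map_mul, ← h1, ← mul_assoc, ← map_mul, ← hu, Units.inv_mul, map_one, one_mul]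
  have hs : s ∈ Algebra.adjoin R (G : Set S) := by rw [hG]; trivial
  induction hs using Algebra.adjoin_induction with
  | mem x hx => exact hgen x hx
  | algebraMap r => exact ⟨a r, hcomm' r⟩
  | add x y _ _ hx hy => rw [map_add]; exact Subring.add_mem _ hx hy
  | mul x y _ _ hx hy => rw [map_mul]; exact Subring.mul_mem _ hx hy

end ring

section scheme
variable {X Y : Scheme.{u}} (f : X ⟶ Y)

theorem stalkMap_surjective_of_residueFieldMap (x : X) (hX : IsField (X.presheaf.stalk x))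
    (h : Function.Surjective (f.residueFieldMap x).hom) :
    Function.Surjective (f.stalkMap x).hom := by
  have hiX : Function.Injective (X.residue x).hom := by
    letI := hX.toField
    exact RingHom.injective _
  intro s
  obtain ⟨t', ht'⟩ := h ((X.residue x).hom s)
  obtain ⟨t, rfl⟩ := (IsLocalRing.residue_surjective : Function.Surjective
    (Y.residue (f.base x)).hom) t'
  refine ⟨t, hiX ?_⟩
  rw [← ht']
  exact (congr($(Scheme.residue_residueFieldMap f x) t)).symm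

theorem appLE_injective [IsIntegral X] [IsIntegral Y]
    (hy : f.base (genericPoint X) = genericPoint Y) (V : Y.Opens) (U : X.Opens)
    (e : U ≤ f ⁻¹ᵁ V) (hξ : genericPoint X ∈ U) : Function.Injective (f.appLE V U e).hom := by
  have hηV : f.base (genericPoint X) ∈ V := e hξ
  have hcomp : (f.stalkMap (genericPoint X)).hom.comp (Y.presheaf.germ V _ hηV).hom =
      (X.presheaf.germ U (genericPoint X) hξ).hom.comp (f.appLE V U e).hom := by
    rw [← CommRingCat.hom_comp, ← CommRingCat.hom_comp]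
    congr 1
    rw [Scheme.Hom.appLE, Category.assoc, TopCat.Presheaf.germ_res, Scheme.Hom.germ_stalkMap]
  have hR : IsField (Y.presheaf.stalk (f.base (genericPoint X))) := by
    rw [hy]; exact Field.toIsField Y.functionField
  have h1 : Function.Injective (f.stalkMap (genericPoint X)).hom := by
    letI := hR.toField
    exact RingHom.injective _
  have h2 : Function.Injective (Y.presheaf.germ V _ hηV).hom :=
    germ_injective_of_isIntegral Y _ hηV
  have h3 : Function.Injective ((X.presheaf.germ U (genericPoint X) hξ).hom.comp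
      (f.appLE V U e).hom) := by
    rw [← hcomp]; exact h1.comp h2
  exact Function.Injective.of_comp h3

set_option maxHeartbeats 800000 in
theorem exists_resLE_isIso [IsIntegral X] [IsIntegral Y] [LocallyOfFiniteType f]
    (hy : f.base (genericPoint X) = genericPoint Y)
    (hsurj : Function.Surjective (f.stalkMap (genericPoint X)).hom) :
    ∃ (U : X.Opens) (V : Y.Opens) (hUV : U ≤ f ⁻¹ᵁ V), IsAffineOpen U ∧ IsAffineOpen V ∧
      genericPoint X ∈ U ∧ genericPoint Y ∈ V ∧ IsIso (f.resLE V U hUV) := by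
  obtain ⟨V₀, hV₀, hηV₀⟩ : ∃ V₀ : Y.Opens, IsAffineOpen V₀ ∧ f.base (genericPoint X) ∈ V₀ := by
    obtain ⟨_, ⟨A, hA, rfl⟩, hxA, -⟩ := Y.isBasis_affineOpens.exists_subset_of_mem_open
      (Set.mem_univ (f.base (genericPoint X))) isOpen_univ
    exact ⟨A, hA, hxA⟩
  obtain ⟨U₀, hU₀, hξU₀, hUV₀⟩ : ∃ U₀ : X.Opens, IsAffineOpen U₀ ∧ genericPoint X ∈ U₀ ∧
      U₀ ≤ f ⁻¹ᵁ V₀ := by
    obtain ⟨_, ⟨A, hA, rfl⟩, hxA, hAsub⟩ := X.isBasis_affineOpens.exists_subset_of_mem_open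
      (show genericPoint X ∈ ((f ⁻¹ᵁ V₀ : X.Opens) : Set X) from hηV₀) (f ⁻¹ᵁ V₀).isOpen
    exact ⟨A, hA, hxA, hAsub⟩
  haveI : Nonempty V₀ := ⟨⟨_, hηV₀⟩⟩
  haveI : Nonempty U₀ := ⟨⟨_, hξU₀⟩⟩
  have hcomp : (f.stalkMap (genericPoint X)).hom.comp (Y.presheaf.germ V₀ _ hηV₀).hom =
      (X.presheaf.germ U₀ (genericPoint X) hξU₀).hom.comp (f.appLE V₀ U₀ hUV₀).hom := by
    rw [← CommRingCat.hom_comp, ← CommRingCat.hom_comp]
    congr 1
    rw [Scheme.Hom.appLE, Category.assoc, TopCat.Presheaf.germ_res, Scheme.Hom.germ_stalkMap]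
  have hinjB : Function.Injective (X.presheaf.germ U₀ (genericPoint X) hξU₀).hom :=
    germ_injective_of_isIntegral X (genericPoint X) hξU₀
  have hfrac : ∀ s : Γ(X, U₀), ∃ b c : Γ(Y, V₀), c ≠ 0 ∧
      (f.appLE V₀ U₀ hUV₀).hom c * s = (f.appLE V₀ U₀ hUV₀).hom b := by
    intro s
    letI aR : Algebra Γ(Y, V₀) (Y.presheaf.stalk (f.base (genericPoint X))) :=
      (Y.presheaf.germ V₀ _ hηV₀).hom.toAlgebra
    haveI : IsLocalization (nonZeroDivisors Γ(Y, V₀))
        (Y.presheaf.stalk (f.base (genericPoint X))) :=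
      GenFin.isFractionRing_stalk V₀ hV₀ _ hy hηV₀
    obtain ⟨t, ht⟩ := hsurj ((X.presheaf.germ U₀ (genericPoint X) hξU₀).hom s)
    obtain ⟨⟨b, c⟩, hbc⟩ := IsLocalization.surj (nonZeroDivisors Γ(Y, V₀)) t
    have hbc' : t * (Y.presheaf.germ V₀ _ hηV₀).hom c.1 = (Y.presheaf.germ V₀ _ hηV₀).hom b := hbc
    refine ⟨b, c.1, nonZeroDivisors.ne_zero c.2, hinjB ?_⟩
    have h1 := congrArg (f.stalkMap (genericPoint X)).hom hbc'
    rw [map_mul, ht] at h1
    have h2 : ∀ z, (f.stalkMap (genericPoint X)).hom ((Y.presheaf.germ V₀ _ hηV₀).hom z) =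
        (X.presheaf.germ U₀ (genericPoint X) hξU₀).hom ((f.appLE V₀ U₀ hUV₀).hom z) :=
      fun z => RingHom.congr_fun hcomp z
    rw [h2, h2] at h1
    rw [map_mul, mul_comm]; exact h1
  obtain ⟨r, hr0, hr⟩ := exists_range (f.appLE V₀ U₀ hUV₀).hom
    (f.finiteType_appLE hV₀ hU₀ hUV₀) hfrac
  have hUeq : X.basicOpen ((f.appLE V₀ U₀ hUV₀).hom r) = U₀ ⊓ f ⁻¹ᵁ (Y.basicOpen r) :=
    Scheme.basicOpen_appLE f U₀ V₀ hUV₀ r
  have hUV : X.basicOpen ((f.appLE V₀ U₀ hUV₀).hom r) ≤ f ⁻¹ᵁ (Y.basicOpen r) :=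
    hUeq.le.trans inf_le_right
  have hVV₀ : Y.basicOpen r ≤ V₀ := Y.basicOpen_le r
  have hUU₀ : X.basicOpen ((f.appLE V₀ U₀ hUV₀).hom r) ≤ U₀ := X.basicOpen_le _
  have hV : IsAffineOpen (Y.basicOpen r) := hV₀.basicOpen r
  have hU : IsAffineOpen (X.basicOpen ((f.appLE V₀ U₀ hUV₀).hom r)) := hU₀.basicOpen _
  have hηV' : genericPoint Y ∈ Y.basicOpen r := by
    refine ((genericPoint_spec Y).mem_open_set_iff (Y.basicOpen r).isOpen).mpr ?_
    have hne : Y.basicOpen r ≠ ⊥ := fun h => hr0 ((basicOpen_eq_bot_iff r).mp h)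
    obtain ⟨z, hz⟩ := (Opens.ne_bot_iff_nonempty _).mp hne
    exact ⟨z, trivial, hz⟩
  have hηV : f.base (genericPoint X) ∈ Y.basicOpen r := by rw [hy]; exact hηV'
  have hξU : genericPoint X ∈ X.basicOpen ((f.appLE V₀ U₀ hUV₀).hom r) := by
    rw [hUeq]; exact ⟨hξU₀, hηV⟩
  refine ⟨_, _, hUV, hU, hV, hξU, hηV', ?_⟩
  haveI : IsAffine ((Y.basicOpen r : Y.Opens) : Scheme.{u}) := hV
  haveI : IsAffine ((X.basicOpen ((f.appLE V₀ U₀ hUV₀).hom r) : X.Opens) : Scheme.{u}) := hU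
  rw [← MorphismProperty.isomorphisms.iff,
    HasAffineProperty.iff_of_isAffine (P := MorphismProperty.isomorphisms Scheme)]
  refine ⟨inferInstance, ?_⟩
  rw [← MorphismProperty.isomorphisms.iff,
    (MorphismProperty.isomorphisms CommRingCat).arrow_mk_iso_iff (arrowResLEAppIso f _ _ hUV),
    MorphismProperty.isomorphisms.iff, ConcreteCategory.isIso_iff_bijective]
  refine ⟨appLE_injective f hy _ _ hUV hξU, ?_⟩
  intro t
  have hcomm : (f.appLE (Y.basicOpen r) (X.basicOpen ((f.appLE V₀ U₀ hUV₀).hom r)) hUV).hom.comp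
      (Y.presheaf.map (homOfLE hVV₀).op).hom =
      (X.presheaf.map (homOfLE hUU₀).op).hom.comp (f.appLE V₀ U₀ hUV₀).hom := by
    rw [← CommRingCat.hom_comp, ← CommRingCat.hom_comp, Scheme.Hom.map_appLE,
      Scheme.Hom.appLE_map]
  have hunit : IsUnit ((Y.presheaf.map (homOfLE hVV₀).op).hom r) :=
    Y.toRingedSpace.isUnit_res_basicOpen r
  have hrange := hr _ _ _ _ _ hcomm hunit
  haveI hloc := hU₀.isLocalization_of_eq_basicOpen ((f.appLE V₀ U₀ hUV₀).hom r)
    (homOfLE hUU₀) rfl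
  letI := (X.presheaf.map (homOfLE hUU₀).op).hom.toAlgebra
  obtain ⟨⟨s, m⟩, hsm⟩ := IsLocalization.surj (Submonoid.powers ((f.appLE V₀ U₀ hUV₀).hom r)) t
  obtain ⟨n, hn⟩ := m.2
  obtain ⟨u, hu⟩ := hunit
  have hsm' : t * (X.presheaf.map (homOfLE hUU₀).op).hom m.1 =
      (X.presheaf.map (homOfLE hUU₀).op).hom s := hsm
  have h1 : (X.presheaf.map (homOfLE hUU₀).op).hom m.1 =
      (f.appLE (Y.basicOpen r) (X.basicOpen ((f.appLE V₀ U₀ hUV₀).hom r)) hUV).hom
        ((u : Γ(Y, Y.basicOpen r)) ^ n) := by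
    rw [← hn, map_pow, map_pow, hu]
    congr 1
    exact (RingHom.congr_fun hcomm r).symm
  obtain ⟨w, hw⟩ := hrange s
  refine ⟨w * ((u⁻¹ : (Γ(Y, Y.basicOpen r))ˣ) : Γ(Y, Y.basicOpen r)) ^ n, ?_⟩
  show (f.appLE (Y.basicOpen r) (X.basicOpen ((f.appLE V₀ U₀ hUV₀).hom r)) hUV).hom _ = t
  rw [map_mul, hw, ← hsm', mul_assoc, h1, ← map_mul, ← mul_pow, Units.mul_inv, one_pow, map_one,
    mul_one]

end scheme

end Groth.Agent.Helper9.Birat
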