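import Mathlib
import Groth.Agent.Lib.Helper9.Birat

/-!
# Birationality and residue fields at generic points (helper9)
-/

set_option autoImplicit false
universe u
open CategoryTheory CategoryTheory.Limits AlgebraicGeometry TopologicalSpace

namespace Groth.Agent.Helper9.Birat

lemma fwd_core {S X Y U : Scheme.{u}} (sX : X ⟶ S) (sY : Y ⟶ S) (a : U ⟶ X) (b : U ⟶ Y)
    [IsOpenImmersion a] [IsOpenImmersion b] (hab : b ≫ sY = a ≫ sX) (u : U) (x : X)
    (hx : a.base u = x) (y : Y) (hy : b.base u = y) :
    ∃ (hs : sX.base x = sY.base y) (e : X.residueField x ≅ Y.residueField y),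
      sX.residueFieldMap x ≫ e.hom =
        eqToHom (congrArg S.residueField hs) ≫ sY.residueFieldMap y := by
  subst hx hy
  have hs : sX.base (a.base u) = sY.base (b.base u) := by
    have h1 : (a ≫ sX).base u = (b ≫ sY).base u := by rw [hab]
    exact h1
  refine ⟨hs, asIso (a.residueFieldMap u) ≪≫ (asIso (b.residueFieldMap u)).symm, ?_⟩
  rw [Iso.trans_hom, Iso.symm_hom, asIso_inv, asIso_hom, ← Category.assoc, IsIso.comp_inv_eq,
    Category.assoc, ← Scheme.residueFieldMap_comp, ← Scheme.residueFieldMap_comp,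
    Scheme.Hom.residueFieldMap_congr hab.symm u]
  rfl

set_option backward.isDefEq.respectTransparency false in
lemma lemmaE {X Y : Scheme.{u}} (U : X.Opens) (u : ↥(U : Scheme.{u})) (f : (U : Scheme.{u}) ⟶ Y)
    (φ : Spec (X.presheaf.stalk u.1) ⟶ Y) (hφ : φ = U.fromSpecStalkOfMem u.1 u.2 ≫ f)
    (y : Y) (α : Y.residueField y ⟶ X.residueField u.1)
    (hα : Spec.map (X.residue u.1) ≫ φ = Spec.map α ≫ Y.fromSpecResidueField y) :
    y = f.base u ∧ (Function.Surjective α.hom →
      Function.Surjective (f.residueFieldMap u).hom) := by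
  have hρ : Spec.map (X.residue u.1) ≫ U.fromSpecStalkOfMem u.1 u.2 =
      Spec.map (inv (U.ι.residueFieldMap u)) ≫ (U : Scheme.{u}).fromSpecResidueField u := by
    rw [← cancel_mono U.ι, Category.assoc, Category.assoc, Scheme.Opens.fromSpecStalkOfMem_ι,
      ← Scheme.Hom.SpecMap_residueFieldMap_fromSpecResidueField, ← Category.assoc,
      ← Spec.map_comp, IsIso.hom_inv_id, Spec.map_id]
    exact (Category.id_comp _).symm
  have hE : Spec.map α ≫ Y.fromSpecResidueField y =
      Spec.map (f.residueFieldMap u ≫ inv (U.ι.residueFieldMap u)) ≫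
        Y.fromSpecResidueField (f.base u) := by
    rw [← hα, hφ, ← Category.assoc, hρ, Category.assoc,
      ← Scheme.Hom.SpecMap_residueFieldMap_fromSpecResidueField, Spec.map_comp, Category.assoc]
  have hpt : y = f.base u := by
    have h1 : (Spec.map α ≫ Y.fromSpecResidueField y) default =
        (Spec.map (f.residueFieldMap u ≫ inv (U.ι.residueFieldMap u)) ≫
          Y.fromSpecResidueField (f.base u)) default := by rw [hE]; rfl
    rw [Scheme.Hom.comp_apply, Scheme.Hom.comp_apply, Scheme.fromSpecResidueField_apply,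
      Scheme.fromSpecResidueField_apply] at h1
    exact h1
  subst hpt
  refine ⟨rfl, fun hs => ?_⟩
  have h2 : α = f.residueFieldMap u ≫ inv (U.ι.residueFieldMap u) :=
    Spec.map_injective ((cancel_mono _).mp hE)
  have h3 : f.residueFieldMap u = α ≫ U.ι.residueFieldMap u := by
    rw [h2, Category.assoc, IsIso.inv_hom_id, Category.comp_id]
  rw [h3, CommRingCat.hom_comp]
  exact (ConcreteCategory.bijective_of_isIso (U.ι.residueFieldMap u)).2.comp hs

lemma eqToHom_fromSpecResidueField {S : Scheme.{u}} {s t : S} (h : s = t) :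
    Spec.map (eqToHom (congrArg S.residueField h)) ≫ S.fromSpecResidueField s =
      S.fromSpecResidueField t := by
  subst h
  simp

lemma bwd_phi {S X Y : Scheme.{u}} (sX : X ⟶ S) (sY : Y ⟶ S) (x : X) (y : Y)
    (hs : sX.base x = sY.base y) (e : X.residueField x ≅ Y.residueField y)
    (he : sX.residueFieldMap x ≫ e.hom =
      eqToHom (congrArg S.residueField hs) ≫ sY.residueFieldMap y) :
    (Spec.map e.inv ≫ Y.fromSpecResidueField y) ≫ sY = X.fromSpecResidueField x ≫ sX := by
  have h1 : sY.residueFieldMap y ≫ e.inv =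
      eqToHom (congrArg S.residueField hs.symm) ≫ sX.residueFieldMap x := by
    rw [← cancel_mono e.hom, Category.assoc, Category.assoc, e.inv_hom_id, Category.comp_id, he,
      ← Category.assoc, eqToHom_trans, eqToHom_refl, Category.id_comp]
  rw [Category.assoc, ← Scheme.Hom.SpecMap_residueFieldMap_fromSpecResidueField, ← Category.assoc,
    ← Spec.map_comp, h1, Spec.map_comp, Category.assoc, eqToHom_fromSpecResidueField hs.symm,
    Scheme.Hom.SpecMap_residueFieldMap_fromSpecResidueField]

lemma bwd_core {S X Y : Scheme.{u}} (sX : X ⟶ S) (sY : Y ⟶ S) [LocallyOfFiniteType sY]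
    (x : X) [X.IsGermInjectiveAt x] (hx : IsField (X.presheaf.stalk x)) (y : Y)
    (hs : sX.base x = sY.base y) (e : X.residueField x ≅ Y.residueField y)
    (he : sX.residueFieldMap x ≫ e.hom =
      eqToHom (congrArg S.residueField hs) ≫ sY.residueFieldMap y) :
    ∃ (U : X.Opens) (_ : x ∈ U) (f : U.toScheme ⟶ Y), f ≫ sY = U.ι ≫ sX ∧
      ∀ u : U.toScheme, U.ι.base u = x →
        f.base u = y ∧ Function.Surjective (f.residueFieldMap u).hom := by
  haveI : IsIso (X.residue x) := by
    rw [ConcreteCategory.isIso_iff_bijective]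
    refine ⟨?_, IsLocalRing.residue_surjective⟩
    letI := hx.toField
    exact RingHom.injective _
  have hφ : (Spec.map (inv (X.residue x)) ≫ Spec.map e.inv ≫ Y.fromSpecResidueField y) ≫ sY =
      X.fromSpecStalk x ≫ sX := by
    rw [Category.assoc, bwd_phi sX sY x y hs e he]
    change Spec.map (inv (X.residue x)) ≫ (Spec.map (X.residue x) ≫ X.fromSpecStalk x) ≫ sX = _
    rw [Category.assoc, ← Category.assoc, ← Spec.map_comp, IsIso.hom_inv_id, Spec.map_id,
      Category.id_comp]
  obtain ⟨U, hxU, f, hf₁, hf₂⟩ := spread_out_of_isGermInjective' sX sY _ hφ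
  refine ⟨U, hxU, f, hf₂, fun u hu => ?_⟩
  obtain rfl : u = ⟨x, hxU⟩ := Subtype.ext hu
  have hα : Spec.map (X.residue x) ≫
      (Spec.map (inv (X.residue x)) ≫ Spec.map e.inv ≫ Y.fromSpecResidueField y) =
      Spec.map e.inv ≫ Y.fromSpecResidueField y := by
    rw [← Category.assoc, ← Spec.map_comp, IsIso.inv_hom_id, Spec.map_id, Category.id_comp]
  obtain ⟨h1, h2⟩ := lemmaE U ⟨x, hxU⟩ f _ hf₁ y e.inv hα
  refine ⟨h1.symm, h2 ?_⟩
  exact (ConcreteCategory.bijective_of_isIso e.inv).2

end Groth.Agent.Helper9.Birat
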