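import Groth.Prelude.Def_Found
import Mathlib

set_option autoImplicit false
universe u

namespace Groth.Agent.Helper9

/-- Order-theoretic version of the catenary property. -/
def OrdCat (X : Type*) [PartialOrder X] : Prop :=
  (∀ p q : X, p ≤ q → ∃ n : ℕ, ∀ s : LTSeries X, s.head = p → s.last = q → s.length ≤ n) ∧
  ∀ s t : LTSeries X, s.head = t.head → s.last = t.last →
    (∀ i : Fin s.length, s (Fin.castSucc i) ⋖ s (Fin.succ i)) →
    (∀ i : Fin t.length, t (Fin.castSucc i) ⋖ t (Fin.succ i)) →
    s.length = t.length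

theorem isCatenary_iff_ordCat (R : Type u) [CommRing R] :
    CAlg.IsCatenary R ↔ OrdCat (PrimeSpectrum R) := Iff.rfl

/-- The catenary property passes to a convex sub-order. -/
theorem OrdCat.of_embedding {X Y : Type*} [PartialOrder X] [PartialOrder Y] (φ : X → Y)
    (hle : ∀ x x' : X, φ x ≤ φ x' ↔ x ≤ x')
    (hconv : ∀ (x x' : X) (y : Y), φ x ≤ y → y ≤ φ x' → ∃ z, φ z = y) (hY : OrdCat Y) :
    OrdCat X := by
  have hinj : Function.Injective φ := fun a b h =>
    le_antisymm ((hle a b).1 h.le) ((hle b a).1 h.ge)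
  have hlt : ∀ x x' : X, φ x < φ x' ↔ x < x' := fun x x' => by
    rw [lt_iff_le_and_ne, lt_iff_le_and_ne, hle, hinj.ne_iff]
  have hmono : StrictMono φ := fun x x' h => (hlt x x').2 h
  have hcov : ∀ x x' : X, x ⋖ x' → φ x ⋖ φ x' := by
    intro x x' h
    refine ⟨hmono h.1, ?_⟩
    intro y hy hy'
    obtain ⟨z, rfl⟩ := hconv x x' y hy.le hy'.le
    exact h.2 ((hlt _ _).1 hy) ((hlt _ _).1 hy')
  refine ⟨?_, ?_⟩
  · intro p q hpq
    obtain ⟨n, hn⟩ := hY.1 (φ p) (φ q) ((hle p q).2 hpq)
    refine ⟨n, fun s hs hs' => ?_⟩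
    have := hn (s.map φ hmono) (by rw [LTSeries.head_map, hs]) (by rw [LTSeries.last_map, hs'])
    simpa using this
  · intro s t hst hst' hs ht
    have := hY.2 (s.map φ hmono) (t.map φ hmono)
      (by rw [LTSeries.head_map, LTSeries.head_map, hst])
      (by rw [LTSeries.last_map, LTSeries.last_map, hst'])
      (fun i => hcov _ _ (hs i)) (fun i => hcov _ _ (ht i))
    simpa using this

/-- If every chain lies in the image of a convex sub-order which is catenary, the order is catenary.
Precisely: for each `p` there is a catenary order `X` embedding convexly into `Y` with all elements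
above `p` in the image. -/
theorem OrdCat.of_cover {Y : Type*} [PartialOrder Y]
    (h : ∀ p : Y, ∃ (X : Type u) (_ : PartialOrder X) (φ : X → Y),
      (∀ x x' : X, φ x ≤ φ x' ↔ x ≤ x') ∧ (∀ y : Y, p ≤ y → ∃ z, φ z = y) ∧ OrdCat X) :
    OrdCat Y := by
  classical
  -- lifting of a series all of whose members are above p
  have lift : ∀ (X : Type u) [PartialOrder X] (φ : X → Y),
      (∀ x x' : X, φ x ≤ φ x' ↔ x ≤ x') → ∀ p : Y, (∀ y : Y, p ≤ y → ∃ z, φ z = y) →
      ∀ s : LTSeries Y, s.head = p → ∃ s' : LTSeries X, s'.length = s.length ∧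
        φ s'.head = s.head ∧ φ s'.last = s.last ∧
        ((∀ i : Fin s.length, s (Fin.castSucc i) ⋖ s (Fin.succ i)) →
          (∀ i : Fin s'.length, s' (Fin.castSucc i) ⋖ s' (Fin.succ i))) := by
    intro X _ φ hle p hsurj s hs
    have hinj : Function.Injective φ := fun a b h =>
      le_antisymm ((hle a b).1 h.le) ((hle b a).1 h.ge)
    have hlt : ∀ x x' : X, φ x < φ x' ↔ x < x' := fun x x' => by
      rw [lt_iff_le_and_ne, lt_iff_le_and_ne, hle, hinj.ne_iff]
    have hmem : ∀ i, ∃ z, φ z = s i := fun i => hsurj _ (by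
      rw [← hs]; exact LTSeries.head_le s i)
    choose g hg using hmem
    have hgmono : StrictMono g := fun i j hij => by
      rw [← hlt, hg, hg]; exact s.strictMono hij
    refine ⟨LTSeries.mk s.length g hgmono, rfl, ?_, ?_, ?_⟩
    · exact hg _
    · exact hg _
    · intro hcov i
      have h1 := hcov i
      refine ⟨hgmono (Fin.castSucc_lt_succ), ?_⟩
      intro c hc hc'
      refine h1.2 (c := φ c) ?_ ?_
      · have := (hlt _ _).2 hc
        rwa [show (LTSeries.mk s.length g hgmono) (Fin.castSucc i) = g (Fin.castSucc i) from rfl,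
          hg] at this
      · have := (hlt _ _).2 hc'
        rwa [show (LTSeries.mk s.length g hgmono) (Fin.succ i) = g (Fin.succ i) from rfl,
          hg] at this
  refine ⟨?_, ?_⟩
  · intro p q hpq
    obtain ⟨X, _, φ, hle, hsurj, hX⟩ := h p
    obtain ⟨p', hp'⟩ := hsurj p le_rfl
    obtain ⟨q', hq'⟩ := hsurj q hpq
    have hinj : Function.Injective φ := fun a b h =>
      le_antisymm ((hle a b).1 h.le) ((hle b a).1 h.ge)
    obtain ⟨n, hn⟩ := hX.1 p' q' (by rw [← hle, hp', hq']; exact hpq)
    refine ⟨n, fun s hs hs' => ?_⟩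
    obtain ⟨s', hlen, hhead, hlast, -⟩ := lift X φ hle p hsurj s hs
    rw [← hlen]
    apply hn
    · apply hinj; rw [hhead, hs, hp']
    · apply hinj; rw [hlast, hs', hq']
  · intro s t hst hst' hs ht
    obtain ⟨X, _, φ, hle, hsurj, hX⟩ := h s.head
    have hinj : Function.Injective φ := fun a b h =>
      le_antisymm ((hle a b).1 h.le) ((hle b a).1 h.ge)
    obtain ⟨s', hlen, hhead, hlast, hcov⟩ := lift X φ hle s.head hsurj s rfl
    obtain ⟨t', hlen', hhead', hlast', hcov'⟩ := lift X φ hle s.head hsurj t hst.symm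
    rw [← hlen, ← hlen']
    apply hX.2 s' t'
    · apply hinj; rw [hhead, hhead', hst]
    · apply hinj; rw [hlast, hlast', hst']
    · exact hcov hs
    · exact hcov' ht

end Groth.Agent.Helper9
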