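import Mathlib
import Groth.Agent.H29.RegLocal2

/-!
# Extending rational maps to a proper scheme over valuation-ring points (helper9)

* `valuationRing_of_regular`, `valuationRing_of_normal`: local rings of dimension `≤ 1` that are
  regular / normal Noetherian are valuation rings.
* `eq_of_dense`: morphisms to a separated scheme agreeing on a dense open of a reduced scheme agree.
* `Agrees`, `compat`, `glue`: gluing morphisms on opens that agree with a fixed `g` on a dense open.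
* `local_ext`: extension of a rational map at a point whose local ring is a valuation ring.
* `global_ext`: the glued extension.
-/

set_option autoImplicit false
universe u
open CategoryTheory CategoryTheory.Limits AlgebraicGeometry TopologicalSpace

namespace Groth.Agent.Helper9.RatExt

theorem valuationRing_of_regular (A : Type u) [CommRing A] [IsRegularLocalRing A]
    (h : ringKrullDim A ≤ 1) : ∃ _ : IsDomain A, ValuationRing A := by
  have hd := Groth.Agent.H29.isDomain_of_isRegularLocalRing A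
  refine ⟨hd, ?_⟩
  have h1 := (IsRegularLocalRing.iff_finrank_cotangentSpace (R := A)).mp inferInstance
  have h2 : Module.finrank (IsLocalRing.ResidueField A) (IsLocalRing.CotangentSpace A) ≤ 1 := by
    have h3 : ((Module.finrank (IsLocalRing.ResidueField A) (IsLocalRing.CotangentSpace A) : ℕ) :
        WithBot ℕ∞) ≤ 1 := h1 ▸ h
    exact_mod_cast h3
  exact ((tfae_of_isNoetherianRing_of_isLocalRing_of_isDomain A).out 5 1).mp h2

theorem valuationRing_of_normal (A : Type u) [CommRing A] [IsLocalRing A] [IsNoetherianRing A]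
    [IsDomain A] [IsIntegrallyClosed A] (h : ringKrullDim A ≤ 1) : ValuationRing A := by
  have h1 : Ring.KrullDimLE 1 A := Ring.krullDimLE_iff.mpr h
  have h4 : IsIntegrallyClosed A ∧
      ∀ P : Ideal A, P ≠ ⊥ → P.IsPrime → P = IsLocalRing.maximalIdeal A :=
    ⟨inferInstance, fun P hP0 hP => IsLocalRing.eq_maximalIdeal
      (Ring.krullDimLE_one_iff_of_noZeroDivisors.mp h1 P hP0 hP)⟩
  exact ((tfae_of_isNoetherianRing_of_isLocalRing_of_isDomain A).out 3 1).mp h4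

lemma isDominant_homOfLE {Y : Scheme.{u}} (V T : Y.Opens) (hV : Dense (V : Set Y)) :
    IsDominant (Y.homOfLE (inf_le_left : T ⊓ V ≤ T)) := by
  constructor
  have hr : Set.range (Y.homOfLE (inf_le_left : T ⊓ V ≤ T)) =
      T.ι ⁻¹' ((T ⊓ V : Y.Opens) : Set Y) := by
    rw [← Scheme.Hom.coe_opensRange, Scheme.opensRange_homOfLE]; rfl
  rw [DenseRange, hr]
  refine Dense.mono ?_ (hV.preimage T.ι.isOpenEmbedding.isOpenMap)
  intro t ht
  exact ⟨t.2, ht⟩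

lemma eq_of_dense {S X Y : Scheme.{u}} [IsReduced Y] (p : X ⟶ S) [IsSeparated p]
    (V : Y.Opens) (hV : Dense (V : Set Y)) (T : Y.Opens) (a b : T.toScheme ⟶ X)
    (hab : a ≫ p = b ≫ p)
    (h : Y.homOfLE (inf_le_left : T ⊓ V ≤ T) ≫ a = Y.homOfLE (inf_le_left : T ⊓ V ≤ T) ≫ b) :
    a = b := by
  haveI := isDominant_homOfLE V T hV
  exact ext_of_isDominant_of_isSeparated p hab (Y.homOfLE (inf_le_left : T ⊓ V ≤ T)) h

/-- `f : W → X` agrees with `g : V → X` on `W ∩ V`. -/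
def Agrees {X Y : Scheme.{u}} (V : Y.Opens) (g : V.toScheme ⟶ X) (W : Y.Opens)
    (f : W.toScheme ⟶ X) : Prop :=
  Y.homOfLE (inf_le_left : W ⊓ V ≤ W) ≫ f = Y.homOfLE (inf_le_right : W ⊓ V ≤ V) ≫ g

lemma agrees_self {X Y : Scheme.{u}} (V : Y.Opens) (g : V.toScheme ⟶ X) : Agrees V g V g := rfl

lemma compat {S X Y : Scheme.{u}} [IsReduced Y] (p : X ⟶ S) [IsSeparated p] (q : Y ⟶ S)
    (V : Y.Opens) (hV : Dense (V : Set Y)) (g : V.toScheme ⟶ X)
    (W₁ W₂ : Y.Opens) (f₁ : W₁.toScheme ⟶ X) (f₂ : W₂.toScheme ⟶ X)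
    (h₁ : f₁ ≫ p = W₁.ι ≫ q) (h₂ : f₂ ≫ p = W₂.ι ≫ q)
    (a₁ : Agrees V g W₁ f₁) (a₂ : Agrees V g W₂ f₂) :
    Y.homOfLE (inf_le_left : W₁ ⊓ W₂ ≤ W₁) ≫ f₁ = Y.homOfLE (inf_le_right : W₁ ⊓ W₂ ≤ W₂) ≫ f₂ := by
  apply eq_of_dense p V hV (W₁ ⊓ W₂)
  · simp only [Category.assoc, h₁, h₂, Scheme.homOfLE_ι_assoc]
  · have e₁ : Y.homOfLE (inf_le_left : W₁ ⊓ W₂ ⊓ V ≤ W₁ ⊓ W₂) ≫
        Y.homOfLE (inf_le_left : W₁ ⊓ W₂ ≤ W₁) ≫ f₁ =
        Y.homOfLE (inf_le_right : W₁ ⊓ W₂ ⊓ V ≤ V) ≫ g := by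
      have e : Y.homOfLE (inf_le_left : W₁ ⊓ W₂ ⊓ V ≤ W₁ ⊓ W₂) ≫
          Y.homOfLE (inf_le_left : W₁ ⊓ W₂ ≤ W₁) =
          Y.homOfLE (le_inf (inf_le_left.trans inf_le_left) inf_le_right :
            W₁ ⊓ W₂ ⊓ V ≤ W₁ ⊓ V) ≫ Y.homOfLE (inf_le_left : W₁ ⊓ V ≤ W₁) := by
        simp only [Scheme.homOfLE_homOfLE]
      rw [← Category.assoc, e, Category.assoc, a₁, ← Category.assoc, Scheme.homOfLE_homOfLE]
    have e₂ : Y.homOfLE (inf_le_left : W₁ ⊓ W₂ ⊓ V ≤ W₁ ⊓ W₂) ≫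
        Y.homOfLE (inf_le_right : W₁ ⊓ W₂ ≤ W₂) ≫ f₂ =
        Y.homOfLE (inf_le_right : W₁ ⊓ W₂ ⊓ V ≤ V) ≫ g := by
      have e : Y.homOfLE (inf_le_left : W₁ ⊓ W₂ ⊓ V ≤ W₁ ⊓ W₂) ≫
          Y.homOfLE (inf_le_right : W₁ ⊓ W₂ ≤ W₂) =
          Y.homOfLE (le_inf (inf_le_left.trans inf_le_right) inf_le_right :
            W₁ ⊓ W₂ ⊓ V ≤ W₂ ⊓ V) ≫ Y.homOfLE (inf_le_left : W₂ ⊓ V ≤ W₂) := by
        simp only [Scheme.homOfLE_homOfLE]
      rw [← Category.assoc, e, Category.assoc, a₂, ← Category.assoc, Scheme.homOfLE_homOfLE]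
    rw [e₁, e₂]

lemma glue {S X Y : Scheme.{u}} (p : X ⟶ S) (q : Y ⟶ S) {J : Type u} (W : J → Y.Opens)
    (f : ∀ i, (W i).toScheme ⟶ X)
    (hp : ∀ i, f i ≫ p = (W i).ι ≫ q)
    (hf : ∀ i j, Y.homOfLE (inf_le_left : W i ⊓ W j ≤ W i) ≫ f i =
      Y.homOfLE (inf_le_right : W i ⊓ W j ≤ W j) ≫ f j) :
    ∃ F : (⨆ i, W i).toScheme ⟶ X, (∀ i, Y.homOfLE (le_iSup W i) ≫ F = f i) ∧
      F ≫ p = (⨆ i, W i).ι ≫ q := by
  have key : ∀ i j, pullback.fst ((Scheme.Opens.iSupOpenCover W).f i)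
      ((Scheme.Opens.iSupOpenCover W).f j) ≫ f i =
      pullback.snd ((Scheme.Opens.iSupOpenCover W).f i)
      ((Scheme.Opens.iSupOpenCover W).f j) ≫ f j := by
    intro i j
    change pullback.fst (Y.homOfLE (le_iSup W i)) (Y.homOfLE (le_iSup W j)) ≫ f i =
      pullback.snd (Y.homOfLE (le_iSup W i)) (Y.homOfLE (le_iSup W j)) ≫ f j
    have hcond : pullback.fst (Y.homOfLE (le_iSup W i)) (Y.homOfLE (le_iSup W j)) ≫ (W i).ι =
        pullback.snd (Y.homOfLE (le_iSup W i)) (Y.homOfLE (le_iSup W j)) ≫ (W j).ι := by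
      have h1 := pullback.condition (f := Y.homOfLE (le_iSup W i)) (g := Y.homOfLE (le_iSup W j))
      have h2 := congr($h1 ≫ (⨆ i, W i).ι)
      simpa only [Category.assoc, Scheme.homOfLE_ι] using h2
    have hrange : Set.range (pullback.fst (Y.homOfLE (le_iSup W i)) (Y.homOfLE (le_iSup W j)) ≫
        (W i).ι) ⊆ Set.range (W i ⊓ W j).ι := by
      rw [Scheme.Opens.range_ι]
      rintro _ ⟨x, rfl⟩
      refine ⟨?_, ?_⟩
      · rw [Scheme.Hom.comp_apply]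
        exact ((pullback.fst (Y.homOfLE (le_iSup W i)) (Y.homOfLE (le_iSup W j))) x).2
      · rw [hcond, Scheme.Hom.comp_apply]
        exact ((pullback.snd (Y.homOfLE (le_iSup W i)) (Y.homOfLE (le_iSup W j))) x).2
    let c := IsOpenImmersion.lift (W i ⊓ W j).ι _ hrange
    have hc : c ≫ (W i ⊓ W j).ι = _ := IsOpenImmersion.lift_fac _ _ hrange
    have hc1 : c ≫ Y.homOfLE (inf_le_left : W i ⊓ W j ≤ W i) = pullback.fst _ _ := by
      rw [← cancel_mono (W i).ι, Category.assoc, Y.homOfLE_ι, hc]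
    have hc2 : c ≫ Y.homOfLE (inf_le_right : W i ⊓ W j ≤ W j) = pullback.snd _ _ := by
      rw [← cancel_mono (W j).ι, Category.assoc, Y.homOfLE_ι, hc, hcond]
    rw [← hc1, ← hc2, Category.assoc, Category.assoc, hf]
  have hι : ∀ i, Y.homOfLE (le_iSup W i) ≫ (Scheme.Opens.iSupOpenCover W).glueMorphisms f key =
      f i := fun i => (Scheme.Opens.iSupOpenCover W).ι_glueMorphisms f key i
  refine ⟨(Scheme.Opens.iSupOpenCover W).glueMorphisms f key, hι, ?_⟩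
  refine (Scheme.Opens.iSupOpenCover W).hom_ext _ _ fun i => ?_
  change Y.homOfLE (le_iSup W i) ≫ _ ≫ p = Y.homOfLE (le_iSup W i) ≫ _ ≫ q
  rw [← Category.assoc, hι, hp, Scheme.homOfLE_ι_assoc]

end Groth.Agent.Helper9.RatExt
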