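import Mathlib

/-!
# Valuation subrings of the function field dominating local rings (helper9)
-/

set_option autoImplicit false
universe u
open CategoryTheory CategoryTheory.Limits AlgebraicGeometry TopologicalSpace

namespace Groth.Agent.Helper9.ValDom

set_option backward.isDefEq.respectTransparency.types false in
/-- A valuation subring `R` of `K(X)` containing the image of `O_{Y,y}` has a centre on `X` when
`f : X ⟶ Y` is universally closed: there is `l : Spec R ⟶ X` extending the generic point, and
`R` dominates the local ring at `x = l(closed point)`. -/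
theorem exists_center {X Y : Scheme.{u}} [IsIntegral X] (f : X ⟶ Y) [UniversallyClosed f]
    (R : ValuationSubring X.functionField) (y : Y) (hy : f (genericPoint X) ⤳ y)
    (h1 : ∀ a : Y.presheaf.stalk y,
      (Y.presheaf.stalkSpecializes hy ≫ f.stalkMap (genericPoint X)).hom a ∈ R) :
    ∃ l : Spec (.of R) ⟶ X,
      Spec.map (CommRingCat.ofHom (algebraMap R X.functionField)) ≫ l =
        X.fromSpecStalk (genericPoint X) ∧
      (∀ a : X.presheaf.stalk (l (IsLocalRing.closedPoint R)),
        algebraMap (X.presheaf.stalk (l (IsLocalRing.closedPoint R))) X.functionField a =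
          ((Scheme.stalkClosedPointTo l).hom a : X.functionField)) := by
  set ψ := (Y.presheaf.stalkSpecializes hy ≫ f.stalkMap (genericPoint X)) with hψ
  let ψR : Y.presheaf.stalk y ⟶ CommRingCat.of R :=
    CommRingCat.ofHom (ψ.hom.codRestrict R.toSubring h1)
  have hψR : ψR ≫ CommRingCat.ofHom (algebraMap R X.functionField) = ψ := by ext a; rfl
  let i₂ : Spec (.of R) ⟶ Y := Spec.map ψR ≫ Y.fromSpecStalk y
  have hcomm : X.fromSpecStalk (genericPoint X) ≫ f =
      Spec.map (CommRingCat.ofHom (algebraMap R X.functionField)) ≫ i₂ := by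
    rw [← Category.assoc, ← Spec.map_comp, hψR, hψ, Spec.map_comp, Category.assoc,
      Scheme.SpecMap_stalkSpecializes_fromSpecStalk, Scheme.SpecMap_stalkMap_fromSpecStalk]
  let sq : ValuativeCommSq f :=
    { R := R, K := X.functionField, i₁ := X.fromSpecStalk (genericPoint X), i₂ := i₂,
      commSq := ⟨hcomm⟩ }
  have hex : ValuativeCriterion.Existence f := by
    have h1 : UniversallyClosed f := inferInstance
    rw [UniversallyClosed.eq_valuativeCriterion] at h1
    exact h1.1
  obtain ⟨⟨l, hl₁, hl₂⟩⟩ := (hex sq).exists_lift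
  change Spec.map (CommRingCat.ofHom (algebraMap R X.functionField)) ≫ l =
    X.fromSpecStalk (genericPoint X) at hl₁
  refine ⟨l, hl₁, ?_⟩
  have hξx : genericPoint X ⤳ l (IsLocalRing.closedPoint R) := genericPoint_specializes _
  have key : Scheme.stalkClosedPointTo l ≫ CommRingCat.ofHom (algebraMap R X.functionField) =
      X.presheaf.stalkSpecializes hξx := by
    apply Spec.map_injective
    rw [← cancel_mono (X.fromSpecStalk (l (IsLocalRing.closedPoint R))), Spec.map_comp,
      Category.assoc, Scheme.Spec_stalkClosedPointTo_fromSpecStalk, hl₁,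
      Scheme.SpecMap_stalkSpecializes_fromSpecStalk]
  intro a
  exact (congr($key a)).symm

theorem dominates_point {X Y : Scheme.{u}} [IsIntegral X] (f : X ⟶ Y) [UniversallyClosed f]
    (R : ValuationSubring X.functionField) (y : Y) (hy : f (genericPoint X) ⤳ y)
    (h1 : ∀ a : Y.presheaf.stalk y,
      (Y.presheaf.stalkSpecializes hy ≫ f.stalkMap (genericPoint X)).hom a ∈ R) :
    ∃ x : X, (∀ a : X.presheaf.stalk x, algebraMap (X.presheaf.stalk x) X.functionField a ∈ R) ∧
      ∀ a ∈ IsLocalRing.maximalIdeal (X.presheaf.stalk x),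
        R.valuation (algebraMap (X.presheaf.stalk x) X.functionField a) < 1 := by
  obtain ⟨l, -, halg⟩ := exists_center f R y hy h1
  refine ⟨l (IsLocalRing.closedPoint R), ?_, ?_⟩
  · intro a; rw [halg]; exact ((Scheme.stalkClosedPointTo l).hom a).2
  · intro a ha
    rw [halg, ← ValuationSubring.valuation_lt_one_iff]
    rw [IsLocalRing.mem_maximalIdeal, mem_nonunits_iff] at ha ⊢
    intro hu
    exact ha (IsLocalHom.map_nonunit (f := (Scheme.stalkClosedPointTo l).hom) a hu)

end Groth.Agent.Helper9.ValDom
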