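import Mathlib
import Groth.Agent.Lib.Helper9.RatExt
import Groth.Agent.Lib.Helper9.ValDom

/-!
# Local rings of normal curves as valuation subrings of the function field (helper9)
-/

set_option autoImplicit false
universe u
open CategoryTheory CategoryTheory.Limits AlgebraicGeometry TopologicalSpace

namespace Groth.Agent.Helper9.CurveVal

lemma specMap_specializes {A K : Type u} [CommRing A] [Field K] [Algebra A K]
    (hinj : Function.Injective (algebraMap A K)) (z : Spec (.of K)) (P : Spec (.of A)) :
    (Spec.map (CommRingCat.ofHom (algebraMap A K))) z ⤳ P := by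
  refine (PrimeSpectrum.le_iff_specializes (R := A) _ _).mp ?_
  intro a ha
  have ha' : algebraMap A K a ∈ z.asIdeal := ha
  have hz0 : z.asIdeal = ⊥ := Ideal.eq_bot_of_prime _
  rw [hz0, Ideal.mem_bot] at ha'
  have : a = 0 := hinj (by rw [ha', map_zero])
  rw [this]; exact zero_mem _

lemma isDominant_specMap {A K : Type u} [CommRing A] [Field K] [Algebra A K]
    (hinj : Function.Injective (algebraMap A K)) :
    IsDominant (Spec.map (CommRingCat.ofHom (algebraMap A K))) := by
  constructor
  intro P
  obtain ⟨z⟩ : Nonempty (Spec (.of K)) := inferInstance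
  exact closure_mono (Set.singleton_subset_iff.mpr (Set.mem_range_self z))
    (specMap_specializes hinj z P).mem_closure

/-- dimension of every stalk is at most one on a quasi-compact scheme whose closed points have
one-dimensional local rings. -/
lemma dim_stalk_le_one {X : Scheme.{u}} [CompactSpace X]
    (hcurve : ∀ x : X, IsClosed ({x} : Set X) → ringKrullDim (X.presheaf.stalk x) = 1) (x : X) :
    ringKrullDim (X.presheaf.stalk x) ≤ 1 := by
  obtain ⟨c, hc, hcc⟩ := IsClosed.exists_closed_singleton (isClosed_closure (s := ({x} : Set X)))
    ⟨x, subset_closure rfl⟩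
  have hxc : x ⤳ c := specializes_iff_mem_closure.mpr hc
  calc ringKrullDim (X.presheaf.stalk x) = (Order.coheight x : WithBot ℕ∞) :=
        ringKrullDim_stalk_eq_coheight x
    _ ≤ (Order.coheight c : WithBot ℕ∞) :=
        WithBot.coe_le_coe.mpr (Order.coheight_anti (show c ≤ x from hxc))
    _ = ringKrullDim (X.presheaf.stalk c) := (ringKrullDim_stalk_eq_coheight c).symm
    _ = 1 := hcurve c hcc

lemma valuationRing_stalk {X : Scheme.{u}} [IsIntegral X] [IsLocallyNoetherian X] [CompactSpace X]
    (hcurve : ∀ x : X, IsClosed ({x} : Set X) → ringKrullDim (X.presheaf.stalk x) = 1)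
    (hnorm : ∀ x : X, IsIntegrallyClosed (X.presheaf.stalk x)) (x : X) :
    ValuationRing (X.presheaf.stalk x) := by
  haveI := hnorm x
  exact RatExt.valuationRing_of_normal _ (dim_stalk_le_one hcurve x)

/-- The valuation subring of the function field given by a valuation-ring stalk. -/
noncomputable def stalkValSubring {X : Scheme.{u}} [IsIntegral X] (x : X)
    [ValuationRing (X.presheaf.stalk x)] : ValuationSubring X.functionField :=
  ⟨(algebraMap (X.presheaf.stalk x) X.functionField).range,
    ValuationRing.isInteger_or_isInteger (X.presheaf.stalk x)⟩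

lemma coe_stalkValSubring {X : Scheme.{u}} [IsIntegral X] (x : X)
    [ValuationRing (X.presheaf.stalk x)] :
    (stalkValSubring x : Set X.functionField) =
      Set.range (algebraMap (X.presheaf.stalk x) X.functionField) := rfl

lemma eq_genericPoint_of_surjective {X : Scheme.{u}} [IsIntegral X] (x : X)
    (hsurj : Function.Surjective (algebraMap (X.presheaf.stalk x) X.functionField)) :
    x = genericPoint X := by
  have hbij : Function.Bijective (algebraMap (X.presheaf.stalk x) X.functionField) :=
    ⟨IsFractionRing.injective _ _, hsurj⟩
  have hfield : IsField (X.presheaf.stalk x) :=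
    (RingEquiv.ofBijective _ hbij).toMulEquiv.isField (Field.toIsField X.functionField)
  have hdim : ringKrullDim (X.presheaf.stalk x) = 0 := by
    letI := hfield.toField
    exact ringKrullDim_eq_zero_of_field _
  rw [ringKrullDim_stalk_eq_coheight] at hdim
  have h0 : Order.coheight x = 0 := by exact_mod_cast hdim
  have hmax : IsMax x := Order.coheight_eq_zero.mp h0
  have h1 : x ≤ genericPoint X := genericPoint_specializes x
  have h2 : genericPoint X ≤ x := hmax h1
  exact (Specializes.antisymm (h2 : x ⤳ genericPoint X) (h1 : genericPoint X ⤳ x)).eq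

/-- `R` is the local ring at the centre. -/
lemma range_eq_of_center {X : Scheme.{u}} [IsIntegral X] (R : ValuationSubring X.functionField)
    (l : Spec (.of R) ⟶ X) [ValuationRing (X.presheaf.stalk (l (IsLocalRing.closedPoint R)))]
    (halg : ∀ a : X.presheaf.stalk (l (IsLocalRing.closedPoint R)),
        algebraMap (X.presheaf.stalk (l (IsLocalRing.closedPoint R))) X.functionField a =
          ((Scheme.stalkClosedPointTo l).hom a : X.functionField)) :
    (R : Set X.functionField) =
      Set.range (algebraMap (X.presheaf.stalk (l (IsLocalRing.closedPoint R))) X.functionField) := by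
  have hbij := bijective_rangeRestrict_comp_of_valuationRing
    (R := X.presheaf.stalk (l (IsLocalRing.closedPoint R))) (K := X.functionField)
    (Scheme.stalkClosedPointTo l).hom R.subtype (by ext a; exact (halg a).symm)
  ext r
  constructor
  · intro hr
    obtain ⟨a, ha⟩ := hbij.2 ⟨r, ⟨⟨r, hr⟩, rfl⟩⟩
    refine ⟨a, ?_⟩
    rw [halg]
    exact congrArg Subtype.val ha
  · rintro ⟨a, rfl⟩
    rw [halg]
    exact ((Scheme.stalkClosedPointTo l).hom a).2

/-- two points with the same local ring (as valuation subring of `K(X)`) coincide on a separated
scheme. -/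
lemma eq_of_range_eq {X : Scheme.{u}} [IsIntegral X] [X.IsSeparated]
    (R : ValuationSubring X.functionField) (x x' : X)
    (hx : (R : Set X.functionField) = Set.range (algebraMap (X.presheaf.stalk x) X.functionField))
    (hx' : (R : Set X.functionField) =
      Set.range (algebraMap (X.presheaf.stalk x') X.functionField)) : x = x' := by
  have key : ∀ (z : X), (R : Set X.functionField) =
      Set.range (algebraMap (X.presheaf.stalk z) X.functionField) →
      ∃ l : Spec (.of R) ⟶ X, Spec.map (CommRingCat.ofHom (algebraMap R X.functionField)) ≫ l =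
        X.fromSpecStalk (genericPoint X) ∧ l (IsLocalRing.closedPoint R) = z := by
    intro z hz
    have hmem : ∀ a, algebraMap (X.presheaf.stalk z) X.functionField a ∈ R.toSubring := by
      intro a
      have : algebraMap (X.presheaf.stalk z) X.functionField a ∈ (R : Set X.functionField) := by
        rw [hz]; exact ⟨a, rfl⟩
      exact this
    let ρ : X.presheaf.stalk z →+* R :=
      (algebraMap (X.presheaf.stalk z) X.functionField).codRestrict R.toSubring hmem
    have hρbij : Function.Bijective ρ := by
      constructor
      · intro a b hab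
        exact IsFractionRing.injective (X.presheaf.stalk z) X.functionField
          (congrArg Subtype.val hab)
      · rintro ⟨r, hr⟩
        have : r ∈ Set.range (algebraMap (X.presheaf.stalk z) X.functionField) := by
          rw [← hz]; exact hr
        obtain ⟨a, ha⟩ := this
        exact ⟨a, Subtype.ext ha⟩
    haveI : IsLocalHom ρ := by
      have h := isLocalHom_equiv (RingEquiv.ofBijective ρ hρbij)
      exact ⟨fun a ha => h.map_nonunit a ha⟩
    refine ⟨Spec.map (CommRingCat.ofHom ρ) ≫ X.fromSpecStalk z, ?_, ?_⟩
    · rw [← Category.assoc, ← Spec.map_comp]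
      have hξz : genericPoint X ⤳ z := genericPoint_specializes z
      have : CommRingCat.ofHom ρ ≫ CommRingCat.ofHom (algebraMap R X.functionField) =
          X.presheaf.stalkSpecializes hξz := by
        ext a; rfl
      rw [this, Scheme.SpecMap_stalkSpecializes_fromSpecStalk]
    · rw [Scheme.Hom.comp_apply]
      have : (Spec.map (CommRingCat.ofHom ρ)) (IsLocalRing.closedPoint R) =
          IsLocalRing.closedPoint (X.presheaf.stalk z) := IsLocalRing.comap_closedPoint ρ
      rw [this, Scheme.fromSpecStalk_closedPoint]
  obtain ⟨l, hl, hlx⟩ := key x hx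
  obtain ⟨l', hl', hlx'⟩ := key x' hx'
  haveI : IsDominant (Spec.map (CommRingCat.ofHom (algebraMap R X.functionField))) :=
    isDominant_specMap (IsFractionRing.injective R X.functionField)
  have hll' : l = l' := ext_of_isDominant_of_isSeparated (terminal.from X)
    (Subsingleton.elim _ _) (Spec.map (CommRingCat.ofHom (algebraMap R X.functionField)))
    (hl.trans hl'.symm)
  rw [← hlx, ← hlx', hll']

end Groth.Agent.Helper9.CurveVal
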