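import Mathlib
import Groth.Agent.Lib.Helper9.RatExt

/-!
# Local extension of a rational map at a valuation-ring point (helper9)
-/

set_option autoImplicit false
universe u
open CategoryTheory CategoryTheory.Limits AlgebraicGeometry TopologicalSpace

namespace Groth.Agent.Helper9.RatExt

/-- An affine open neighbourhood with injective germ map at a point with domain stalk is
irreducible, and the generic point of `Spec Frac(O_y)` specializes to all of its points. -/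
lemma exists_irreducible_nhd {Y : Scheme.{u}} (y : Y) [Y.IsGermInjectiveAt y]
    [IsDomain (Y.presheaf.stalk y)] :
    ∃ (W₀ : Y.Opens), y ∈ W₀ ∧ ∀ (z : Spec (.of (FractionRing (Y.presheaf.stalk y)))) (t : Y),
      t ∈ W₀ → (Spec.map (CommRingCat.ofHom (algebraMap (Y.presheaf.stalk y)
        (FractionRing (Y.presheaf.stalk y)))) ≫ Y.fromSpecStalk y) z ⤳ t := by
  obtain ⟨W₀, hyW₀, hW₀, hinj⟩ := Y.exists_germ_injective y
  refine ⟨W₀, hyW₀, ?_⟩
  haveI : IsAffine W₀.toScheme := hW₀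
  haveI : Nonempty W₀.toScheme := ⟨⟨y, hyW₀⟩⟩
  haveI hdom : IsDomain Γ(Y, W₀) := hinj.isDomain (Y.presheaf.germ W₀ y hyW₀).hom
  haveI hdom' : IsDomain Γ(W₀.toScheme, ⊤) :=
    Function.Injective.isDomain (W₀.topIso.hom.hom) (W₀.topIso.commRingCatIsoToRingEquiv.injective)
  haveI : IsIntegral W₀.toScheme := isIntegral_of_isAffine_of_isDomain _
  intro z t ht
  set η₀ : W₀.toScheme := genericPoint W₀.toScheme with hη₀
  -- η ⤳ t for all t ∈ W₀
  have hη : ∀ t : Y, t ∈ W₀ → W₀.ι η₀ ⤳ t := by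
    intro t ht
    have h1 : η₀ ⤳ (⟨t, ht⟩ : W₀.toScheme) := genericPoint_specializes _
    exact h1.map W₀.ι.continuous
  -- η in the range of fromSpecStalk
  have hηy : W₀.ι η₀ ∈ Set.range (Y.fromSpecStalk y) := by
    rw [Scheme.range_fromSpecStalk]; exact hη y hyW₀
  obtain ⟨P, hP⟩ := hηy
  have hzP : (Spec.map (CommRingCat.ofHom (algebraMap (Y.presheaf.stalk y)
      (FractionRing (Y.presheaf.stalk y))))) z ⤳ P := by
    refine (PrimeSpectrum.le_iff_specializes (R := Y.presheaf.stalk y) _ _).mp ?_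
    intro a ha
    have ha' : algebraMap (Y.presheaf.stalk y) (FractionRing (Y.presheaf.stalk y)) a ∈
        z.asIdeal := ha
    have hz0 : z.asIdeal = ⊥ := Ideal.eq_bot_of_prime _
    rw [hz0, Ideal.mem_bot] at ha'
    have : a = 0 := (IsFractionRing.injective (Y.presheaf.stalk y)
      (FractionRing (Y.presheaf.stalk y))) (by rw [ha', map_zero])
    rw [this]; exact zero_mem _
  rw [Scheme.Hom.comp_apply]
  refine ((hzP.map (Y.fromSpecStalk y).continuous).trans ?_).trans (hη t ht)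
  rw [hP]

set_option backward.isDefEq.respectTransparency.types false in
theorem local_ext {S X Y : Scheme.{u}} (p : X ⟶ S) [IsProper p] (q : Y ⟶ S) [IsReduced Y]
    (V : Y.Opens) (hV : Dense (V : Set Y)) (g : V.toScheme ⟶ X) (hg : g ≫ p = V.ι ≫ q)
    (y : Y) [Y.IsGermInjectiveAt y] [hd : IsDomain (Y.presheaf.stalk y)]
    [hv : ValuationRing (Y.presheaf.stalk y)] :
    ∃ (W : Y.Opens) (_ : y ∈ W) (f : W.toScheme ⟶ X), f ≫ p = W.ι ≫ q ∧ Agrees V g W f := by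
  obtain ⟨W₀, hyW₀, hstar⟩ := exists_irreducible_nhd y
  obtain ⟨z₀, hz₀W₀, hz₀V⟩ := hV.inter_open_nonempty W₀ W₀.isOpen ⟨y, hyW₀⟩
  set j : Spec (.of (FractionRing (Y.presheaf.stalk y))) ⟶ Y := Spec.map (CommRingCat.ofHom (algebraMap (Y.presheaf.stalk y) (FractionRing (Y.presheaf.stalk y)))) ≫ Y.fromSpecStalk y
    with hj
  have hjV : Set.range j ⊆ Set.range V.ι := by
    rw [Scheme.Opens.range_ι]; rintro _ ⟨z, rfl⟩
    exact (hstar z z₀ hz₀W₀).mem_open V.isOpen hz₀V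
  set j' : Spec (.of (FractionRing (Y.presheaf.stalk y))) ⟶ V.toScheme := IsOpenImmersion.lift V.ι j hjV with hj'def
  have hj' : j' ≫ V.ι = j := IsOpenImmersion.lift_fac _ _ _
  let sq : ValuativeCommSq p :=
    { R := Y.presheaf.stalk y, domain := hd, valuationRing := hv, K := FractionRing (Y.presheaf.stalk y), i₁ := j' ≫ g, i₂ := Y.fromSpecStalk y ≫ q
      commSq := ⟨by rw [Category.assoc, hg, ← Category.assoc, hj', hj, Category.assoc]⟩ }
  have hex : ValuativeCriterion.Existence p := by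
    have h1 : UniversallyClosed p := inferInstance
    rw [UniversallyClosed.eq_valuativeCriterion] at h1
    exact h1.1
  obtain ⟨⟨l, hl₁, hl₂⟩⟩ := (hex sq).exists_lift
  change Spec.map (CommRingCat.ofHom (algebraMap (Y.presheaf.stalk y) (FractionRing (Y.presheaf.stalk y)))) ≫ l = j' ≫ g at hl₁
  change l ≫ p = Y.fromSpecStalk y ≫ q at hl₂
  obtain ⟨W₁, hyW₁, f₁, hf₁, hf₁p⟩ := spread_out_of_isGermInjective' q p (x := y) l hl₂
  refine ⟨W₁ ⊓ W₀, ⟨hyW₁, hyW₀⟩, Y.homOfLE inf_le_left ≫ f₁, ?_, ?_⟩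
  · rw [Category.assoc, hf₁p, Scheme.homOfLE_ι_assoc]
  · -- agreement
    have hzK : Nonempty (Spec (.of (FractionRing (Y.presheaf.stalk y)))) := inferInstance
    obtain ⟨z₁⟩ := hzK
    have hjT : Set.range j ⊆ Set.range (W₁ ⊓ W₀ ⊓ V).ι := by
      rw [Scheme.Opens.range_ι]; rintro _ ⟨z, rfl⟩
      refine ⟨?_, hjV.trans (by rw [Scheme.Opens.range_ι]) ⟨z, rfl⟩⟩
      exact (hstar z y hyW₀).mem_open (W₁ ⊓ W₀).isOpen ⟨hyW₁, hyW₀⟩
    set ι : Spec (.of (FractionRing (Y.presheaf.stalk y))) ⟶ (W₁ ⊓ W₀ ⊓ V).toScheme := IsOpenImmersion.lift (W₁ ⊓ W₀ ⊓ V).ι j hjT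
      with hιdef
    have hι : ι ≫ (W₁ ⊓ W₀ ⊓ V).ι = j := IsOpenImmersion.lift_fac _ _ _
    haveI : IsDominant ι := by
      constructor
      intro t
      have h1 : (W₁ ⊓ W₀ ⊓ V).ι (ι z₁) ⤳ (W₁ ⊓ W₀ ⊓ V).ι t := by
        rw [← Scheme.Hom.comp_apply, hι]
        exact hstar z₁ _ t.2.1.2
      have h2 : ι z₁ ⤳ t :=
        (W₁ ⊓ W₀ ⊓ V).ι.isOpenEmbedding.isInducing.specializes_iff.mp h1
      exact closure_mono (Set.singleton_subset_iff.mpr (Set.mem_range_self z₁)) h2.mem_closure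
    unfold Agrees
    refine ext_of_isDominant_of_isSeparated p ?_ ι ?_
    · simp only [Category.assoc, hf₁p, hg, Scheme.homOfLE_ι_assoc]
    · have e₁ : ι ≫ Y.homOfLE (inf_le_right : W₁ ⊓ W₀ ⊓ V ≤ V) = j' := by
        rw [← cancel_mono V.ι, Category.assoc, Y.homOfLE_ι, hι, hj']
      have e₂ : ι ≫ Y.homOfLE (inf_le_left : W₁ ⊓ W₀ ⊓ V ≤ W₁ ⊓ W₀) ≫
          Y.homOfLE (inf_le_left : W₁ ⊓ W₀ ≤ W₁) =
          Spec.map (CommRingCat.ofHom (algebraMap (Y.presheaf.stalk y) (FractionRing (Y.presheaf.stalk y)))) ≫ W₁.fromSpecStalkOfMem y hyW₁ := by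
        rw [← cancel_mono W₁.ι, Category.assoc, Category.assoc, Y.homOfLE_ι, Y.homOfLE_ι, hι,
          Category.assoc, Scheme.Opens.fromSpecStalkOfMem_ι]
      rw [← Category.assoc, ← Category.assoc, Category.assoc ι, e₂, ← Category.assoc ι, e₁,
        Category.assoc, ← hf₁, hl₁]

theorem global_ext {S X Y : Scheme.{u}} (p : X ⟶ S) [IsProper p] (q : Y ⟶ S) [IsReduced Y]
    (V : Y.Opens) (hV : Dense (V : Set Y)) (g : V.toScheme ⟶ X) (hg : g ≫ p = V.ι ≫ q)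
    (D : Set Y) (hD : ∀ y ∈ D, ∃ (_ : Y.IsGermInjectiveAt y) (_ : IsDomain (Y.presheaf.stalk y)),
      ValuationRing (Y.presheaf.stalk y)) :
    ∃ (U : Y.Opens) (hVU : V ≤ U) (g' : U.toScheme ⟶ X), g' ≫ p = U.ι ≫ q ∧
      Y.homOfLE hVU ≫ g' = g ∧ D ⊆ (U : Set Y) := by
  let J := Σ W : Y.Opens, {f : W.toScheme ⟶ X // f ≫ p = W.ι ≫ q ∧ Agrees V g W f}
  let W : J → Y.Opens := fun j => j.1
  let f : ∀ j : J, (W j).toScheme ⟶ X := fun j => j.2.1
  obtain ⟨F, hF, hFp⟩ := glue p q W f (fun j => j.2.2.1)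
    (fun i j => compat p q V hV g _ _ _ _ i.2.2.1 j.2.2.1 i.2.2.2 j.2.2.2)
  let j₀ : J := ⟨V, g, hg, agrees_self V g⟩
  refine ⟨⨆ j, W j, le_iSup W j₀, F, hFp, hF j₀, ?_⟩
  intro y hy
  obtain ⟨h1, h2, h3⟩ := hD y hy
  obtain ⟨W', hyW', f', hf'p, hf'a⟩ := local_ext p q V hV g hg y
  exact Opens.mem_iSup.mpr ⟨⟨W', f', hf'p, hf'a⟩, hyW'⟩

end Groth.Agent.Helper9.RatExt
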