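import Mathlib
import Groth.Prelude.Def_CurvBase
import Groth.Agent.Lib.Helper9.RatExt2
import Groth.Agent.Lib.Helper9.CurveVal

/-!
# Curves over a field: the structure map on stalks (helper9)
-/

set_option autoImplicit false
universe u
open CategoryTheory CategoryTheory.Limits AlgebraicGeometry TopologicalSpace

namespace Groth.Agent.Helper9.CurveBase

lemma over_eq (k : Type u) [Field k] (X : Scheme.{u}) [X.Over (Spec (CommRingCat.of k))] :
    (X ↘ Spec (CommRingCat.of k)) = X.toSpecΓ ≫
      Spec.map ((Scheme.ΓSpecIso (CommRingCat.of k)).inv ≫ (X ↘ Spec (CommRingCat.of k)).appTop) := by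
  have h1 := Scheme.toSpecΓ_naturality (X ↘ Spec (CommRingCat.of k))
  have h2 : (Spec (CommRingCat.of k)).toSpecΓ = Spec.map (Scheme.ΓSpecIso (CommRingCat.of k)).hom :=
    Scheme.isoSpec_Spec_hom _
  rw [Spec.map_comp, ← Category.assoc, ← h1, h2, Category.assoc, ← Spec.map_comp,
    Iso.inv_hom_id, Spec.map_id, Category.comp_id]

lemma fromSpecStalk_over (k : Type u) [Field k] (X : Scheme.{u})
    [X.Over (Spec (CommRingCat.of k))] (x : X) :
    X.fromSpecStalk x ≫ (X ↘ Spec (CommRingCat.of k)) =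
      Spec.map (CommRingCat.ofHom (Curv2.stalkMap k X x)) := by
  have h3 := over_eq k X
  calc X.fromSpecStalk x ≫ (X ↘ Spec (CommRingCat.of k))
      = X.fromSpecStalk x ≫ X.toSpecΓ ≫ Spec.map ((Scheme.ΓSpecIso (CommRingCat.of k)).inv ≫
          (X ↘ Spec (CommRingCat.of k)).appTop) := by rw [← h3]
    _ = Spec.map (((Scheme.ΓSpecIso (CommRingCat.of k)).inv ≫
          (X ↘ Spec (CommRingCat.of k)).appTop) ≫ X.presheaf.germ ⊤ x trivial) := by
        rw [← Category.assoc, Scheme.fromSpecStalk_toSpecΓ, ← Spec.map_comp]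
    _ = Spec.map (CommRingCat.ofHom (Curv2.stalkMap k X x)) := by
        congr 1

lemma isDominant_fromSpecStalk_genericPoint (X : Scheme.{u}) [IrreducibleSpace X] :
    IsDominant (X.fromSpecStalk (genericPoint X)) := by
  constructor
  intro t
  have hmem : genericPoint X ∈ Set.range (X.fromSpecStalk (genericPoint X)) :=
    ⟨IsLocalRing.closedPoint _, Scheme.fromSpecStalk_closedPoint⟩
  exact closure_mono (Set.singleton_subset_iff.mpr hmem) (genericPoint_specializes t).mem_closure

/-- Morphisms from a normal curve to a proper `k`-scheme correspond to `K(X)`-points. -/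
theorem exists_hom_of_generic (k : Type u) [Field k] (X Y : Scheme.{u})
    [X.Over (Spec (CommRingCat.of k))] [LocallyOfFiniteType (X ↘ (Spec (CommRingCat.of k)))]
    [QuasiCompact (X ↘ (Spec (CommRingCat.of k)))] [IsIntegral X]
    (hX : ∀ x : X, IsClosed ({x} : Set X) → ringKrullDim (X.presheaf.stalk x) = 1)
    (hnorm : ∀ x : X, IsIntegrallyClosed (X.presheaf.stalk x))
    [Y.Over (Spec (CommRingCat.of k))] [IsProper (Y ↘ (Spec (CommRingCat.of k)))]
    (i₁ : Spec X.functionField ⟶ Y)
    (h : i₁ ≫ (Y ↘ Spec (CommRingCat.of k)) =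
      X.fromSpecStalk (genericPoint X) ≫ (X ↘ Spec (CommRingCat.of k))) :
    ∃ u : X ⟶ Y, u ≫ (Y ↘ (Spec (CommRingCat.of k))) = X ↘ (Spec (CommRingCat.of k)) ∧
      X.fromSpecStalk (genericPoint X) ≫ u = i₁ := by
  haveI : IsLocallyNoetherian X :=
    LocallyOfFiniteType.isLocallyNoetherian (X ↘ Spec (CommRingCat.of k))
  haveI : CompactSpace X :=
    QuasiCompact.compactSpace_of_compactSpace (X ↘ Spec (CommRingCat.of k))
  obtain ⟨U, hξU, g, hg1, hg2⟩ := spread_out_of_isGermInjective'
    (X ↘ Spec (CommRingCat.of k)) (Y ↘ Spec (CommRingCat.of k)) (x := genericPoint X) i₁ h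
  have hU : Dense (U : Set X) := by
    rw [dense_iff_closure_eq, ← Set.univ_subset_iff]
    intro t _
    exact closure_mono (Set.singleton_subset_iff.mpr hξU) (genericPoint_specializes t).mem_closure
  obtain ⟨U', hUU', g', h1, h2, h3⟩ := RatExt.global_ext
    (Y ↘ (Spec (CommRingCat.of k))) (X ↘ (Spec (CommRingCat.of k))) U hU g hg2 Set.univ (by
      intro x _
      exact ⟨inferInstance, inferInstance, CurveVal.valuationRing_stalk hX hnorm x⟩)
  have hU' : U' = ⊤ := top_le_iff.mp (fun x _ => h3 (Set.mem_univ x))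
  subst hU'
  refine ⟨X.topIso.inv ≫ g', ?_, ?_⟩
  · rw [Category.assoc, h1, Scheme.toIso_inv_ι_assoc]
  · have e : U.ι ≫ X.topIso.inv ≫ g' = g := by
      rw [← h2, ← Category.assoc]
      congr 1
      rw [Iso.comp_inv_eq, Scheme.topIso_hom, Scheme.homOfLE_ι]
    rw [hg1, ← e, Scheme.Opens.fromSpecStalkOfMem_ι_assoc]

end Groth.Agent.Helper9.CurveBase
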