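import Mathlib

/-!
# Topology of irreducible algebraic curves (helper9)
-/

set_option autoImplicit false
universe u
open CategoryTheory CategoryTheory.Limits AlgebraicGeometry TopologicalSpace

namespace Groth.Agent.Helper9.CurveTop

variable {X : Scheme.{u}}

lemma coheight_eq_one
    (hcurve : ∀ x : X, IsClosed ({x} : Set X) → ringKrullDim (X.presheaf.stalk x) = 1)
    (z : X) (hz : IsClosed ({z} : Set X)) : Order.coheight z = 1 := by
  have h := hcurve z hz
  rw [ringKrullDim_stalk_eq_coheight z] at h
  exact_mod_cast h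

lemma eq_genericPoint_of_not_isClosed [CompactSpace X] [IrreducibleSpace X]
    (hcurve : ∀ x : X, IsClosed ({x} : Set X) → ringKrullDim (X.presheaf.stalk x) = 1)
    (x : X) (hx : ¬ IsClosed ({x} : Set X)) : x = genericPoint X := by
  obtain ⟨z, hz, hzc⟩ := IsClosed.exists_closed_singleton (isClosed_closure (s := ({x} : Set X)))
    ⟨x, subset_closure rfl⟩
  have hxz : x ⤳ z := specializes_iff_mem_closure.mpr hz
  have hne : x ≠ z := fun h => hx (h ▸ hzc)
  by_contra hxξ
  have hξx : genericPoint X ⤳ x := genericPoint_specializes x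
  have h1 : z < x := lt_of_le_not_ge (show z ≤ x from hxz)
    (fun h : x ≤ z => hne (hxz.antisymm h).eq)
  have h2 : x < genericPoint X := lt_of_le_not_ge (show x ≤ genericPoint X from hξx)
    (fun h : genericPoint X ≤ x => hxξ (Specializes.antisymm h hξx).eq)
  have e1 := Order.coheight_add_one_le h1
  have e2 := Order.coheight_add_one_le h2
  rw [coheight_eq_one hcurve z hzc] at e1
  have e3 : (0 : ℕ∞) + 1 + 1 ≤ 1 :=
    (add_le_add_left ((add_le_add_left zero_le 1).trans e2) 1).trans e1
  norm_num at e3

lemma not_isClosed_genericPoint [IrreducibleSpace X]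
    (hcurve : ∀ x : X, IsClosed ({x} : Set X) → ringKrullDim (X.presheaf.stalk x) = 1) :
    ¬ IsClosed ({genericPoint X} : Set X) := by
  intro h
  have h1 := coheight_eq_one hcurve _ h
  have h0 : Order.coheight (genericPoint X) = 0 :=
    Order.coheight_eq_zero.mpr (fun b _ => (genericPoint_specializes b : b ≤ genericPoint X))
  rw [h0] at h1
  exact zero_ne_one h1

lemma finite_of_isClosed [IsNoetherian X] [IrreducibleSpace X]
    (hcurve : ∀ x : X, IsClosed ({x} : Set X) → ringKrullDim (X.presheaf.stalk x) = 1)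
    (F : Set X) (hF : IsClosed F) (hne : F ≠ Set.univ) :
    F.Finite ∧ ∀ x ∈ F, IsClosed ({x} : Set X) := by
  have hξ : genericPoint X ∉ F := fun h => hne (Set.eq_univ_of_forall fun y =>
    hF.closure_subset_iff.mpr (Set.singleton_subset_iff.mpr h)
      (genericPoint_specializes y).mem_closure)
  have hcl : ∀ x ∈ F, IsClosed ({x} : Set X) := fun x hx => by
    by_contra hnc
    have := eq_genericPoint_of_not_isClosed hcurve x hnc
    exact hξ (this ▸ hx)
  refine ⟨?_, hcl⟩
  obtain ⟨S, hSf, hSc, hSi, hSU⟩ := NoetherianSpace.exists_finite_set_isClosed_irreducible hF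
  rw [hSU]
  refine Set.Finite.sUnion hSf (fun t ht => ?_)
  obtain ⟨η, hη⟩ := QuasiSober.sober (hSi t ht) (hSc t ht)
  have hηF : η ∈ F := by
    rw [hSU]; exact Set.mem_sUnion.mpr ⟨t, ht, hη.mem⟩
  have : t = {η} := by rw [← hη.def, (hcl η hηF).closure_eq]
  rw [this]; exact Set.finite_singleton _

end Groth.Agent.Helper9.CurveTop
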