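import Mathlib
import Groth.Prelude.Def_W4c6equivkfinstabCyc

set_option autoImplicit false

namespace Groth.Agent.Helper9.CycUnit

open Polynomial W4c6equivkfinstab

/-- `Φ_n` divides `∏_{1 ≤ j < n} (1 - X^j) - n` in `ℤ[X]`. -/
lemma cyclotomic_dvd (n : ℕ) (hn : 0 < n) :
    cyclotomic n ℤ ∣ (∏ j ∈ Finset.range (n - 1), (1 - (X : ℤ[X]) ^ (j + 1))) - (n : ℤ[X]) := by
  have hζ := Complex.isPrimitiveRoot_exp n hn.ne'
  set ζ := Complex.exp (2 * Real.pi * Complex.I / n) with hζdef
  rw [cyclotomic_eq_minpoly hζ hn]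
  apply minpoly.isIntegrallyClosed_dvd (hζ.isIntegral hn)
  have hn1 : n - 1 + 1 = n := Nat.sub_add_cancel hn
  have hζ' : IsPrimitiveRoot ζ (n - 1 + 1) := by rw [hn1]; exact hζ
  have := hζ'.prod_one_sub_pow_eq_order
  simp only [map_sub, map_prod, map_one, map_pow, aeval_X, map_natCast]
  rw [this]
  have : ((n - 1 : ℕ) : ℂ) + 1 = (n : ℂ) := by
    rw [← Nat.cast_succ, Nat.succ_eq_add_one, hn1]
  rw [this, sub_self]

/-- If `Φ_n(t) = 0` in a commutative ring, then `∏_{1 ≤ j < n} (1 - t^j) = n`. -/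
lemma prod_one_sub_pow_eq {T : Type*} [CommRing T] (n : ℕ) (hn : 0 < n) (t : T)
    (ht : aeval t (cyclotomic n ℤ) = 0) :
    ∏ j ∈ Finset.range (n - 1), (1 - t ^ (j + 1)) = (n : T) := by
  obtain ⟨q, hq⟩ := cyclotomic_dvd n hn
  have := congrArg (aeval t) hq
  simp only [map_sub, map_prod, map_one, map_pow, aeval_X, map_natCast, map_mul, ht, zero_mul]
    at this
  exact sub_eq_zero.mp this

/-- In a ring where `n` is invertible and `Φ_n(t) = 0`, `t^k - 1` is a unit for `0 < k < n`. -/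
lemma isUnit_pow_sub_one {T : Type*} [CommRing T] (n : ℕ) (hn : 0 < n) (t : T)
    (ht : aeval t (cyclotomic n ℤ) = 0) (hu : IsUnit (n : T)) (k : ℕ) (hk0 : 0 < k) (hkn : k < n) :
    IsUnit (t ^ k - 1) := by
  have h := prod_one_sub_pow_eq n hn t ht
  have hmem : k - 1 ∈ Finset.range (n - 1) := by
    rw [Finset.mem_range]; omega
  have hdvd : (1 - t ^ (k - 1 + 1)) ∣ (n : T) := by
    rw [← h]; exact Finset.dvd_prod_of_mem _ hmem
  rw [Nat.sub_add_cancel hk0] at hdvd
  have := isUnit_of_dvd_unit hdvd hu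
  rw [← neg_sub]
  exact this.neg

variable (Λ : Type*) [CommRing Λ]

/-- In the cyclotomic quotient of the group ring of a finite cyclic group `C` whose order is
invertible in `Λ`, `[c] - 1` is a unit for every `c ≠ 0`. -/
lemma isUnit_mk_single_sub_one (C : Type*) [AddCommGroup C] [Finite C] [IsAddCyclic C]
    (hu : IsUnit ((Nat.card C : ℕ) : Λ)) (c : C) (hc : c ≠ 0) :
    IsUnit (Ideal.Quotient.mk (cycIdeal Λ C) (AddMonoidAlgebra.single c (1 : Λ) - 1)) := by
  obtain ⟨g, hg⟩ := IsAddCyclic.exists_generator (α := C)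
  set n := Nat.card C with hn
  have hnpos : 0 < n := Nat.card_pos
  set t : CycQuot Λ C := Ideal.Quotient.mk (cycIdeal Λ C) (AddMonoidAlgebra.single g (1 : Λ)) with ht
  have htcyc : aeval t (cyclotomic n ℤ) = 0 := by
    have hmem : aeval (AddMonoidAlgebra.single g (1 : Λ)) (cyclotomic n Λ) ∈ cycIdeal Λ C := by
      apply Ideal.subset_span
      refine ⟨g, ?_, rfl⟩
      rw [eq_top_iff]; intro x _; exact hg x
    have h0 := Ideal.Quotient.eq_zero_iff_mem.mpr hmem
    have h1 : Ideal.Quotient.mk (cycIdeal Λ C)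
        (aeval (AddMonoidAlgebra.single g (1 : Λ)) (cyclotomic n Λ)) = aeval t (cyclotomic n Λ) := by
      have := aeval_algHom_apply (Ideal.Quotient.mkₐ Λ (cycIdeal Λ C))
        (AddMonoidAlgebra.single g (1 : Λ)) (cyclotomic n Λ)
      simpa using this.symm
    rw [h1, ← map_cyclotomic_int n Λ] at h0
    rw [← h0]
    have := aeval_map_algebraMap (A := Λ) (B := CycQuot Λ C) t (cyclotomic n ℤ)
    rw [← this]
    congr 2
  have hmult : c ∈ AddSubmonoid.multiples g := by
    rw [(isOfFinAddOrder_of_finite g).mem_multiples_iff_mem_zmultiples]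
    exact hg c
  obtain ⟨k, hk⟩ := (AddSubmonoid.mem_multiples_iff _ _).mp hmult
  have hng : n • g = 0 := card_nsmul_eq_zero'
  have hk' : (k % n) • g = c := by
    rw [← hk]
    conv_rhs => rw [← Nat.mod_add_div k n]
    rw [add_nsmul, mul_nsmul, hng, nsmul_zero, add_zero]
  have hkpos : 0 < k % n := by
    rcases Nat.eq_zero_or_pos (k % n) with h | h
    · rw [h, zero_nsmul] at hk'; exact absurd hk'.symm hc
    · exact h
  have hklt : k % n < n := Nat.mod_lt _ hnpos
  have hunitT : IsUnit ((n : ℕ) : CycQuot Λ C) := by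
    have := hu.map (algebraMap Λ (CycQuot Λ C))
    simpa using this
  have := isUnit_pow_sub_one n hnpos t htcyc hunitT (k % n) hkpos hklt
  have hsingle : Ideal.Quotient.mk (cycIdeal Λ C) (AddMonoidAlgebra.single c (1 : Λ) - 1)
      = t ^ (k % n) - 1 := by
    rw [ht, ← map_pow, AddMonoidAlgebra.single_pow, one_pow, hk', map_sub, map_one]
  rw [hsingle]; exact this

variable (M : Type*) [AddCommGroup M]

lemma quotMap_single (B : AddSubgroup M) (b : M) (r : Λ) :
    quotMap Λ M B (AddMonoidAlgebra.single b r) = AddMonoidAlgebra.single ((b : M) : M ⧸ B) r := by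
  simp [quotMap]

lemma quotMap_surjective (B : AddSubgroup M) : Function.Surjective (quotMap Λ M B) := by
  intro x
  induction x using AddMonoidAlgebra.induction_linear with
  | zero => exact ⟨0, map_zero _⟩
  | add x y hx hy =>
    obtain ⟨a, rfl⟩ := hx
    obtain ⟨b, rfl⟩ := hy
    exact ⟨a + b, map_add _ _ _⟩
  | single m r =>
    obtain ⟨m', rfl⟩ := QuotientAddGroup.mk'_surjective B m
    exact ⟨AddMonoidAlgebra.single m' r, quotMap_single Λ M B m' r⟩

lemma cycQuotMap_surjective (B : AddSubgroup M) : Function.Surjective (cycQuotMap Λ M B) := by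
  intro y
  obtain ⟨x, rfl⟩ := Ideal.Quotient.mk_surjective y
  obtain ⟨z, rfl⟩ := quotMap_surjective Λ M B x
  exact ⟨z, rfl⟩

lemma cycQuotMap_single_sub_one (B : AddSubgroup M) (b : M) :
    cycQuotMap Λ M B (AddMonoidAlgebra.single b 1 - 1) =
      Ideal.Quotient.mk (cycIdeal Λ (M ⧸ B))
        (AddMonoidAlgebra.single ((b : M) : M ⧸ B) (1 : Λ) - 1) := by
  rw [cycQuotMap, RingHom.comp_apply, map_sub, map_one, quotMap_single]

lemma quotMap_single_sub_one_eq_zero (B : AddSubgroup M) (b : M) (hb : b ∈ B) :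
    quotMap Λ M B (AddMonoidAlgebra.single b 1 - 1) = 0 := by
  have hb' : ((b : M) : M ⧸ B) = 0 := (QuotientAddGroup.eq_zero_iff b).mpr hb
  rw [map_sub, map_one, quotMap_single, hb', ← AddMonoidAlgebra.one_def, sub_self]

/-- For `b ∉ B`, with `M ⧸ B` finite cyclic of order invertible in `Λ`, the image of `[b] - 1` in
the cyclotomic quotient is a unit. -/
lemma isUnit_cycQuotMap_single_sub_one (B : AddSubgroup M) [B.FiniteIndex] [IsAddCyclic (M ⧸ B)]
    (hu : IsUnit ((B.index : ℕ) : Λ)) (b : M) (hb : b ∉ B) :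
    IsUnit (cycQuotMap Λ M B (AddMonoidAlgebra.single b 1 - 1)) := by
  have : Finite (M ⧸ B) := AddSubgroup.finite_quotient_of_finiteIndex
  have hcard : Nat.card (M ⧸ B) = B.index := rfl
  have hc : ((b : M) : M ⧸ B) ≠ 0 := by
    rw [Ne, QuotientAddGroup.eq_zero_iff]; exact hb
  rw [cycQuotMap_single_sub_one]
  exact isUnit_mk_single_sub_one Λ (M ⧸ B) (by rw [hcard]; exact hu) _ hc

lemma smul_cycQuot (B : AddSubgroup M) (s : AddMonoidAlgebra Λ M) (y : CycQuot Λ (M ⧸ B)) :
    s • y = cycQuotMap Λ M B s * y := by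
  obtain ⟨x, rfl⟩ := Ideal.Quotient.mk_surjective y
  have h1 : s • (Ideal.Quotient.mk (cycIdeal Λ (M ⧸ B)) x)
      = Ideal.Quotient.mk (cycIdeal Λ (M ⧸ B)) (s • x) := rfl
  rw [h1, Algebra.smul_def, RingHom.algebraMap_toAlgebra, map_mul]
  rfl

lemma cycQuotMap_single_sub_one_eq_zero (B : AddSubgroup M) (b : M) (hb : b ∈ B) :
    cycQuotMap Λ M B (AddMonoidAlgebra.single b 1 - 1) = 0 := by
  rw [cycQuotMap, RingHom.comp_apply, quotMap_single_sub_one_eq_zero Λ M B b hb, map_zero]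

end Groth.Agent.Helper9.CycUnit
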