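import Mathlib

/-!
# Algebraic core of "universally closed iff closed after base change to affine spaces" (helper9)
-/

set_option autoImplicit false

namespace Groth.Agent.Helper9.UnivClosedAlg

open MvPolynomial

universe u

theorem exists_notMem_map_mem {P Q : Type*} [CommRing P] [CommRing Q] (φ : P →+* Q)
    (𝔞 : Ideal Q) (𝔭 : Ideal P) [𝔭.IsPrime]
    (h : ∀ 𝔮 : Ideal Q, 𝔮.IsPrime → 𝔞 ≤ 𝔮 → 𝔮.comap φ ≠ 𝔭) :
    ∃ b, b ∉ 𝔭 ∧ φ b ∈ 𝔞 ⊔ 𝔭.map φ := by
  by_contra hcon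
  push Not at hcon
  have hdisj : Disjoint ((𝔞 ⊔ 𝔭.map φ : Ideal Q) : Set Q)
      ((𝔭.primeCompl.map φ : Submonoid Q) : Set Q) := by
    rw [Set.disjoint_left]
    rintro _ hx ⟨b, hb, rfl⟩
    exact hcon b hb hx
  obtain ⟨𝔮, h𝔮, hle, hd⟩ := Ideal.exists_le_prime_disjoint _ _ hdisj
  apply h 𝔮 h𝔮 (le_trans le_sup_left hle)
  apply le_antisymm
  · intro x hx
    by_contra hxp
    exact Set.disjoint_left.mp hd hx ⟨x, hxp, rfl⟩
  · rw [← Ideal.map_le_iff_le_comap]; exact le_trans le_sup_right hle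

/-- the renaming ring hom from a finite set of variables -/
noncomputable abbrev ρ {I : Type u} (s : Finset I) (R : Type u) [CommRing R] :
    MvPolynomial s R →+* MvPolynomial I R :=
  (rename (Subtype.val : s → I) : MvPolynomial s R →ₐ[R] MvPolynomial I R).toRingHom

theorem exists_finset_descent {R C : Type u} [CommRing R] [CommRing C] {I : Type u} (ψ : R →+* C)
    (𝔞 : Ideal (MvPolynomial I C)) (𝔭 : Ideal (MvPolynomial I R)) (b : MvPolynomial I R)
    (hb : map ψ b ∈ 𝔞 ⊔ 𝔭.map (map ψ)) :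
    ∃ s₀ : Finset I, ∀ s : Finset I, s₀ ⊆ s →
      ∃ b0 : MvPolynomial s R, ρ s R b0 = b ∧
        map ψ b0 ∈ 𝔞.comap (ρ s C) ⊔ (𝔭.comap (ρ s R)).map (map ψ) := by
  classical
  obtain ⟨a, ha, x, hx, hax⟩ := Submodule.mem_sup.mp hb
  rw [Ideal.map, Ideal.span, Finsupp.mem_span_image_iff_linearCombination] at hx
  obtain ⟨l, hl, rfl⟩ := hx
  refine ⟨b.vars ∪ a.vars ∪ l.support.biUnion (fun p => p.vars ∪ (l p).vars), fun s hs => ?_⟩
  have hrange : Set.range (Subtype.val : s → I) = ↑s := Subtype.range_coe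
  have hinj : Function.Injective (Subtype.val : s → I) := Subtype.val_injective
  have hbv : (b.vars : Set I) ⊆ Set.range (Subtype.val : s → I) := by
    rw [hrange]
    intro i hi
    exact hs (Finset.mem_union_left _ (Finset.mem_union_left _ hi))
  have hav : (a.vars : Set I) ⊆ Set.range (Subtype.val : s → I) := by
    rw [hrange]
    intro i hi
    exact hs (Finset.mem_union_left _ (Finset.mem_union_right _ hi))
  obtain ⟨b0, hb0⟩ := exists_rename_eq_of_vars_subset_range b _ hinj hbv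
  obtain ⟨a0, ha0⟩ := exists_rename_eq_of_vars_subset_range a _ hinj hav
  have hp : ∀ p ∈ l.support, ∃ p0 : MvPolynomial s R, rename Subtype.val p0 = p := by
    intro p hp
    apply exists_rename_eq_of_vars_subset_range p _ hinj
    rw [hrange]
    intro i hi
    exact hs (Finset.mem_union_right _ (Finset.mem_biUnion.mpr ⟨p, hp, Finset.mem_union_left _ hi⟩))
  have hc : ∀ p ∈ l.support, ∃ c0 : MvPolynomial s C, rename Subtype.val c0 = l p := by
    intro p hp
    apply exists_rename_eq_of_vars_subset_range (l p) _ hinj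
    rw [hrange]
    intro i hi
    exact hs (Finset.mem_union_right _ (Finset.mem_biUnion.mpr ⟨p, hp, Finset.mem_union_right _ hi⟩))
  choose! p0 hp0 using hp
  choose! c0 hc0 using hc
  refine ⟨b0, hb0, ?_⟩
  have heq : map ψ b0 = a0 + ∑ p ∈ l.support, c0 p * map ψ (p0 p) := by
    apply rename_injective _ hinj
    rw [← map_rename, hb0, ← hax, map_add, ha0, map_sum]
    congr 1
    rw [Finsupp.linearCombination_apply, Finsupp.sum]
    refine Finset.sum_congr rfl fun p hp => ?_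
    rw [map_mul, hc0 p hp, ← map_rename, hp0 p hp, smul_eq_mul]
  rw [heq]
  refine Submodule.add_mem_sup ?_
    (sum_mem fun p hp => Ideal.mul_mem_left _ _ (Ideal.mem_map_of_mem _ ?_))
  · show rename _ a0 ∈ 𝔞
    rw [ha0]; exact ha
  · show rename _ (p0 p) ∈ 𝔭
    rw [hp0 p hp]; exact (Finsupp.mem_supported _ _).mp hl hp

theorem false_of_prime {R C : Type u} [CommRing R] [CommRing C] {I : Type u} (ψ : R →+* C)
    (𝔞 : Ideal (MvPolynomial I C)) (𝔭 : Ideal (MvPolynomial I R)) (s : Finset I)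
    (b0 : MvPolynomial s R) (hb : ρ s R b0 ∉ 𝔭)
    (hmem : map ψ b0 ∈ 𝔞.comap (ρ s C) ⊔ (𝔭.comap (ρ s R)).map (map ψ))
    (𝔮₀ : Ideal (MvPolynomial s C)) (h1 : 𝔞.comap (ρ s C) ≤ 𝔮₀)
    (h2 : 𝔮₀.comap (map ψ) = 𝔭.comap (ρ s R)) : False := by
  have h3 : (𝔭.comap (ρ s R)).map (map ψ) ≤ 𝔮₀ := by
    rw [Ideal.map_le_iff_le_comap, h2]
  have h4 : map ψ b0 ∈ 𝔮₀ := (sup_le h1 h3) hmem
  have h5 : b0 ∈ 𝔮₀.comap (map ψ) := h4
  rw [h2] at h5
  exact hb h5

end Groth.Agent.Helper9.UnivClosedAlg
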