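import Mathlib
import Groth.Agent.Lib.Helper9.UnivClosedAlg
import Groth.Agent.Lib.Helper18.UnivOpenAff

/-!
# Universally closed ⇔ closed after base change to all affine `n`-spaces (quasi-compact case)
(helper9)
-/

set_option autoImplicit false
universe u

open CategoryTheory Limits AlgebraicGeometry TopologicalSpace

namespace Groth.Agent.Helper9.UnivClosedGeo

open Groth.Agent.Helper18.UnivOpenAff (comm_apply isPullback_reindex_map reindex_comp')
open Groth.Agent.Helper9.UnivClosedAlg

/-- Hypothesis: all maps `𝔸ⁿ_X ⟶ 𝔸ⁿ_Y` are closed. -/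
def Hc {X Y : Scheme.{u}} (f : X ⟶ Y) : Prop :=
  ∀ n : ℕ, IsClosedMap (AffineSpace.map (ULift.{u} (Fin n)) f)

lemma isClosedMap_comp {A B C : Scheme.{u}} (a : A ⟶ B) (b : B ⟶ C)
    (ha : IsClosedMap a) (hb : IsClosedMap b) : IsClosedMap (a ≫ b) := by
  have : ⇑(a ≫ b) = ⇑b ∘ ⇑a := by
    funext x; exact Scheme.Hom.comp_apply a b x
  rw [this]; exact hb.comp ha

lemma isClosedMap_of_isIso {A B : Scheme.{u}} (a : A ⟶ B) [IsIso a] : IsClosedMap a :=
  a.homeomorph.isClosedMap

/-- Base change of a closed map along a map whose base change is inducing. -/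
lemma isClosedMap_of_isPullback_of_isInducing {P X Y T : Scheme.{u}} {t : P ⟶ X}
    {p : P ⟶ T} {F : X ⟶ Y} {h : T ⟶ Y} (sq : IsPullback t p F h) (hF : IsClosedMap F)
    (ht : Topology.IsInducing t) : IsClosedMap p := by
  intro Z hZ
  have hZ' : Z = t ⁻¹' closure (t '' Z) := by
    rw [← ht.closure_eq_preimage_closure_image, hZ.closure_eq]
  rw [hZ', Scheme.image_preimage_eq_of_isPullback sq]
  exact (hF _ isClosed_closure).preimage h.continuous

lemma isClosedMap_of_isPullback_of_isClosedImmersion {P X Y T : Scheme.{u}} {t : P ⟶ X}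
    {p : P ⟶ T} {F : X ⟶ Y} {h : T ⟶ Y} (sq : IsPullback t p F h) (hF : IsClosedMap F)
    [IsClosedImmersion h] : IsClosedMap p :=
  have ht : IsClosedImmersion t :=
    MorphismProperty.of_isPullback (P := @IsClosedImmersion) sq.flip inferInstance
  isClosedMap_of_isPullback_of_isInducing sq hF t.isClosedEmbedding.isInducing

lemma isClosedMap_of_isPullback_of_isOpenImmersion {P X Y T : Scheme.{u}} {t : P ⟶ X}
    {p : P ⟶ T} {F : X ⟶ Y} {h : T ⟶ Y} (sq : IsPullback t p F h) (hF : IsClosedMap F)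
    [IsOpenImmersion h] : IsClosedMap p :=
  have ht : IsOpenImmersion t :=
    MorphismProperty.of_isPullback (P := @IsOpenImmersion) sq.flip inferInstance
  isClosedMap_of_isPullback_of_isInducing sq hF t.isOpenEmbedding.isInducing

lemma isPullback_map_map (n : Type u) {P X Y T : Scheme.{u}} {t : P ⟶ X} {p : P ⟶ T}
    {F : X ⟶ Y} {h : T ⟶ Y} (sq : IsPullback t p F h) :
    IsPullback (AffineSpace.map n t) (AffineSpace.map n p) (AffineSpace.map n F)
      (AffineSpace.map n h) := by
  have big : IsPullback (AffineSpace.map n p ≫ 𝔸(n; T) ↘ T) (AffineSpace.map n t) h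
      (AffineSpace.map n F ≫ 𝔸(n; Y) ↘ Y) := by
    rw [AffineSpace.map_over, AffineSpace.map_over]
    exact (AffineSpace.isPullback_map t).flip.paste_horiz sq.flip
  refine (IsPullback.of_right big ?_ (AffineSpace.isPullback_map h).flip).flip
  rw [← AffineSpace.map_comp, ← AffineSpace.map_comp, sq.w]

lemma Hc_snd {X Y U : Scheme.{u}} (f : X ⟶ Y) (hf : Hc f) (j : U ⟶ Y) [IsOpenImmersion j] :
    Hc (pullback.snd f j) := by
  intro n
  have sq := isPullback_map_map (ULift.{u} (Fin n)) (IsPullback.of_hasPullback f j)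
  exact isClosedMap_of_isPullback_of_isOpenImmersion sq (hf n)

lemma isClosedMap_map_of_equiv {I J : Type u} (σ : J ≃ I) {S T : Scheme.{u}} (f : S ⟶ T)
    (h : IsClosedMap (AffineSpace.map I f)) : IsClosedMap (AffineSpace.map J f) := by
  have e : AffineSpace.map J f = AffineSpace.reindex (σ.symm : I → J) S ≫
      AffineSpace.map I f ≫ AffineSpace.reindex (σ : J → I) T := by
    rw [AffineSpace.map_reindex, ← Category.assoc, reindex_comp', Equiv.symm_comp_self,
      AffineSpace.reindex_id, Category.id_comp]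
  rw [e]
  exact isClosedMap_comp _ _ (isClosedMap_of_isIso _)
    (isClosedMap_comp _ _ h (isClosedMap_of_isIso _))

set_option backward.isDefEq.respectTransparency.types false in
lemma reindex_Spec {n m : Type u} (i : m → n) (R : CommRingCat.{u}) :
    AffineSpace.reindex i (Spec R) =
      (AffineSpace.SpecIso n R).hom ≫ Spec.map (CommRingCat.ofHom
        (MvPolynomial.rename i : MvPolynomial m R →ₐ[R] MvPolynomial n R).toRingHom) ≫
        (AffineSpace.SpecIso m R).inv := by
  rw [← Iso.inv_comp_eq]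
  apply AffineSpace.hom_ext
  · simp only [AffineSpace.reindex_over, Category.assoc, AffineSpace.SpecIso_inv_over,
      AffineSpace.SpecIso_inv_over_assoc, ← Spec.map_comp, ← CommRingCat.ofHom_comp]
    congr 2
    ext a
    simp
  · intro j
    simp only [TopologicalSpace.Opens.map_top, Scheme.Hom.comp_app, CommRingCat.comp_apply]
    conv_lhs => enter [2]; tactic => exact AffineSpace.reindex_appTop_coord _ _ _
    conv_rhs => enter [2]; tactic => exact AffineSpace.SpecIso_inv_appTop_coord _ _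
    rw [AffineSpace.SpecIso_inv_appTop_coord, ← CommRingCat.comp_apply,
      ← Scheme.ΓSpecIso_inv_naturality, CommRingCat.comp_apply, ConcreteCategory.hom_ofHom]
    simp

lemma reindex_SpecIso_hom {n m : Type u} (i : m → n) (R : CommRingCat.{u}) :
    AffineSpace.reindex i (Spec R) ≫ (AffineSpace.SpecIso m R).hom =
      (AffineSpace.SpecIso n R).hom ≫ Spec.map (CommRingCat.ofHom
        (MvPolynomial.rename i : MvPolynomial m R →ₐ[R] MvPolynomial n R).toRingHom) := by
  rw [reindex_Spec]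
  simp

instance isIso_map (n : Type u) {S T : Scheme.{u}} (j : S ⟶ T) [IsIso j] :
    IsIso (AffineSpace.map n j) :=
  ⟨AffineSpace.map n (inv j), by
    rw [← AffineSpace.map_comp, IsIso.hom_inv_id, AffineSpace.map_id], by
    rw [← AffineSpace.map_comp, IsIso.inv_hom_id, AffineSpace.map_id]⟩

lemma map_SpecIso_hom (n : Type u) {R S : CommRingCat.{u}} (φ : R ⟶ S) :
    AffineSpace.map n (Spec.map φ) ≫ (AffineSpace.SpecIso n R).hom =
      (AffineSpace.SpecIso n S).hom ≫
        Spec.map (CommRingCat.ofHom (MvPolynomial.map (σ := n) φ.hom)) := by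
  rw [AffineSpace.map_SpecMap]
  simp

theorem primeSpectrum_descent {R C : Type u} [CommRing R] [CommRing C] {I : Type u}
    (ψ : R →+* C) (Zc : Set (PrimeSpectrum (MvPolynomial I C))) (hZc : IsClosed Zc)
    (y : PrimeSpectrum (MvPolynomial I R))
    (hy : y ∉ PrimeSpectrum.comap (MvPolynomial.map ψ) '' Zc) :
    ∃ s₀ : Finset I, ∀ s : Finset I, s₀ ⊆ s →
      ∀ w ∈ closure (PrimeSpectrum.comap (ρ s C) '' Zc),
        PrimeSpectrum.comap (MvPolynomial.map ψ) w ≠ PrimeSpectrum.comap (ρ s R) y := by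
  obtain ⟨𝔞, rfl⟩ := (PrimeSpectrum.isClosed_iff_zeroLocus_ideal Zc).mp hZc
  obtain ⟨b, hb, hmem⟩ := exists_notMem_map_mem (MvPolynomial.map ψ) 𝔞 y.asIdeal (by
    intro 𝔮 h𝔮 hle heq
    exact hy ⟨⟨𝔮, h𝔮⟩, hle, PrimeSpectrum.ext heq⟩)
  obtain ⟨s₀, hs₀⟩ := exists_finset_descent ψ 𝔞 y.asIdeal b hmem
  refine ⟨s₀, fun s hs w hw heq => ?_⟩
  obtain ⟨b0, hb0, hmem0⟩ := hs₀ s hs
  rw [PrimeSpectrum.closure_image_comap_zeroLocus] at hw
  refine false_of_prime ψ 𝔞 y.asIdeal s b0 (hb0 ▸ hb) hmem0 w.asIdeal ?_ ?_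
  · exact hw
  · exact congrArg PrimeSpectrum.asIdeal heq

theorem spec_descent {R C : CommRingCat.{u}} (ψ : R ⟶ C) (I : Type u)
    (Zc : Set 𝔸(I; Spec C)) (hZc : IsClosed Zc) (y : 𝔸(I; Spec R))
    (hy : y ∉ AffineSpace.map I (Spec.map ψ) '' Zc) :
    ∃ s₀ : Finset I, ∀ s : Finset I, s₀ ⊆ s →
      ∀ w ∈ closure (AffineSpace.reindex (Subtype.val : s → I) (Spec C) '' Zc),
        AffineSpace.map s (Spec.map ψ) w ≠
          AffineSpace.reindex (Subtype.val : s → I) (Spec R) y := by
  obtain ⟨s₀, hs₀⟩ := primeSpectrum_descent ψ.hom ((AffineSpace.SpecIso I C).hom '' Zc)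
    ((AffineSpace.SpecIso I C).hom.homeomorph.isClosedMap _ hZc)
    ((AffineSpace.SpecIso I R).hom y) (by
      rintro ⟨_, ⟨z, hz, rfl⟩, hzy⟩
      apply hy
      refine ⟨z, hz, (AffineSpace.SpecIso I R).hom.homeomorph.injective ?_⟩
      show (AffineSpace.SpecIso I R).hom (AffineSpace.map I (Spec.map ψ) z) =
        (AffineSpace.SpecIso I R).hom y
      rw [← hzy]
      exact comm_apply (map_SpecIso_hom I ψ) z)
  refine ⟨s₀, fun s hs w hw heq => ?_⟩
  apply hs₀ s hs ((AffineSpace.SpecIso s C).hom w)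
  · have hset : PrimeSpectrum.comap (ρ s C) '' ((AffineSpace.SpecIso I C).hom '' Zc) =
        (AffineSpace.SpecIso s C).hom ''
          (AffineSpace.reindex (Subtype.val : s → I) (Spec C) '' Zc) := by
      rw [Set.image_image, Set.image_image]
      refine Set.image_congr' fun z => ?_
      exact (comm_apply (reindex_SpecIso_hom (Subtype.val : s → I) C) z).symm
    rw [hset]
    exact image_closure_subset_closure_image (AffineSpace.SpecIso s C).hom.continuous
      ⟨w, hw, rfl⟩
  · exact ((comm_apply (map_SpecIso_hom s ψ) w).symm.trans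
      (congrArg (AffineSpace.SpecIso s R).hom heq)).trans
      (comm_apply (reindex_SpecIso_hom (Subtype.val : s → I) R) y)

theorem chart_descent {X : Scheme.{u}} {R C : CommRingCat.{u}} (f : X ⟶ Spec R)
    (j : Spec C ⟶ X) [IsOpenImmersion j] (I : Type u) (Z : Set 𝔸(I; X)) (hZ : IsClosed Z)
    (y : 𝔸(I; Spec R)) (hy : y ∉ AffineSpace.map I f '' Z) :
    ∃ s₀ : Finset I, ∀ s : Finset I, s₀ ⊆ s → ∀ w : 𝔸(s; Spec C),
      AffineSpace.map s j w ∈ closure (AffineSpace.reindex (Subtype.val : s → I) X '' Z) →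
      AffineSpace.map s f (AffineSpace.map s j w) ≠
        AffineSpace.reindex (Subtype.val : s → I) (Spec R) y := by
  obtain ⟨ψ, hψ⟩ : ∃ ψ : R ⟶ C, Spec.map ψ = j ≫ f :=
    ⟨Spec.preimage (j ≫ f), Spec.map_preimage _⟩
  have hcomp : ∀ (n : Type u) (w : 𝔸(n; Spec C)), AffineSpace.map n (Spec.map ψ) w =
      AffineSpace.map n f (AffineSpace.map n j w) := by
    intro n w; rw [hψ, AffineSpace.map_comp, Scheme.Hom.comp_apply]
  obtain ⟨s₀, hs₀⟩ := spec_descent ψ I (AffineSpace.map I j ⁻¹' Z)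
    (hZ.preimage (AffineSpace.map I j).continuous) y (by
      rintro ⟨z, hz, rfl⟩
      exact hy ⟨AffineSpace.map I j z, hz, (hcomp I z).symm⟩)
  refine ⟨s₀, fun s hs w hw => ?_⟩
  rw [← hcomp]
  apply hs₀ s hs w
  have sq := (isPullback_reindex_map (Subtype.val : s → I) j).flip
  rw [Scheme.image_preimage_eq_of_isPullback sq,
    ← (AffineSpace.map s j).isOpenEmbedding.isOpenMap.preimage_closure_eq_closure_preimage
      (AffineSpace.map s j).continuous]
  exact hw

theorem isClosedMap_map_of_Hc_Spec {X : Scheme.{u}} {R : CommRingCat.{u}} (f : X ⟶ Spec R)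
    [CompactSpace X] (hf : Hc f) (I : Type u) : IsClosedMap (AffineSpace.map I f) := by
  classical
  intro Z hZ
  rw [← isOpen_compl_iff, isOpen_iff_forall_mem_open]
  intro y hy
  obtain ⟨t, ht⟩ := isCompact_univ.elim_finite_subcover
    (fun i : X.affineCover.I₀ => Set.range (X.affineCover.f i))
    (fun i => (X.affineCover.f i).isOpenEmbedding.isOpen_range)
    (fun x _ => Set.mem_iUnion.mpr ⟨X.affineCover.idx x, X.affineCover.covers x⟩)
  have hoi : ∀ i : X.affineCover.I₀, IsOpenImmersion (X.affineCover.f i) :=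
    fun i => inferInstance
  choose s₀ hs₀ using fun i : X.affineCover.I₀ =>
    @chart_descent X R _ f (X.affineCover.f i) (hoi i) I Z hZ y hy
  let s : Finset I := t.biUnion s₀
  have hclosed : IsClosedMap (AffineSpace.map s f) :=
    isClosedMap_map_of_equiv ((Fintype.equivFin s).trans Equiv.ulift.symm) f
      (hf (Fintype.card s))
  refine ⟨(AffineSpace.reindex (Subtype.val : s → I) (Spec R)) ⁻¹'
      (AffineSpace.map s f '' closure (AffineSpace.reindex (Subtype.val : s → I) X '' Z))ᶜ,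
      ?_, ?_, ?_⟩
  · rintro y' hy' ⟨z, hz, rfl⟩
    apply hy'
    refine ⟨AffineSpace.reindex (Subtype.val : s → I) X z, subset_closure ⟨z, hz, rfl⟩, ?_⟩
    exact (comm_apply (AffineSpace.map_reindex (Subtype.val : s → I) f) z).symm
  · exact (hclosed _ isClosed_closure).isOpen_compl.preimage
      (AffineSpace.reindex _ _).continuous
  · rintro ⟨x₀, hx₀, hx₀y⟩
    have hcov := ht (Set.mem_univ ((𝔸(s; X) ↘ X) x₀))
    simp only [Set.mem_iUnion] at hcov
    obtain ⟨i, hi, a, ha⟩ := hcov
    obtain ⟨w, rfl, -⟩ := Scheme.exists_preimage_of_isPullback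
      (AffineSpace.isPullback_map (n := s) (X.affineCover.f i)) x₀ a ha.symm
    exact hs₀ i s (Finset.subset_biUnion_of_mem s₀ hi) w hx₀ hx₀y

lemma aux {X T V : Scheme.{u}} {R : CommRingCat.{u}} [IsAffine V] (f : X ⟶ Spec R)
    [CompactSpace X] (hf : Hc f) (g : T ⟶ Spec R) (v : V ⟶ T) :
    IsClosedMap (pullback.snd (pullback.fst g f) v) := by
  let h : V ⟶ 𝔸(Γ(V, ⊤); Spec R) := AffineSpace.homOfVector (v ≫ g) (fun b => b)
  have : IsClosedImmersion h := by
    apply IsClosedImmersion.of_surjective_of_isAffine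
    intro b
    exact ⟨AffineSpace.coord _ b, AffineSpace.homOfVector_appTop_coord _ _ b⟩
  have big : IsPullback (pullback.fst (pullback.fst g f) v ≫ pullback.snd g f)
      (pullback.snd (pullback.fst g f) v) f (v ≫ g) :=
    (IsPullback.of_hasPullback (pullback.fst g f) v).paste_horiz
      (IsPullback.of_hasPullback g f).flip
  have big' : IsPullback (pullback.fst (pullback.fst g f) v ≫ pullback.snd g f)
      (pullback.snd (pullback.fst g f) v) f (h ≫ 𝔸(Γ(V, ⊤); Spec R) ↘ Spec R) := by
    rw [AffineSpace.homOfVector_over]; exact big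
  exact isClosedMap_of_isPullback_of_isClosedImmersion
    (IsPullback.of_right' big' (AffineSpace.isPullback_map f).flip)
    (isClosedMap_map_of_Hc_Spec f hf _)

lemma universallyClosed_of_Hc_of_Spec {X : Scheme.{u}} {R : CommRingCat.{u}} (f : X ⟶ Spec R)
    [CompactSpace X] (hf : Hc f) : UniversallyClosed f := by
  refine ⟨MorphismProperty.universally_mk' _ _ fun {T} g _ => ?_⟩
  rw [IsZariskiLocalAtTarget.iff_of_openCover (P := topologically @IsClosedMap) T.affineCover]
  intro i
  dsimp only [Scheme.Cover.pullbackHom]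
  exact aux f hf g (T.affineCover.f i)

lemma universallyClosed_of_Hc_of_isAffine {X Y : Scheme.{u}} [IsAffine Y] (f : X ⟶ Y)
    [CompactSpace X] (hf : Hc f) : UniversallyClosed f := by
  have h1 : Hc (f ≫ Y.isoSpec.hom) := fun n => by
    rw [AffineSpace.map_comp]
    exact isClosedMap_comp _ _ (hf n) (isClosedMap_of_isIso _)
  have h2 := universallyClosed_of_Hc_of_Spec (f ≫ Y.isoSpec.hom) h1
  exact (MorphismProperty.cancel_right_of_respectsIso @UniversallyClosed f Y.isoSpec.hom).mp h2

theorem universallyClosed_of_Hc {X Y : Scheme.{u}} (f : X ⟶ Y) [QuasiCompact f] (hf : Hc f) :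
    UniversallyClosed f := by
  rw [IsZariskiLocalAtTarget.iff_of_openCover (P := @UniversallyClosed) Y.affineCover]
  intro i
  have hcs : CompactSpace ↑(pullback f (Y.affineCover.f i)) :=
    QuasiCompact.compactSpace_of_compactSpace (pullback.snd f (Y.affineCover.f i))
  exact universallyClosed_of_Hc_of_isAffine (pullback.snd f (Y.affineCover.f i))
    (Hc_snd f hf (Y.affineCover.f i))

theorem Hc_of_universallyClosed {X Y : Scheme.{u}} (f : X ⟶ Y) [hU : UniversallyClosed f] :
    Hc f :=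
  fun _ => hU.universally_isClosedMap _ _ _ (AffineSpace.isPullback_map f)

theorem Hc_of_pullback_snd {X Y : Scheme.{u}} (f : X ⟶ Y)
    (h : ∀ n : ℕ, IsClosedMap (pullback.snd f (𝔸(ULift.{u} (Fin n); Y) ↘ Y))) : Hc f := by
  intro n
  have e := (AffineSpace.isPullback_map (n := ULift.{u} (Fin n)) f).flip.isoPullback_hom_snd
  rw [← e]
  exact isClosedMap_comp _ _ (isClosedMap_of_isIso _) (h n)

end Groth.Agent.Helper9.UnivClosedGeo
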