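import Mathlib
import Groth.Agent.S4450
import Groth.Agent.Lib.Helper9.UnivClosedGeo

/-!
# The DVR valuative criterion for universal closedness over a locally Noetherian base (helper9)
-/

set_option autoImplicit false
universe u

open CategoryTheory Limits AlgebraicGeometry TopologicalSpace

namespace Groth.Agent.Helper9.DVRCrit

/-- existence part of the DVR valuative criterion -/
def DVRExistence {X Y : Scheme.{u}} (f : X ⟶ Y) : Prop :=
  ∀ (A : Type u) [CommRing A] [IsDomain A] [IsDiscreteValuationRing A]
    (x : Spec (CommRingCat.of (FractionRing A)) ⟶ X) (y : Spec (CommRingCat.of A) ⟶ Y),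
    x ≫ f = Spec.map (CommRingCat.ofHom (algebraMap A (FractionRing A))) ≫ y →
    ∃ l : Spec (CommRingCat.of A) ⟶ X, l ≫ f = y ∧
      Spec.map (CommRingCat.ofHom (algebraMap A (FractionRing A))) ≫ l = x

lemma DVRExistence.of_isPullback {P X Y T : Scheme.{u}} {t : P ⟶ X} {p : P ⟶ T} {f : X ⟶ Y}
    {g : T ⟶ Y} (sq : IsPullback t p f g) (hf : DVRExistence f) : DVRExistence p := by
  intro A _ _ _ x y hxy
  obtain ⟨l, hl1, hl2⟩ := hf A (x ≫ t) (y ≫ g) (by
    rw [Category.assoc, sq.w, ← Category.assoc, hxy, Category.assoc])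
  refine ⟨sq.lift l y hl1, sq.lift_snd _ _ _, ?_⟩
  apply sq.hom_ext
  · rw [Category.assoc, sq.lift_fst, hl2]
  · rw [Category.assoc, sq.lift_snd, hxy]

theorem specializingMap_of_dvrExistence {X Y : Scheme.{u}} [IsLocallyNoetherian Y] (f : X ⟶ Y)
    [LocallyOfFiniteType f] (H : DVRExistence f) : SpecializingMap f := by
  intro x' y hy
  by_cases hyx : y = f x'
  · exact ⟨x', specializes_rfl, hyx.symm⟩
  obtain ⟨A, h, hA, hcl, hgen⟩ := Groth.Agent.S4450.result f x' y hy hyx
  haveI := hA
  let e : FractionRing A ≃ₐ[A] (X.residueField x') := FractionRing.algEquiv A _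
  have h1 : CommRingCat.ofHom (algebraMap A (FractionRing A)) =
      CommRingCat.ofHom A.subtype ≫
        CommRingCat.ofHom (e.symm : X.residueField x' →+* FractionRing A) := by
    apply CommRingCat.hom_ext
    apply RingHom.ext
    intro a
    exact (e.symm.commutes a).symm
  have hxK : (Spec.map (CommRingCat.ofHom (e.symm : X.residueField x' →+* FractionRing A)) ≫
      X.fromSpecResidueField x') ≫ f =
      Spec.map (CommRingCat.ofHom (algebraMap A (FractionRing A))) ≫ h := by
    rw [h1, Spec.map_comp, Category.assoc, Category.assoc, hgen]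
  obtain ⟨l, hl1, hl2⟩ := H A _ h hxK
  refine ⟨l (IsLocalRing.closedPoint A), ?_, ?_⟩
  · show x' ⤳ l (IsLocalRing.closedPoint A)
    have hsp : (Spec.map (CommRingCat.ofHom (algebraMap A (FractionRing A))))
        (IsLocalRing.closedPoint (FractionRing A)) ⤳ IsLocalRing.closedPoint A :=
      IsLocalRing.specializes_closedPoint _
    have h2 := hsp.map l.continuous
    rwa [← Scheme.Hom.comp_apply, hl2, Scheme.Hom.comp_apply,
      Scheme.fromSpecResidueField_apply] at h2
  · rw [← Scheme.Hom.comp_apply, hl1, hcl]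

theorem universallyClosed_of_dvrExistence {X Y : Scheme.{u}} [IsLocallyNoetherian Y] (f : X ⟶ Y)
    [LocallyOfFiniteType f] [QuasiCompact f] (H : DVRExistence f) : UniversallyClosed f := by
  apply Groth.Agent.Helper9.UnivClosedGeo.universallyClosed_of_Hc
  intro n
  have sq := (AffineSpace.isPullback_map (n := ULift.{u} (Fin n)) f).flip
  haveI : LocallyOfFiniteType (AffineSpace.map (ULift.{u} (Fin n)) f) :=
    MorphismProperty.of_isPullback (P := @LocallyOfFiniteType) sq inferInstance
  haveI : QuasiCompact (AffineSpace.map (ULift.{u} (Fin n)) f) :=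
    MorphismProperty.of_isPullback (P := @QuasiCompact) sq inferInstance
  haveI : IsLocallyNoetherian 𝔸(ULift.{u} (Fin n); Y) :=
    LocallyOfFiniteType.isLocallyNoetherian (𝔸(ULift.{u} (Fin n); Y) ↘ Y)
  rw [isClosedMap_iff_specializingMap]
  exact specializingMap_of_dvrExistence _ (H.of_isPullback sq)

end Groth.Agent.Helper9.DVRCrit
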