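import Mathlib

/-!
# Flat families over a local ring with reduced closed fibre (helper9)
-/

set_option autoImplicit false
universe u
open CategoryTheory CategoryTheory.Limits AlgebraicGeometry TopologicalSpace TensorProduct

namespace Groth.Agent.Helper9.DVRFib

theorem descend_idem {A : Type*} [CommRing A] (π : A) (hπ : π ∈ nonZeroDivisors A)
    (hrad : (Ideal.span {π}).IsRadical) (B : Type*) [CommRing B] [Algebra A B]
    [IsLocalization.Away π B] (e : B) (he : IsIdempotentElem e) :
    ∃ a : A, algebraMap A B a = e := by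
  have hinj : Function.Injective (algebraMap A B) :=
    IsLocalization.injective B (M := Submonoid.powers π) (Submonoid.powers_le.mpr hπ)
  have hu : IsUnit (algebraMap A B π) := IsLocalization.Away.algebraMap_isUnit π
  have key : ∀ n : ℕ, ∀ a : A, e * algebraMap A B π ^ n = algebraMap A B a →
      ∃ a₀ : A, algebraMap A B a₀ = e := by
    intro n
    induction n with
    | zero => intro a h; exact ⟨a, by rw [← h, pow_zero, mul_one]⟩
    | succ n ih =>
      intro a h
      have h2 : a ^ 2 = a * π ^ (n + 1) := by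
        apply hinj
        rw [map_pow, map_mul, map_pow, ← h]
        have hee : e * e = e := he
        calc (e * algebraMap A B π ^ (n + 1)) ^ 2
            = (e * e) * algebraMap A B π ^ (n + 1) * algebraMap A B π ^ (n + 1) := by ring
          _ = e * algebraMap A B π ^ (n + 1) * algebraMap A B π ^ (n + 1) := by rw [hee]
      have h3 : a ∈ Ideal.span {π} :=
        hrad ⟨2, Ideal.mem_span_singleton.mpr ⟨a * π ^ n, by rw [h2]; ring⟩⟩
      obtain ⟨a', rfl⟩ := Ideal.mem_span_singleton.mp h3
      apply ih a'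
      apply hu.mul_left_cancel
      rw [← map_mul, ← h]
      ring
  obtain ⟨n, a, h⟩ := IsLocalization.Away.surj π e
  exact key n a h

theorem clopen_lemma {A : Type*} [CommRing A] (π : A) (hπ : π ∈ nonZeroDivisors A)
    (hrad : (Ideal.span {π}).IsRadical)
    (U V : Set (PrimeSpectrum A)) (hU : IsOpen U) (hV : IsOpen V) (hUV : Disjoint U V)
    (hcov : U ∪ V = (PrimeSpectrum.basicOpen π : Set (PrimeSpectrum A))) :
    Disjoint (closure U) (closure V) := by
  have hemb := PrimeSpectrum.localization_away_isOpenEmbedding (Localization.Away π) π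
  have hrange := PrimeSpectrum.localization_away_comap_range (Localization.Away π) π
  have hinj : Function.Injective (algebraMap A (Localization.Away π)) :=
    IsLocalization.injective (Localization.Away π) (M := Submonoid.powers π)
      (Submonoid.powers_le.mpr hπ)
  have hclopen : IsClopen ((PrimeSpectrum.comap (algebraMap A (Localization.Away π))) ⁻¹' U) := by
    refine ⟨?_, hU.preimage hemb.continuous⟩
    have hc : ((PrimeSpectrum.comap (algebraMap A (Localization.Away π))) ⁻¹' U)ᶜ =
        (PrimeSpectrum.comap (algebraMap A (Localization.Away π))) ⁻¹' V := by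
      ext q
      simp only [Set.mem_compl_iff, Set.mem_preimage]
      have hq : PrimeSpectrum.comap (algebraMap A (Localization.Away π)) q ∈ U ∪ V := by
        rw [hcov, ← hrange]; exact Set.mem_range_self q
      constructor
      · intro h; exact hq.resolve_left h
      · intro h h'; exact Set.disjoint_left.mp hUV h' h
    rw [← isOpen_compl_iff, hc]
    exact hV.preimage hemb.continuous
  obtain ⟨e, he, hUe⟩ := PrimeSpectrum.isClopen_iff.mp hclopen
  obtain ⟨a₀, rfl⟩ := descend_idem π hπ hrad (Localization.Away π) e he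
  have ha₀ : a₀ * (1 - a₀) = 0 := by
    apply hinj
    rw [map_mul, map_sub, map_one, map_zero]
    exact he.mul_one_sub_self
  have hchar : ∀ p ∈ (PrimeSpectrum.basicOpen π : Set (PrimeSpectrum A)),
      p ∈ U ↔ a₀ ∉ p.asIdeal := by
    intro p hp
    rw [← hrange] at hp
    obtain ⟨q, rfl⟩ := hp
    have hq : q ∈ (PrimeSpectrum.comap (algebraMap A (Localization.Away π))) ⁻¹' U ↔
        q ∈ (PrimeSpectrum.basicOpen (algebraMap A (Localization.Away π) a₀) :
          Set (PrimeSpectrum (Localization.Away π))) := by rw [hUe]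
    exact hq
  rw [Set.disjoint_left]
  intro x hxU hxV
  by_cases hx : a₀ ∈ x.asIdeal
  · have hx' : (1 - a₀) ∉ x.asIdeal := fun h => x.isPrime.ne_top (by
      rw [Ideal.eq_top_iff_one]
      have := x.asIdeal.add_mem hx h
      simpa using this)
    obtain ⟨p, hp1, hp2⟩ := mem_closure_iff.mp hxU (PrimeSpectrum.basicOpen (1 - a₀))
      (PrimeSpectrum.basicOpen (1 - a₀)).isOpen hx'
    have hpπ : p ∈ (PrimeSpectrum.basicOpen π : Set (PrimeSpectrum A)) := by
      rw [← hcov]; exact Or.inl hp2
    have h1 := (hchar p hpπ).mp hp2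
    have h0 : a₀ * (1 - a₀) ∈ p.asIdeal := by rw [ha₀]; exact zero_mem _
    rcases p.isPrime.mem_or_mem h0 with h | h
    · exact h1 h
    · exact hp1 h
  · obtain ⟨p, hp1, hp2⟩ := mem_closure_iff.mp hxV (PrimeSpectrum.basicOpen a₀)
      (PrimeSpectrum.basicOpen a₀).isOpen hx
    have hpπ : p ∈ (PrimeSpectrum.basicOpen π : Set (PrimeSpectrum A)) := by
      rw [← hcov]; exact Or.inr hp2
    have hpU : p ∉ U := fun h => Set.disjoint_left.mp hUV h hp2
    exact hpU ((hchar p hpπ).mpr hp1)

theorem radical_of_fiber_reduced {R : Type*} [CommRing R] (m : Ideal R) [m.IsMaximal]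
    (A : Type*) [CommRing A] [Algebra R A]
    (h : IsReduced (m.ResidueField ⊗[R] A)) : (m.map (algebraMap R A)).IsRadical := by
  rw [Ideal.isRadical_iff_quotient_reduced]
  let e₁ : (R ⧸ m) ≃ₐ[R] m.ResidueField :=
    AlgEquiv.ofBijective (IsScalarTower.toAlgHom R (R ⧸ m) m.ResidueField)
      (Ideal.bijective_algebraMap_quotient_residueField m)
  let e₂ : A ⊗[R] (R ⧸ m) ≃ₐ[R] A ⊗[R] m.ResidueField :=
    Algebra.TensorProduct.congr AlgEquiv.refl e₁
  let e₃ := Algebra.TensorProduct.quotIdealMapEquivTensorQuot A m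
  let e₄ := Algebra.TensorProduct.comm R A m.ResidueField
  exact isReduced_of_injective
    ((e₄.toRingEquiv.toRingHom.comp e₂.toRingEquiv.toRingHom).comp e₃.toRingEquiv.toRingHom)
    (fun x y hxy => e₃.injective (e₂.injective (e₄.injective hxy)))

theorem fiber_radical {R : Type u} [CommRing R] [IsLocalRing R] {X : Scheme.{u}}
    (f : X ⟶ Spec (CommRingCat.of R)) (hred : IsReduced (f.fiber (IsLocalRing.closedPoint R)))
    (A : Type u) [CommRing A] [Algebra R A] (j : Spec (CommRingCat.of A) ⟶ X) [IsOpenImmersion j]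
    (hj : j ≫ f = Spec.map (CommRingCat.ofHom (algebraMap R A))) :
    ((IsLocalRing.maximalIdeal R).map (algebraMap R A)).IsRadical := by
  haveI : IsReduced (pullback f
      ((Spec (CommRingCat.of R)).fromSpecResidueField (IsLocalRing.closedPoint R))) := hred
  have e₁ : Spec.map (CommRingCat.ofHom (algebraMap R A)) ≫ 𝟙 (Spec (CommRingCat.of R)) = j ≫ f := by
    rw [Category.comp_id, hj]
  have e₂ : (Spec (CommRingCat.of R)).fromSpecResidueField (IsLocalRing.closedPoint R) ≫
      𝟙 (Spec (CommRingCat.of R)) =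
      𝟙 _ ≫ (Spec (CommRingCat.of R)).fromSpecResidueField (IsLocalRing.closedPoint R) := by
    rw [Category.comp_id, Category.id_comp]
  have hoi := Scheme.pullback_map_isOpenImmersion (Spec.map (CommRingCat.ofHom (algebraMap R A)))
      ((Spec (CommRingCat.of R)).fromSpecResidueField (IsLocalRing.closedPoint R)) f
      ((Spec (CommRingCat.of R)).fromSpecResidueField (IsLocalRing.closedPoint R)) j (𝟙 _) (𝟙 _)
      e₁ e₂
  have h1 : IsReduced ((Spec.map (CommRingCat.ofHom (algebraMap R A))).fiber
      (IsLocalRing.closedPoint R)) :=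
    @isReduced_of_isOpenImmersion _ _ _ hoi this
  have e' : (Spec.map (CommRingCat.ofHom (algebraMap R A))).fiber (IsLocalRing.closedPoint R) ≅
      Spec (CommRingCat.of ((IsLocalRing.closedPoint R).asIdeal.Fiber A)) :=
    Arrow.leftFunc.mapIso (Spec.fiberToSpecResidueFieldIso R A (IsLocalRing.closedPoint R))
  haveI := h1
  have h2 : IsReduced (Spec (CommRingCat.of ((IsLocalRing.closedPoint R).asIdeal.Fiber A))) :=
    isReduced_of_isOpenImmersion e'.inv
  have h3 : _root_.IsReduced ((IsLocalRing.closedPoint R).asIdeal.Fiber A) :=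
    (affine_isReduced_iff _).mp h2
  exact radical_of_fiber_reduced (IsLocalRing.maximalIdeal R) A h3

theorem exists_kill_nilradical {A : Type*} [CommRing A] [IsNoetherianRing A] (π : A)
    (hπ : π ∈ nonZeroDivisors A) (hrad : (Ideal.span {π}).IsRadical) :
    ∃ r : A, r - 1 ∈ Ideal.span {π} ∧ ∀ a : A, IsNilpotent a → r * a = 0 := by
  have hle : nilradical A ≤ Ideal.span {π} • nilradical A := by
    intro a ha
    obtain ⟨k, hk⟩ := mem_nilradical.mp ha
    have h1 : a ∈ Ideal.span {π} := hrad ⟨k, by rw [hk]; exact zero_mem _⟩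
    obtain ⟨a', rfl⟩ := Ideal.mem_span_singleton.mp h1
    have h2 : a' ^ k = 0 := by
      have h3 : a' ^ k * π ^ k = 0 := by rw [← mul_pow, mul_comm]; exact hk
      exact (mem_nonZeroDivisors_iff_right.mp (pow_mem hπ k)) _ h3
    exact Submodule.smul_mem_smul (Ideal.mem_span_singleton_self π)
      (mem_nilradical.mpr ⟨k, h2⟩)
  obtain ⟨r, hr1, hr2⟩ := Submodule.exists_sub_one_mem_and_smul_eq_zero_of_fg_of_le_smul
    (Ideal.span {π}) (nilradical A) (IsNoetherian.noetherian _) hle
  exact ⟨r, hr1, fun a ha => hr2 a (mem_nilradical.mpr ha)⟩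

theorem isReduced_away {A : Type*} [CommRing A] (r : A)
    (hr : ∀ a : A, IsNilpotent a → r * a = 0) (B : Type*) [CommRing B] [Algebra A B]
    [IsLocalization.Away r B] : IsReduced B := by
  constructor
  intro b hb
  obtain ⟨n, a, hab⟩ := IsLocalization.Away.surj r b
  obtain ⟨k, hk⟩ := hb
  have h1 : algebraMap A B (a ^ k) = 0 := by rw [map_pow, ← hab, mul_pow, hk, zero_mul]
  obtain ⟨m, hm⟩ := IsLocalization.Away.exists_of_eq r (S := B) (h1.trans (map_zero _).symm)
  rw [mul_zero] at hm
  have h2 : IsNilpotent (r * a) := ⟨m + k, by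
    calc (r * a) ^ (m + k) = (r ^ m * a ^ k) * (r ^ k * a ^ m) := by ring
      _ = 0 := by rw [hm, zero_mul]⟩
  have h3 : r * (r * a) = 0 := hr _ h2
  have hu : IsUnit (algebraMap A B r) := IsLocalization.Away.algebraMap_isUnit r
  have h4 : algebraMap A B a = 0 := by
    have h5 : algebraMap A B r * (algebraMap A B r * algebraMap A B a) = 0 := by
      rw [← map_mul, ← map_mul, h3, map_zero]
    exact hu.mul_right_eq_zero.mp (hu.mul_right_eq_zero.mp h5)
  exact (hu.pow n).mul_left_eq_zero.mp (hab.trans h4)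

theorem away_of_dvr {R K : Type*} [CommRing R] [IsDomain R] [IsDiscreteValuationRing R] [Field K]
    [Algebra R K] [IsFractionRing R K] (ϖ : R) (hϖ : Irreducible ϖ) : IsLocalization.Away ϖ K := by
  have hinj : Function.Injective (algebraMap R K) := IsFractionRing.injective R K
  have hp0 : algebraMap R K ϖ ≠ 0 := fun h => hϖ.ne_zero (hinj (h.trans (map_zero _).symm))
  refine IsLocalization.Away.mk ϖ (IsUnit.mk0 _ hp0) (fun s => ?_) (fun a b hab => ?_)
  · obtain ⟨a, b, hb, hab⟩ := IsFractionRing.div_surjective (A := R) s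
    obtain ⟨n, u, hu⟩ := IsDiscreteValuationRing.eq_unit_mul_pow_irreducible
      (nonZeroDivisors.ne_zero hb) hϖ
    refine ⟨n, a * ↑u⁻¹, ?_⟩
    have hu0 : algebraMap R K ↑u ≠ 0 := fun h => u.ne_zero (hinj (h.trans (map_zero _).symm))
    have hinv : algebraMap R K ↑u⁻¹ * algebraMap R K ↑u = 1 := by
      rw [← map_mul, Units.inv_mul, map_one]
    rw [← hab, hu, map_mul, map_mul, map_pow, div_mul_eq_mul_div,
      div_eq_iff (mul_ne_zero hu0 (pow_ne_zero n hp0))]
    linear_combination (-(algebraMap R K a * algebraMap R K ϖ ^ n)) * hinv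
  · exact ⟨0, by rw [hinj hab]⟩

theorem eq_or_eq_of_dvr {R : Type*} [CommRing R] [IsDomain R] [IsDiscreteValuationRing R]
    (p : PrimeSpectrum R) :
    p = (⟨⊥, Ideal.isPrime_bot⟩ : PrimeSpectrum R) ∨ p = IsLocalRing.closedPoint R := by
  by_cases hp0 : p.asIdeal = ⊥
  · exact Or.inl (PrimeSpectrum.ext hp0)
  · exact Or.inr (PrimeSpectrum.ext (IsLocalRing.eq_maximalIdeal (p.isPrime.isMaximal hp0)))

theorem isOpenImmersion_fromSpecResidueField_generic (R : Type u) [CommRing R] [IsDomain R]
    [IsDiscreteValuationRing R] :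
    IsOpenImmersion ((Spec (CommRingCat.of R)).fromSpecResidueField
      (⟨⊥, Ideal.isPrime_bot⟩ : PrimeSpectrum R)) := by
  obtain ⟨ϖ, hϖ⟩ := IsDiscreteValuationRing.exists_irreducible R
  haveI : IsLocalization.Away ϖ (⊥ : Ideal R).ResidueField := away_of_dvr ϖ hϖ
  haveI : IsOpenImmersion (Spec.map (CommRingCat.ofHom
      (algebraMap R (⊥ : Ideal R).ResidueField))) := IsOpenImmersion.of_isLocalization ϖ
  have h := Scheme.Spec.map_residueFieldIso_inv_eq_fromSpecResidueField (CommRingCat.of R)
    (⟨⊥, Ideal.isPrime_bot⟩ : PrimeSpectrum R)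
  rw [← h]
  infer_instance

theorem descend_idem' {A : Type*} [CommRing A] (π : A)
    (hT : ∀ t : A, (∃ k : ℕ, π ^ k * t = 0) → IsNilpotent t)
    (hrad : (Ideal.span {π}).IsRadical) (B : Type*) [CommRing B] [Algebra A B]
    [IsLocalization.Away π B] (e : B) (he : IsIdempotentElem e) :
    ∃ a : A, algebraMap A B a = e := by
  have hu : IsUnit (algebraMap A B π) := IsLocalization.Away.algebraMap_isUnit π
  have key : ∀ n : ℕ, ∀ a : A, e * algebraMap A B π ^ n = algebraMap A B a →
      ∃ a₀ : A, algebraMap A B a₀ = e := by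
    intro n
    induction n with
    | zero => intro a h; exact ⟨a, by rw [← h, pow_zero, mul_one]⟩
    | succ n ih =>
      intro a h
      have h2 : algebraMap A B (a ^ 2) = algebraMap A B (a * π ^ (n + 1)) := by
        rw [map_pow, map_mul, map_pow, ← h]
        have hee : e * e = e := he
        calc (e * algebraMap A B π ^ (n + 1)) ^ 2
            = (e * e) * algebraMap A B π ^ (n + 1) * algebraMap A B π ^ (n + 1) := by ring
          _ = e * algebraMap A B π ^ (n + 1) * algebraMap A B π ^ (n + 1) := by rw [hee]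
      obtain ⟨m, hm⟩ := IsLocalization.Away.exists_of_eq π (S := B) h2
      have hnil : IsNilpotent (a ^ 2 - a * π ^ (n + 1)) := hT _ ⟨m, by rw [mul_sub, hm, sub_self]⟩
      have h4 : a ^ 2 - a * π ^ (n + 1) ∈ Ideal.span {π} := by
        obtain ⟨k, hk⟩ := hnil
        exact hrad ⟨k, by rw [hk]; exact zero_mem _⟩
      have h5 : a * π ^ (n + 1) ∈ Ideal.span {π} :=
        Ideal.mem_span_singleton.mpr ⟨a * π ^ n, by ring⟩
      have h3 : a ∈ Ideal.span {π} := hrad ⟨2, by
        have := (Ideal.span {π}).add_mem h4 h5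
        rwa [sub_add_cancel] at this⟩
      obtain ⟨a', rfl⟩ := Ideal.mem_span_singleton.mp h3
      apply ih a'
      apply hu.mul_left_cancel
      rw [← map_mul, ← h]
      ring
  obtain ⟨n, a, h⟩ := IsLocalization.Away.surj π e
  exact key n a h

theorem clopen_lemma' {A : Type*} [CommRing A] (π : A)
    (hT : ∀ t : A, (∃ k : ℕ, π ^ k * t = 0) → IsNilpotent t)
    (hrad : (Ideal.span {π}).IsRadical)
    (U V : Set (PrimeSpectrum A)) (hU : IsOpen U) (hV : IsOpen V) (hUV : Disjoint U V)
    (hcov : U ∪ V = (PrimeSpectrum.basicOpen π : Set (PrimeSpectrum A))) :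
    Disjoint (closure U) (closure V) := by
  have hemb := PrimeSpectrum.localization_away_isOpenEmbedding (Localization.Away π) π
  have hrange := PrimeSpectrum.localization_away_comap_range (Localization.Away π) π
  have hclopen : IsClopen ((PrimeSpectrum.comap (algebraMap A (Localization.Away π))) ⁻¹' U) := by
    refine ⟨?_, hU.preimage hemb.continuous⟩
    have hc : ((PrimeSpectrum.comap (algebraMap A (Localization.Away π))) ⁻¹' U)ᶜ =
        (PrimeSpectrum.comap (algebraMap A (Localization.Away π))) ⁻¹' V := by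
      ext q
      simp only [Set.mem_compl_iff, Set.mem_preimage]
      have hq : PrimeSpectrum.comap (algebraMap A (Localization.Away π)) q ∈ U ∪ V := by
        rw [hcov, ← hrange]; exact Set.mem_range_self q
      constructor
      · intro h; exact hq.resolve_left h
      · intro h h'; exact Set.disjoint_left.mp hUV h' h
    rw [← isOpen_compl_iff, hc]
    exact hV.preimage hemb.continuous
  obtain ⟨e, he, hUe⟩ := PrimeSpectrum.isClopen_iff.mp hclopen
  obtain ⟨a₀, rfl⟩ := descend_idem' π hT hrad (Localization.Away π) e he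
  have ha₀ : IsNilpotent (a₀ * (1 - a₀)) := by
    have h1 : algebraMap A (Localization.Away π) (a₀ * (1 - a₀)) =
        algebraMap A (Localization.Away π) 0 := by
      rw [map_mul, map_sub, map_one, map_zero]
      exact he.mul_one_sub_self
    obtain ⟨m, hm⟩ := IsLocalization.Away.exists_of_eq π (S := Localization.Away π) h1
    exact hT _ ⟨m, by rw [hm, mul_zero]⟩
  have hchar : ∀ p ∈ (PrimeSpectrum.basicOpen π : Set (PrimeSpectrum A)),
      p ∈ U ↔ a₀ ∉ p.asIdeal := by
    intro p hp
    rw [← hrange] at hp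
    obtain ⟨q, rfl⟩ := hp
    have hq : q ∈ (PrimeSpectrum.comap (algebraMap A (Localization.Away π))) ⁻¹' U ↔
        q ∈ (PrimeSpectrum.basicOpen (algebraMap A (Localization.Away π) a₀) :
          Set (PrimeSpectrum (Localization.Away π))) := by rw [hUe]
    exact hq
  rw [Set.disjoint_left]
  intro x hxU hxV
  by_cases hx : a₀ ∈ x.asIdeal
  · have hx' : (1 - a₀) ∉ x.asIdeal := fun h => x.isPrime.ne_top (by
      rw [Ideal.eq_top_iff_one]
      have := x.asIdeal.add_mem hx h
      simpa using this)
    obtain ⟨p, hp1, hp2⟩ := mem_closure_iff.mp hxU (PrimeSpectrum.basicOpen (1 - a₀))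
      (PrimeSpectrum.basicOpen (1 - a₀)).isOpen hx'
    have hpπ : p ∈ (PrimeSpectrum.basicOpen π : Set (PrimeSpectrum A)) := by
      rw [← hcov]; exact Or.inl hp2
    have h1 := (hchar p hpπ).mp hp2
    have h0 : a₀ * (1 - a₀) ∈ p.asIdeal := by
      obtain ⟨k, hk⟩ := ha₀
      exact p.isPrime.mem_of_pow_mem k (hk ▸ zero_mem _)
    rcases p.isPrime.mem_or_mem h0 with h | h
    · exact h1 h
    · exact hp1 h
  · obtain ⟨p, hp1, hp2⟩ := mem_closure_iff.mp hxV (PrimeSpectrum.basicOpen a₀)
      (PrimeSpectrum.basicOpen a₀).isOpen hx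
    have hpπ : p ∈ (PrimeSpectrum.basicOpen π : Set (PrimeSpectrum A)) := by
      rw [← hcov]; exact Or.inr hp2
    have hpU : p ∉ U := fun h => Set.disjoint_left.mp hUV h hp2
    exact hpU ((hchar p hpπ).mpr hp1)

end Groth.Agent.Helper9.DVRFib
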