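import Mathlib
import Groth.Agent.H11.ZMTSplit

/-!
# Splitting off the finite part of a quasi-finite separated scheme over a complete local ring
(helper9; uses helper11's `ZMTS.exists_idempotent_finite`)
-/

set_option autoImplicit false
universe u
open CategoryTheory CategoryTheory.Limits AlgebraicGeometry TopologicalSpace

namespace Groth.Agent.Helper9.FinSplit

section ring

theorem finite_quotient_of_quasiFinite (A R : Type u) [CommRing A] [CommRing R] [Algebra A R]
    [Algebra.QuasiFinite A R] (m : Ideal A) [m.IsMaximal] :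
    Module.Finite A (R ⧸ m.map (algebraMap A R)) := by
  haveI : Algebra.QuasiFinite A (R ⧸ m.map (algebraMap A R)) := inferInstance
  haveI : Algebra.QuasiFinite (A ⧸ m) (R ⧸ m.map (algebraMap A R)) :=
    Algebra.QuasiFinite.of_restrictScalars A _ _
  letI := Ideal.Quotient.field m
  haveI : Module.Finite (A ⧸ m) (R ⧸ m.map (algebraMap A R)) := Module.Finite.of_quasiFinite
  exact Module.Finite.trans (A ⧸ m) _

theorem exists_idem (A : Type u) [CommRing A] [IsLocalRing A] [IsNoetherianRing A]
    [IsAdicComplete (IsLocalRing.maximalIdeal A) A] (R : Type u) [CommRing R] (φ : A →+* R)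
    (hft : φ.FiniteType) (hqf : φ.QuasiFinite) :
    ∃ e : R, IsIdempotentElem e ∧ (1 - e) ∈ (IsLocalRing.maximalIdeal A).map φ ∧
      ((Ideal.Quotient.mk (Ideal.span {1 - e})).comp φ).Finite := by
  letI := φ.toAlgebra
  haveI : Algebra.FiniteType A R := hft
  haveI : Algebra.QuasiFinite A R := hqf
  have hfin := finite_quotient_of_quasiFinite A R (IsLocalRing.maximalIdeal A)
  obtain ⟨e, he, h1, h2⟩ :=
    Groth.Agent.H11.ZMTS.exists_idempotent_finite (IsLocalRing.maximalIdeal A) hfin
  exact ⟨e, he, h1, RingHom.finite_algebraMap.mpr h2⟩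

theorem finite_of_away {A R S : Type u} [CommRing A] [CommRing R] [CommRing S] (φ : A →+* R)
    (ρ : R →+* S) (e : R) (he : IsIdempotentElem e)
    (hloc : @IsLocalization.Away R _ e S _ ρ.toAlgebra)
    (hfin : ((Ideal.Quotient.mk (Ideal.span {1 - e})).comp φ).Finite) : (ρ.comp φ).Finite := by
  letI := ρ.toAlgebra
  have hsurj : Function.Surjective ρ :=
    IsLocalization.Away.algebraMap_surjective_of_isIdempotentElem e he
  have hρe : ρ e = 1 := by
    have hu : IsUnit (ρ e) := IsLocalization.Away.algebraMap_isUnit e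
    have hid : ρ e * ρ e = ρ e := by rw [← map_mul, he.eq]
    exact hu.mul_left_cancel (by rw [hid, mul_one])
  have h0 : ρ (1 - e) = 0 := by rw [map_sub, map_one, hρe, sub_self]
  let lift : R ⧸ Ideal.span {1 - e} →+* S := Ideal.Quotient.lift _ ρ (by
    intro a ha
    obtain ⟨c, rfl⟩ := Ideal.mem_span_singleton'.mp ha
    rw [map_mul, h0, mul_zero])
  have hl : Function.Surjective lift := Ideal.Quotient.lift_surjective_of_surjective _ _ hsurj
  have : ρ.comp φ = lift.comp ((Ideal.Quotient.mk _).comp φ) := by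
    ext a; simp [lift]
  rw [this]; exact (RingHom.Finite.of_surjective _ hl).comp hfin

end ring

section scheme
variable {X Y : Scheme.{u}} (f : X ⟶ Y)

theorem quasiFinite_appLE [IsAffine Y] (W : X.Opens) (hW : IsAffineOpen W)
    [LocallyQuasiFinite (W.ι ≫ f)] : (f.appLE ⊤ W le_top).hom.QuasiFinite := by
  haveI : IsAffine (W : Scheme.{u}) := hW
  haveI : IsAffine ((⊤ : Y.Opens) : Scheme.{u}) := isAffineOpen_top Y
  haveI : LocallyQuasiFinite (f.resLE ⊤ W le_top ≫ (⊤ : Y.Opens).ι) := by
    rw [Scheme.Hom.resLE_comp_ι]; infer_instance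
  haveI : LocallyQuasiFinite (f.resLE ⊤ W le_top) := LocallyQuasiFinite.of_comp _ (⊤ : Y.Opens).ι
  have := (HasRingHomProperty.iff_of_isAffine (P := @LocallyQuasiFinite)
    (f := f.resLE ⊤ W le_top)).mp inferInstance
  exact (RingHom.QuasiFinite.respectsIso.arrow_mk_iso_iff (arrowResLEAppIso f ⊤ W le_top)).mp this

theorem isFinite_iff_appLE [IsAffine Y] (U : X.Opens) (hU : IsAffineOpen U) :
    IsFinite (U.ι ≫ f) ↔ (f.appLE ⊤ U le_top).hom.Finite := by
  haveI : IsAffine (U : Scheme.{u}) := hU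
  haveI : IsAffine ((⊤ : Y.Opens) : Scheme.{u}) := isAffineOpen_top Y
  haveI : IsIso (⊤ : Y.Opens).ι := by rw [← Scheme.topIso_hom]; infer_instance
  rw [← Scheme.Hom.resLE_comp_ι f (U := ⊤) (V := U) le_top,
    MorphismProperty.cancel_right_of_respectsIso (P := @IsFinite),
    HasAffineProperty.iff_of_isAffine (P := @IsFinite)]
  exact ⟨fun h => (RingHom.finite_respectsIso.arrow_mk_iso_iff
      (arrowResLEAppIso f ⊤ U le_top)).mp h.2,
    fun h => ⟨inferInstance, (RingHom.finite_respectsIso.arrow_mk_iso_iff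
      (arrowResLEAppIso f ⊤ U le_top)).mpr h⟩⟩

end scheme

section core

theorem core (A : Type u) [CommRing A] [IsLocalRing A] [IsNoetherianRing A]
    [IsAdicComplete (IsLocalRing.maximalIdeal A) A] (X : Scheme.{u})
    (f : X ⟶ Spec (CommRingCat.of A)) [LocallyOfFiniteType f] [IsSeparated f]
    (W : X.Opens) (hW : IsAffineOpen W) [LocallyQuasiFinite (W.ι ≫ f)] :
    ∃ U : X.Opens, U ≤ W ∧ IsAffineOpen U ∧ IsFinite (U.ι ≫ f) ∧
      (f.appLE ⊤ U le_top).hom.Finite ∧ IsClosed (U : Set X) ∧
      ∀ y ∈ W, f.base y = IsLocalRing.closedPoint A → y ∈ U := by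
  have hft : (f.appLE ⊤ W le_top).hom.FiniteType :=
    f.finiteType_appLE (isAffineOpen_top _) hW le_top
  have hqf := quasiFinite_appLE f W hW
  have hft' : ((Scheme.ΓSpecIso (CommRingCat.of A)).inv ≫ f.appLE ⊤ W le_top).hom.FiniteType := by
    rw [CommRingCat.hom_comp]
    exact (RingHom.finiteType_respectsIso.cancel_left_isIso _ _).mpr hft
  have hqf' : ((Scheme.ΓSpecIso (CommRingCat.of A)).inv ≫ f.appLE ⊤ W le_top).hom.QuasiFinite := by
    rw [CommRingCat.hom_comp]
    exact (RingHom.QuasiFinite.respectsIso.cancel_left_isIso _ _).mpr hqf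
  obtain ⟨e, he, h1, h2⟩ := exists_idem A Γ(X, W) _ hft' hqf'
  have hUW : X.basicOpen e ≤ W := X.basicOpen_le e
  have hU : IsAffineOpen (X.basicOpen e) := hW.basicOpen e
  have hloc := hW.isLocalization_of_eq_basicOpen e (homOfLE hUW) rfl
  have h3 := finite_of_away _ (X.presheaf.map (homOfLE hUW).op).hom e he hloc h2
  have hfinr : (f.appLE ⊤ (X.basicOpen e) le_top).hom.Finite := by
    rw [← CommRingCat.hom_comp, Category.assoc, Scheme.Hom.appLE_map, CommRingCat.hom_comp] at h3
    exact (RingHom.finite_respectsIso.cancel_left_isIso _ _).mp h3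
  have hfin : IsFinite ((X.basicOpen e).ι ≫ f) := (isFinite_iff_appLE f _ hU).mpr hfinr
  refine ⟨X.basicOpen e, hUW, hU, hfin, hfinr, ?_, ?_⟩
  · haveI : UniversallyClosed ((X.basicOpen e).ι) := UniversallyClosed.of_comp_of_isSeparated _ f
    have := (X.basicOpen e).ι.isClosedMap.isClosed_range
    rwa [Scheme.Opens.range_ι] at this
  · intro y hyW hy
    rw [Scheme.mem_basicOpen _ _ _ hyW]
    by_contra hnu
    have hle : IsLocalRing.maximalIdeal A ≤ Ideal.comap
        ((Scheme.ΓSpecIso (CommRingCat.of A)).inv ≫ f.appLE ⊤ W le_top).hom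
        (Ideal.comap (X.presheaf.germ W y hyW).hom
          (IsLocalRing.maximalIdeal (X.presheaf.stalk y))) := by
      intro a ha
      rw [Ideal.mem_comap, Ideal.mem_comap, IsLocalRing.mem_maximalIdeal, mem_nonunits_iff]
      intro hu
      have hmem : y ∈ X.basicOpen ((f.appLE ⊤ W le_top).hom
          ((Scheme.ΓSpecIso (CommRingCat.of A)).inv.hom a)) :=
        (Scheme.mem_basicOpen _ _ _ hyW).mpr hu
      rw [Scheme.basicOpen_appLE] at hmem
      have h4 : f.base y ∈ (Spec (CommRingCat.of A)).basicOpen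
          ((Scheme.ΓSpecIso (CommRingCat.of A)).inv.hom a) := hmem.2
      rw [basicOpen_eq_of_affine, hy] at h4
      exact h4 ha
    have h5 : (X.presheaf.germ W y hyW).hom (1 - e) ∈
        IsLocalRing.maximalIdeal (X.presheaf.stalk y) :=
      (Ideal.map_le_iff_le_comap.mpr hle) h1
    have h6 : (X.presheaf.germ W y hyW).hom e ∈
        IsLocalRing.maximalIdeal (X.presheaf.stalk y) := hnu
    have h7 := Ideal.add_mem _ h6 h5
    rw [← map_add, add_sub_cancel, map_one] at h7
    exact (Ideal.ne_top_iff_one _).mp (IsLocalRing.maximalIdeal.isMaximal _).ne_top h7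

end core

end Groth.Agent.Helper9.FinSplit
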