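import Mathlib
import Groth.Agent.Lib.Helper9.FinSplit

/-!
# Unions of opens that are universally closed over the base (helper9)
-/

set_option autoImplicit false
universe u
open CategoryTheory CategoryTheory.Limits AlgebraicGeometry TopologicalSpace

namespace Groth.Agent.Helper9.FinSplit

variable {X Y : Scheme.{u}}

theorem universallyClosed_iSup {ι : Type*} (f : X ⟶ Y) (Ux : ι → X.Opens)
    (hfin : ∀ i, UniversallyClosed ((Ux i).ι ≫ f)) [QuasiCompact ((⨆ i, Ux i).ι ≫ f)] :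
    UniversallyClosed ((⨆ i, Ux i).ι ≫ f) := by
  apply UniversallyClosed.of_valuativeCriterion
  intro S
  let pt : Spec (.of S.K) := IsLocalRing.closedPoint S.K
  obtain ⟨i, hi⟩ : ∃ i, (S.i₁ pt).1 ∈ Ux i := by
    have h0 : (S.i₁ pt).1 ∈ (⨆ i, Ux i : X.Opens) := (S.i₁ pt).2
    exact Opens.mem_iSup.mp h0
  have hrange : Set.range S.i₁ ⊆ Set.range (X.homOfLE (le_iSup Ux i)) := by
    rintro _ ⟨z, rfl⟩
    have hz : z = pt := Subsingleton.elim _ _
    rw [hz]
    exact ⟨⟨(S.i₁ pt).1, hi⟩, Subtype.ext (Scheme.homOfLE_apply _ _)⟩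
  have h₁ : IsOpenImmersion.lift (X.homOfLE (le_iSup Ux i)) S.i₁ hrange ≫
      X.homOfLE (le_iSup Ux i) = S.i₁ := IsOpenImmersion.lift_fac _ _ _
  have hj : X.homOfLE (le_iSup Ux i) ≫ (⨆ i, Ux i).ι = (Ux i).ι := X.homOfLE_ι _
  let S' : ValuativeCommSq ((Ux i).ι ≫ f) :=
    { R := S.R, K := S.K
      i₁ := IsOpenImmersion.lift (X.homOfLE (le_iSup Ux i)) S.i₁ hrange
      i₂ := S.i₂
      commSq := ⟨by
        rw [← hj, Category.assoc, ← Category.assoc
          (IsOpenImmersion.lift (X.homOfLE (le_iSup Ux i)) S.i₁ hrange), h₁]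
        exact S.commSq.w⟩ }
  have hex : ValuativeCriterion.Existence ((Ux i).ι ≫ f) := by
    have h1 := hfin i
    rw [UniversallyClosed.eq_valuativeCriterion] at h1
    exact h1.1
  obtain ⟨⟨l, hl₁, hl₂⟩⟩ := (hex S').exists_lift
  change Spec.map (CommRingCat.ofHom (algebraMap S.R S.K)) ≫ l =
    IsOpenImmersion.lift (X.homOfLE (le_iSup Ux i)) S.i₁ hrange at hl₁
  change l ≫ (Ux i).ι ≫ f = S.i₂ at hl₂
  exact ⟨⟨⟨l ≫ X.homOfLE (le_iSup Ux i), by rw [← Category.assoc, hl₁, h₁],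
    by rw [Category.assoc, ← Category.assoc (X.homOfLE (le_iSup Ux i)), hj]; exact hl₂⟩⟩⟩

end Groth.Agent.Helper9.FinSplit
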