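import Mathlib
import Groth.Agent.Lib.Helper9.FinSplit

/-!
# Isolated points of fibres are quasi-finite points (helper9)
-/

set_option autoImplicit false
universe u
open CategoryTheory CategoryTheory.Limits AlgebraicGeometry TopologicalSpace

namespace Groth.Agent.Helper9.FinSplit

theorem quasiFiniteAt_of_isolated {X Y : Scheme.{u}} (f : X ⟶ Y) [LocallyOfFiniteType f] (x : X)
    (y : Y) (hx : f.base x = y)
    (hisol : IsOpen ((Subtype.val : (f.base ⁻¹' {y}) → X) ⁻¹' {x})) : f.QuasiFiniteAt x := by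
  subst hx
  rw [Scheme.Hom.quasiFiniteAt_iff_isOpen_singleton_asFiber,
    ← (f.fiberHomeo (f.base x)).isOpen_image, Set.image_singleton]
  have h1 : (f.fiberHomeo (f.base x)) (f.asFiber x) = ⟨x, rfl⟩ :=
    Homeomorph.apply_symm_apply _ _
  rw [h1]
  convert hisol using 1
  ext ⟨z, hz⟩
  simp [Subtype.ext_iff]

end Groth.Agent.Helper9.FinSplit
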