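import Mathlib

/-!
# Finite type over ℤ: small ring lemmas (helper9)
-/

set_option autoImplicit false
universe u

namespace Groth.Agent.Helper9.FinZ

theorem int_isJacobsonRing : IsJacobsonRing ℤ := by
  rw [isJacobsonRing_iff_prime_eq]
  intro P hP
  by_cases h : P = ⊥
  · subst h
    apply le_antisymm _ Ideal.le_jacobson
    intro x hx
    rw [Ideal.mem_bot]
    by_contra hx0
    obtain ⟨p, hp, hpx⟩ := Nat.exists_infinite_primes (x.natAbs + 1)
    have hmax : (Ideal.span {(p : ℤ)}).IsMaximal := by
      apply PrincipalIdealRing.isMaximal_of_irreducible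
      exact (Nat.prime_iff_prime_int.mp hpx).irreducible
    have := Ideal.mem_sInf.mp hx (I := Ideal.span {(p : ℤ)}) ⟨bot_le, hmax⟩
    rw [Ideal.mem_span_singleton] at this
    have h2 := Int.natAbs_dvd_natAbs.mpr this
    simp at h2
    have := Nat.le_of_dvd (Int.natAbs_pos.mpr hx0) h2
    omega
  · have : P.IsMaximal := IsPrime.to_maximal_ideal h
    exact Ideal.jacobson_eq_self_of_isMaximal

theorem ulift_isJacobsonRing : IsJacobsonRing (ULift.{u} ℤ) := by
  haveI := int_isJacobsonRing
  exact isJacobsonRing_of_surjective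
    ⟨(ULift.ringEquiv.symm : ℤ ≃+* ULift.{u} ℤ).toRingHom, ULift.ringEquiv.symm.surjective⟩

lemma intCast_surjective_of_equiv {R : Type*} [Ring R] (e : R ≃+* ℤ) :
    Function.Surjective (Int.castRingHom R) := by
  intro r
  refine ⟨e r, e.injective ?_⟩
  show e ((e r : ℤ) : R) = e r
  rw [map_intCast, Int.cast_id]

lemma finite_of_moduleFinite_int (K : Type*) [Field K] [Module.Finite ℤ K] : Finite K := by
  obtain ⟨p, hp⟩ := CharP.exists K
  rcases Nat.eq_zero_or_pos p with rfl | hpos
  · exfalso
    haveI : CharZero K := CharP.charP_to_charZero K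
    have hinj : Function.Injective (algebraMap ℤ K) := (algebraMap ℤ K).injective_int
    haveI : Algebra.IsIntegral ℤ K := Algebra.IsIntegral.of_finite ℤ K
    exact Int.not_isField (isField_of_isIntegral_of_isField hinj (Field.toIsField K))
  · haveI : Fact p.Prime := ⟨(CharP.char_is_prime_or_zero K p).resolve_right hpos.ne'⟩
    letI := ZMod.algebra K p
    haveI : Module.Finite (ZMod p) K := Module.Finite.of_restrictScalars_finite ℤ (ZMod p) K
    exact Module.finite_of_finite (ZMod p)

lemma finite_ringHom_of_finiteType (B F : Type*) [CommRing B] [CommRing F]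
    [Algebra.FiniteType ℤ B] [Finite F] : Finite (B →+* F) := by
  obtain ⟨s, hs⟩ := (Algebra.FiniteType.out : (⊤ : Subalgebra ℤ B).FG)
  let Φ : (B →+* F) → (s → F) := fun ψ x => ψ x.1
  have hΦ : Function.Injective Φ := by
    intro ψ₁ ψ₂ h
    have h' : ψ₁.toIntAlgHom = ψ₂.toIntAlgHom := by
      apply AlgHom.ext_of_adjoin_eq_top hs
      intro x hx
      exact congrFun h ⟨x, hx⟩
    exact RingHom.ext fun b => AlgHom.congr_fun h' b
  exact Finite.of_injective Φ hΦ

end Groth.Agent.Helper9.FinZ
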