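import Mathlib

/-!
A module which is a "directed union/colimit" of flat modules is flat.
-/

set_option autoImplicit false
universe u v w

open TensorProduct

namespace Groth.Agent.Helper9

/-- The canonical map `I ⊗ M → M`. -/
noncomputable abbrev idealTensorTo {R : Type u} [CommRing R] (I : Ideal R) (M : Type v)
    [AddCommGroup M] [Module R M] : I ⊗[R] M →ₗ[R] M :=
  TensorProduct.lift ((LinearMap.lsmul R M).comp I.subtype)

theorem idealTensorTo_naturality {R : Type u} [CommRing R] (I : Ideal R) {M : Type v}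
    {N : Type w} [AddCommGroup M] [Module R M] [AddCommGroup N] [Module R N] (h : M →ₗ[R] N) :
    h ∘ₗ idealTensorTo I M = idealTensorTo I N ∘ₗ h.lTensor I := by
  apply TensorProduct.ext'
  intro a m
  simp [idealTensorTo]

/-- A module that is a directed colimit of flat modules is flat. -/
theorem Module.Flat.of_directed_system {R : Type u} [CommRing R] {M : Type v} [AddCommGroup M]
    [Module R M] {J : Type w} (N : J → Type v) [∀ j, AddCommGroup (N j)] [∀ j, Module R (N j)]
    [∀ j, Module.Flat R (N j)] (f : ∀ j, N j →ₗ[R] M)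
    (hsurj : ∀ m : M, ∃ j n, f j n = m)
    (hdir : ∀ j j', ∃ (k : J) (g : N j →ₗ[R] N k) (g' : N j' →ₗ[R] N k),
      f k ∘ₗ g = f j ∧ f k ∘ₗ g' = f j')
    (hzero : ∀ j (x : N j), f j x = 0 → ∃ (k : J) (g : N j →ₗ[R] N k), f k ∘ₗ g = f j ∧ g x = 0) :
    Module.Flat R M := by
  rw [Module.Flat.iff_lift_lsmul_comp_subtype_injective]
  intro I hI
  rw [injective_iff_map_eq_zero]
  intro z hz
  have key : ∀ z : I ⊗[R] M, ∃ (j : J) (w : I ⊗[R] N j), (f j).lTensor I w = z := by
    intro z
    induction z using TensorProduct.induction_on with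
    | zero =>
      obtain ⟨j, -, -⟩ := hsurj 0
      exact ⟨j, 0, map_zero _⟩
    | tmul a m =>
      obtain ⟨j, n, rfl⟩ := hsurj m
      exact ⟨j, a ⊗ₜ n, by simp⟩
    | add z₁ z₂ h₁ h₂ =>
      obtain ⟨j₁, w₁, rfl⟩ := h₁
      obtain ⟨j₂, w₂, rfl⟩ := h₂
      obtain ⟨k, g, g', hg, hg'⟩ := hdir j₁ j₂
      refine ⟨k, g.lTensor I w₁ + g'.lTensor I w₂, ?_⟩
      rw [map_add, ← LinearMap.comp_apply, ← LinearMap.lTensor_comp, hg, ← LinearMap.comp_apply,
        ← LinearMap.lTensor_comp, hg']
  obtain ⟨j, w, rfl⟩ := key z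
  have hy : f j (idealTensorTo I (N j) w) = 0 := by
    have := congrArg (fun φ => φ w) (idealTensorTo_naturality I (f j))
    simp only [LinearMap.comp_apply] at this
    rw [this]
    exact hz
  obtain ⟨k, g, hg, hgy⟩ := hzero j _ hy
  have hw' : g.lTensor I w = 0 := by
    have hinj : Function.Injective (idealTensorTo I (N k)) :=
      (Module.Flat.iff_lift_lsmul_comp_subtype_injective.1 inferInstance) hI
    apply hinj
    rw [map_zero]
    have := congrArg (fun φ => φ w) (idealTensorTo_naturality I g)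
    simp only [LinearMap.comp_apply] at this
    rw [← this]
    exact hgy
  rw [← hg, LinearMap.lTensor_comp, LinearMap.comp_apply, hw', map_zero]

/-- Ring homomorphism version. -/
theorem RingHom.flat_of_directed_system {R S : Type u} [CommRing R] [CommRing S] (φ : R →+* S)
    {J : Type w} (T : J → Type u) [∀ j, CommRing (T j)] (ψ : ∀ j, R →+* T j)
    (θ : ∀ j, T j →+* S) (hθψ : ∀ j, (θ j).comp (ψ j) = φ) (hflat : ∀ j, (ψ j).Flat)
    (hsurj : ∀ s : S, ∃ j t, θ j t = s)
    (hdir : ∀ j j', ∃ (k : J) (g : T j →+* T k) (g' : T j' →+* T k),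
      (θ k).comp g = θ j ∧ (θ k).comp g' = θ j' ∧ g.comp (ψ j) = ψ k ∧ g'.comp (ψ j') = ψ k)
    (hzero : ∀ j (x : T j), θ j x = 0 → ∃ (k : J) (g : T j →+* T k),
      (θ k).comp g = θ j ∧ g.comp (ψ j) = ψ k ∧ g x = 0) : φ.Flat := by
  let _ := φ.toAlgebra
  let _ : ∀ j, Algebra R (T j) := fun j => (ψ j).toAlgebra
  have hF : ∀ j, Module.Flat R (T j) := fun j => hflat j
  -- linear maps
  let toLin : ∀ {j k : J} (g : T j →+* T k), g.comp (ψ j) = ψ k → (T j →ₗ[R] T k) :=
    fun {j k} g hg =>
      { toFun := g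
        map_add' := map_add g
        map_smul' := fun r x => by
          simp only [Algebra.smul_def, RingHom.algebraMap_toAlgebra, map_mul, RingHom.id_apply]
          rw [← hg]; rfl }
  let f : ∀ j, T j →ₗ[R] S := fun j =>
    { toFun := θ j
      map_add' := map_add (θ j)
      map_smul' := fun r x => by
        simp only [Algebra.smul_def, RingHom.algebraMap_toAlgebra, map_mul, RingHom.id_apply]
        rw [← hθψ j]; rfl }
  change Module.Flat R S
  refine Module.Flat.of_directed_system T f hsurj ?_ ?_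
  · intro j j'
    obtain ⟨k, g, g', h1, h2, h3, h4⟩ := hdir j j'
    refine ⟨k, toLin g h3, toLin g' h4, ?_, ?_⟩
    · ext x; exact congrArg (fun h => h x) h1
    · ext x; exact congrArg (fun h => h x) h2
  · intro j x hx
    obtain ⟨k, g, h1, h2, h3⟩ := hzero j x hx
    refine ⟨k, toLin g h2, ?_, h3⟩
    ext y; exact congrArg (fun h => h y) h1

end Groth.Agent.Helper9
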