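import Mathlib
import Groth.Prelude.Def_FrobAlg

/-!
# A finitely presented module over a local ring of characteristic `p` isomorphic to its
Frobenius pull-back is free (helper9)
-/

set_option autoImplicit false

namespace Groth.Agent.Helper9.FrobFree

open IsLocalRing

universe u v

section Alg

variable {R : Type u} [CommRing R] {M : Type v} [AddCommGroup M] [Module R M]

variable (R) in
/-- relations among a finite family -/
def Rel {n : ℕ} (x : Fin n → M) : Submodule R (Fin n → R) :=
  LinearMap.ker (Fintype.linearCombination R x)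

theorem mem_Rel {n : ℕ} (x : Fin n → M) (a : Fin n → R) : a ∈ Rel R x ↔ ∑ i, a i • x i = 0 := by
  rw [Rel, LinearMap.mem_ker, Fintype.linearCombination_apply]

/-- Frobenius power of a module of relations -/
def FrobRel (p : ℕ) {n : ℕ} (K : Submodule R (Fin n → R)) : Submodule R (Fin n → R) :=
  Submodule.span R ((fun a : Fin n → R => fun i => a i ^ p) '' (K : Set (Fin n → R)))

theorem rel_eq_bot [IsLocalRing R] (p : ℕ) (hp : 2 ≤ p) {n : ℕ} (x y : Fin n → M)
    (hx : Submodule.span R (Set.range x) = ⊤) (hy : Submodule.span R (Set.range y) = ⊤)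
    (hK : ∀ a ∈ Rel R x, ∀ i, a i ∈ maximalIdeal R) (hfg : (Rel R x).FG)
    (hy2 : Rel R y ≤ FrobRel p (Rel R x)) : Rel R x = ⊥ := by
  classical
  let I : Ideal R := ⨆ i : Fin n, (Rel R x).map (LinearMap.proj i)
  have hI : ∀ a ∈ Rel R x, ∀ i, a i ∈ I := fun a ha i =>
    Submodule.mem_iSup_of_mem i (Submodule.mem_map_of_mem (f := LinearMap.proj i) ha)
  have hIfg : (I : Submodule R R).FG := Submodule.fg_iSup _ fun i => hfg.map _
  have hU : ∀ j, ∃ c : Fin n → R, ∑ k, c k • x k = y j := fun j =>
    (Submodule.mem_span_range_iff_exists_fun R).mp (hx ▸ Submodule.mem_top)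
  choose U hU using hU
  have hV : ∀ i, ∃ c : Fin n → R, ∑ j, c j • y j = x i := fun i =>
    (Submodule.mem_span_range_iff_exists_fun R).mp (hy ▸ Submodule.mem_top)
  choose V hV using hV
  have hF : ∀ b ∈ FrobRel p (Rel R x), ∀ j, b j ∈ maximalIdeal R * I := by
    intro b hb
    induction hb using Submodule.span_induction with
    | mem b hb =>
      obtain ⟨a, ha, rfl⟩ := hb
      intro j
      have h1 : a j ^ p = a j ^ (p - 1) * a j := by
        rw [← pow_succ]; congr 1; omega
      show a j ^ p ∈ _
      rw [h1]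
      exact Ideal.mul_mem_mul (Ideal.pow_mem_of_mem _ (hK a ha j) _ (by omega)) (hI a ha j)
    | zero => intro j; exact zero_mem _
    | add b c _ _ hb hc => intro j; exact add_mem (hb j) (hc j)
    | smul r b _ hb => intro j; exact Ideal.mul_mem_left _ r (hb j)
  have hW : ∀ i, (fun k => ∑ j, V i j * U j k - if i = k then 1 else 0) ∈ Rel R x := by
    intro i
    rw [mem_Rel]
    have h1 : ∀ j, ∑ k, (V i j * U j k) • x k = V i j • y j := by
      intro j; rw [← hU j, Finset.smul_sum]; simp only [mul_smul]
    calc ∑ k, (∑ j, V i j * U j k - if i = k then 1 else 0) • x k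
        = ∑ k, ∑ j, (V i j * U j k) • x k - ∑ k, (if i = k then (1 : R) else 0) • x k := by
          rw [← Finset.sum_sub_distrib]
          refine Finset.sum_congr rfl fun k _ => ?_
          rw [sub_smul, Finset.sum_smul]
      _ = ∑ j, V i j • y j - x i := by
          rw [Finset.sum_comm, Finset.sum_congr rfl (fun j _ => h1 j)]
          congr 1
          rw [Finset.sum_eq_single i]
          · rw [if_pos rfl, one_smul]
          · intro k _ hk; rw [if_neg (Ne.symm hk), zero_smul]
          · intro h; exact absurd (Finset.mem_univ i) h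
      _ = 0 := by rw [hV i, sub_self]
  have hle : (I : Submodule R R) ≤ maximalIdeal R • (I : Submodule R R) := by
    refine iSup_le fun k => ?_
    rintro _ ⟨a, ha, rfl⟩
    show a k ∈ _
    rw [smul_eq_mul]
    have hb : (fun j => ∑ i, a i * V i j) ∈ Rel R y := by
      rw [mem_Rel]
      have h1 : ∀ i, ∑ j, (a i * V i j) • y j = a i • x i := by
        intro i; rw [← hV i, Finset.smul_sum]; simp only [mul_smul]
      calc ∑ j, (∑ i, a i * V i j) • y j = ∑ j, ∑ i, (a i * V i j) • y j := by
            refine Finset.sum_congr rfl fun j _ => ?_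
            rw [Finset.sum_smul]
        _ = ∑ i, a i • x i := by
            rw [Finset.sum_comm, Finset.sum_congr rfl (fun i _ => h1 i)]
        _ = 0 := (mem_Rel x a).mp ha
    have hb' := hF _ (hy2 hb)
    have hak : a k = ∑ j, (∑ i, a i * V i j) * U j k
        - ∑ i, a i * (∑ j, V i j * U j k - if i = k then 1 else 0) := by
      have h1 : ∑ j, (∑ i, a i * V i j) * U j k = ∑ i, a i * ∑ j, V i j * U j k := by
        simp only [Finset.sum_mul, Finset.mul_sum]
        rw [Finset.sum_comm]
        refine Finset.sum_congr rfl fun i _ => Finset.sum_congr rfl fun j _ => by ring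
      have h2 : ∑ i, a i * (∑ j, V i j * U j k - if i = k then 1 else 0)
          = ∑ i, a i * ∑ j, V i j * U j k - a k := by
        simp only [mul_sub, Finset.sum_sub_distrib]
        congr 1
        rw [Finset.sum_eq_single k]
        · rw [if_pos rfl, mul_one]
        · intro i _ hi; rw [if_neg hi, mul_zero]
        · intro h; exact absurd (Finset.mem_univ k) h
      rw [h1, h2]; ring
    rw [hak]
    refine sub_mem (sum_mem fun j _ => Ideal.mul_mem_right _ _ (hb' j)) (sum_mem fun i _ => ?_)
    exact Ideal.mul_mem_mul (hK a ha i) (hI _ (hW i) k)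
  have hI0 : (I : Submodule R R) = ⊥ :=
    Submodule.eq_bot_of_le_smul_of_le_jacobson_bot (maximalIdeal R) I hIfg hle
      (IsLocalRing.maximalIdeal_le_jacobson _)
  rw [Submodule.eq_bot_iff]
  intro a ha
  funext i
  have h1 : a i ∈ (I : Submodule R R) := hI a ha i
  rw [hI0] at h1
  exact (Submodule.mem_bot R).mp h1

theorem span_succAbove {m : ℕ} (x : Fin (m + 1) → M) (a : Fin (m + 1) → R) (i : Fin (m + 1))
    (hu : IsUnit (a i)) (ha : ∑ j, a j • x j = 0)
    (hx : Submodule.span R (Set.range x) = ⊤) :
    Submodule.span R (Set.range (x ∘ i.succAbove)) = ⊤ := by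
  have hi : x i ∈ Submodule.span R (Set.range (x ∘ i.succAbove)) := by
    rw [Fin.sum_univ_succAbove _ i] at ha
    have h1 : a i • x i = - ∑ j, a (i.succAbove j) • x (i.succAbove j) :=
      eq_neg_of_add_eq_zero_left ha
    have h2 : a i • x i ∈ Submodule.span R (Set.range (x ∘ i.succAbove)) := by
      rw [h1]
      exact neg_mem (sum_mem fun j _ => Submodule.smul_mem _ _ (Submodule.subset_span ⟨j, rfl⟩))
    obtain ⟨u, hu⟩ := hu
    have h3 : x i = (↑u⁻¹ : R) • (a i • x i) := by
      rw [smul_smul, ← hu, Units.inv_mul, one_smul]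
    rw [h3]
    exact Submodule.smul_mem _ _ h2
  rw [eq_top_iff, ← hx, Submodule.span_le]
  rintro _ ⟨j, rfl⟩
  rcases Fin.eq_self_or_eq_succAbove i j with h | ⟨j', h⟩
  · rw [h]; exact hi
  · rw [h]; exact Submodule.subset_span ⟨j', rfl⟩

theorem exists_min_gens [IsLocalRing R] [Module.Finite R M] :
    ∃ (n : ℕ) (x : Fin n → M), Submodule.span R (Set.range x) = ⊤ ∧
      ∀ a ∈ Rel R x, ∀ i, a i ∈ maximalIdeal R := by
  classical
  have hex : ∃ n, ∃ x : Fin n → M, Submodule.span R (Set.range x) = ⊤ :=
    Module.Finite.exists_fin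
  obtain ⟨n, ⟨x, hx⟩, hmin⟩ : ∃ n, (∃ x : Fin n → M, Submodule.span R (Set.range x) = ⊤) ∧
      ∀ m < n, ¬ ∃ x : Fin m → M, Submodule.span R (Set.range x) = ⊤ :=
    ⟨Nat.find hex, Nat.find_spec hex, fun m hm => Nat.find_min hex hm⟩
  refine ⟨n, x, hx, ?_⟩
  intro a ha i
  by_contra hai
  cases n with
  | zero => exact i.elim0
  | succ m =>
    exact hmin m (Nat.lt_succ_self m) ⟨x ∘ i.succAbove,
      span_succAbove x a i (IsLocalRing.notMem_maximalIdeal.mp hai) ((mem_Rel x a).mp ha) hx⟩

end Alg

section Tensor

open TensorProduct FrobAlg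

variable (p : ℕ) [Fact p.Prime] {R : Type u} [CommRing R] [CharP R p]
  {M : Type v} [AddCommGroup M] [Module R M]
  (e : (Twist p R ⊗[R] M) →ₛₗ[((toTwist p R).symm : Twist p R →+* R)] M)

omit [Fact p.Prime] in
theorem smul_twist [Fact p.Prime] (a : R) (t : Twist p R) : a • t = toTwist p R (a ^ p) * t := by
  rw [Algebra.smul_def, algebraMap_twist]

theorem span_y {n : ℕ} (x : Fin n → M) (hx : Submodule.span R (Set.range x) = ⊤)
    (he : Function.Surjective e) :
    Submodule.span R (Set.range fun i => e ((1 : Twist p R) ⊗ₜ[R] x i)) = ⊤ := by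
  rw [eq_top_iff]
  rintro m -
  obtain ⟨z, rfl⟩ := he m
  have key : ∀ m' : M, ∀ t : Twist p R, e (t ⊗ₜ[R] m') ∈
      Submodule.span R (Set.range fun i => e ((1 : Twist p R) ⊗ₜ[R] x i)) := by
    intro m'
    have hm' : m' ∈ Submodule.span R (Set.range x) := hx ▸ Submodule.mem_top
    induction hm' using Submodule.span_induction with
    | mem m' hm' =>
      obtain ⟨i, rfl⟩ := hm'
      intro t
      have h1 : t ⊗ₜ[R] x i = t • ((1 : Twist p R) ⊗ₜ[R] x i) := by
        rw [TensorProduct.smul_tmul', smul_eq_mul, mul_one]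
      rw [h1, map_smulₛₗ]
      exact Submodule.smul_mem _ _ (Submodule.subset_span ⟨i, rfl⟩)
    | zero => intro t; rw [TensorProduct.tmul_zero, map_zero]; exact zero_mem _
    | add a b _ _ ha hb =>
      intro t; rw [TensorProduct.tmul_add, map_add]; exact add_mem (ha t) (hb t)
    | smul r a _ ha =>
      intro t; rw [TensorProduct.tmul_smul, TensorProduct.smul_tmul']; exact ha (r • t)
  induction z using TensorProduct.induction_on with
  | zero => rw [map_zero]; exact zero_mem _
  | tmul t m' => exact key m' t
  | add a b ha hb => rw [map_add]; exact add_mem ha hb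

theorem rel_y_le {n : ℕ} (x : Fin n → M) (hx : Submodule.span R (Set.range x) = ⊤)
    (he : Function.Injective e) :
    Rel R (fun i => e ((1 : Twist p R) ⊗ₜ[R] x i)) ≤ FrobRel p (Rel R x) := by
  classical
  intro b hb
  rw [mem_Rel] at hb
  have hστ : ∀ r : R, ((toTwist p R).symm : Twist p R →+* R) (toTwist p R r) = r :=
    fun r => (toTwist p R).symm_apply_apply r
  have h1 : ∑ i, toTwist p R (b i) ⊗ₜ[R] x i = (0 : Twist p R ⊗[R] M) := by
    apply he
    rw [map_zero, map_sum, ← hb]
    refine Finset.sum_congr rfl fun i _ => ?_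
    have h2 : toTwist p R (b i) ⊗ₜ[R] x i = toTwist p R (b i) • ((1 : Twist p R) ⊗ₜ[R] x i) := by
      rw [TensorProduct.smul_tmul', smul_eq_mul, mul_one]
    rw [h2, map_smulₛₗ, hστ]
  let g : (Fin n → R) →ₗ[R] M := Fintype.linearCombination R x
  have hg : Function.Surjective g := by
    rw [← LinearMap.range_eq_top, Fintype.range_linearCombination, hx]
  have hex : Function.Exact (Rel R x).subtype g := LinearMap.exact_subtype_ker_map g
  have hex' := lTensor_exact (Twist p R) hex hg
  let w : Twist p R ⊗[R] (Fin n → R) := ∑ i, toTwist p R (b i) ⊗ₜ[R] Pi.single i (1 : R)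
  have hw : LinearMap.lTensor (Twist p R) g w = 0 := by
    simp only [w, map_sum, LinearMap.lTensor_tmul]
    rw [← h1]
    refine Finset.sum_congr rfl fun i _ => ?_
    congr 1
    simp only [g, Fintype.linearCombination_apply_single, one_smul]
  obtain ⟨v, hv⟩ := (hex' w).mp hw
  let cj : Fin n → (Twist p R ⊗[R] (Fin n → R)) →ₗ[R] Twist p R := fun j =>
    (TensorProduct.rid R (Twist p R)).toLinearMap ∘ₗ
      LinearMap.lTensor (Twist p R) (LinearMap.proj j)
  have hc : ∀ j t u, cj j (t ⊗ₜ[R] u) = u j • t := by
    intro j t u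
    simp only [cj, LinearMap.coe_comp, Function.comp_apply, LinearMap.lTensor_tmul,
      LinearEquiv.coe_coe, TensorProduct.rid_tmul, LinearMap.proj_apply]
  have hcw : ∀ j, cj j w = toTwist p R (b j) := by
    intro j
    simp only [w, map_sum, hc]
    rw [Finset.sum_eq_single j]
    · rw [Pi.single_eq_same, one_smul]
    · intro i _ hij; rw [Pi.single_eq_of_ne (Ne.symm hij), zero_smul]
    · intro h; exact absurd (Finset.mem_univ j) h
  have key : ∀ v : Twist p R ⊗[R] (Rel R x),
      (fun j => ((toTwist p R).symm : Twist p R →+* R)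
        (cj j (LinearMap.lTensor (Twist p R) (Rel R x).subtype v))) ∈ FrobRel p (Rel R x) := by
    intro v
    induction v using TensorProduct.induction_on with
    | zero =>
      have h0 : (fun j => ((toTwist p R).symm : Twist p R →+* R)
          (cj j (LinearMap.lTensor (Twist p R) (Rel R x).subtype 0))) = 0 := by
        funext j; simp only [map_zero, Pi.zero_apply]
      rw [h0]; exact zero_mem _
    | tmul t a =>
      have h0 : (fun j => ((toTwist p R).symm : Twist p R →+* R)
          (cj j (LinearMap.lTensor (Twist p R) (Rel R x).subtype (t ⊗ₜ[R] a))))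
          = ((toTwist p R).symm : Twist p R →+* R) t • (fun j => (a : Fin n → R) j ^ p) := by
        funext j
        rw [LinearMap.lTensor_tmul, hc, Submodule.subtype_apply, smul_twist, map_mul, hστ,
          Pi.smul_apply, smul_eq_mul, mul_comm]
      rw [h0]
      exact Submodule.smul_mem _ _ (Submodule.subset_span ⟨a, a.2, rfl⟩)
    | add v1 v2 h1 h2 =>
      have h0 : (fun j => ((toTwist p R).symm : Twist p R →+* R)
          (cj j (LinearMap.lTensor (Twist p R) (Rel R x).subtype (v1 + v2))))
          = (fun j => ((toTwist p R).symm : Twist p R →+* R)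
              (cj j (LinearMap.lTensor (Twist p R) (Rel R x).subtype v1)))
            + (fun j => ((toTwist p R).symm : Twist p R →+* R)
              (cj j (LinearMap.lTensor (Twist p R) (Rel R x).subtype v2))) := by
        funext j; simp only [map_add, Pi.add_apply]
      rw [h0]; exact add_mem h1 h2
  have h3 := key v
  rw [hv] at h3
  have h4 : (fun j => ((toTwist p R).symm : Twist p R →+* R) (cj j w)) = b := by
    funext j; rw [hcw j, hστ]
  rw [h4] at h3
  exact h3

theorem free_of_frob [IsLocalRing R] [Module.FinitePresentation R M]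
    (he : Function.Bijective e) : Module.Free R M := by
  haveI : Module.Finite R M := inferInstance
  obtain ⟨n, x, hx, hK⟩ := exists_min_gens (R := R) (M := M)
  have hsurj : Function.Surjective (Fintype.linearCombination R x) := by
    rw [← LinearMap.range_eq_top, Fintype.range_linearCombination, hx]
  have hfg : (Rel R x).FG := Module.FinitePresentation.fg_ker _ hsurj
  have h0 := rel_eq_bot p (Fact.out : p.Prime).two_le x
    (fun i => e ((1 : Twist p R) ⊗ₜ[R] x i)) hx (span_y p e x hx he.2) hK hfg
    (rel_y_le p e x hx he.1)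
  have hli : LinearIndependent R x := by
    rw [Fintype.linearIndependent_iff]
    intro g hg i
    have h1 : g ∈ Rel R x := (mem_Rel x g).mpr hg
    rw [h0] at h1
    exact congrFun ((Submodule.mem_bot R).mp h1) i
  exact Module.Free.of_basis (Module.Basis.mk hli (by rw [hx]))

end Tensor

end Groth.Agent.Helper9.FrobFree
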