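import Mathlib
import Groth.Prelude.Def_Frob
import Groth.Prelude.Def_Flat

/-!
The absolute Frobenius of a scheme is integral, universally injective and a universal
homeomorphism.
-/

set_option autoImplicit false
universe u

open CategoryTheory AlgebraicGeometry Limits

namespace Groth.Agent.Helper9

/-- A morphism which is integral, universally injective and surjective is a universal
homeomorphism. -/
theorem isUnivHomeo_of_integral_of_universallyInjective_of_surjective {X Y : Scheme.{u}}
    (f : X ⟶ Y) [IsIntegralHom f] [UniversallyInjective f] [Surjective f] :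
    FlatMor.IsUnivHomeo f := by
  intro X' Y' i₁ i₂ f' sq
  have h1 : IsIntegralHom f' := MorphismProperty.of_isPullback (P := @IsIntegralHom) sq.flip
    inferInstance
  have h2 : UniversallyInjective f' :=
    MorphismProperty.of_isPullback (P := @UniversallyInjective) sq.flip inferInstance
  have h3 : Surjective f' := MorphismProperty.of_isPullback (P := @Surjective) sq.flip inferInstance
  change IsHomeomorph ⇑f'
  rw [isHomeomorph_iff_continuous_isClosedMap_bijective]
  exact ⟨f'.continuous, f'.isClosedMap, f'.injective, f'.surjective⟩

open FrobSch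

variable (p : ℕ) [Fact p.Prime] (X : Scheme.{u}) [IsCharP X p]

instance isIntegralHom_frob : IsIntegralHom (frob X p) where
  isAffine_preimage U hU := hU
  isIntegral_app U hU := by
    intro s
    let s' : Γ(X, U) := s
    refine ⟨Polynomial.X ^ p - Polynomial.C s',
      Polynomial.monic_X_pow_sub_C _ (Fact.out : p.Prime).ne_zero, ?_⟩
    rw [Polynomial.eval₂_sub, Polynomial.eval₂_pow, Polynomial.eval₂_X, Polynomial.eval₂_C]
    change s ^ p - (frob X p).app U s' = 0
    rw [frob_app]
    exact sub_self _

theorem frob_residueFieldMap_apply (x : X) (z : X.residueField (frob X p x)) :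
    (frob X p).residueFieldMap x z = z ^ p := by
  obtain ⟨t, rfl⟩ := X.residue_surjective x z
  obtain ⟨U, hxU, s, rfl⟩ := X.presheaf.exists_germ_eq (x := x) t
  have h := Scheme.evaluation_naturality_apply (frob X p) (V := U) x hxU s
  refine h.trans ?_
  change X.evaluation U x hxU (s ^ p) = (X.evaluation U x hxU s) ^ p
  rw [map_pow]

theorem charP_residueField (x : X) : CharP (X.residueField x) p := by
  rw [CharP.charP_iff_prime_eq_zero Fact.out]
  have h := congrArg (X.Γevaluation x).hom (IsCharP.natCast_eq_zero (X := X) (p := p))
  simpa using h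

theorem frob_residueFieldMap_isPurelyInseparable (x : X) :
    ((frob X p).residueFieldMap x).hom.IsPurelyInseparable := by
  rw [RingHom.IsPurelyInseparable]
  let _ := ((frob X p).residueFieldMap x).hom.toAlgebra
  have : CharP (X.residueField (frob X p x)) p := charP_residueField p X x
  have : ExpChar (X.residueField (frob X p x)) p := ExpChar.prime Fact.out
  rw [isPurelyInseparable_iff_pow_mem (X.residueField (frob X p x)) p]
  intro z
  refine ⟨1, z, ?_⟩
  rw [pow_one, RingHom.algebraMap_toAlgebra]
  exact frob_residueFieldMap_apply p X x z

instance universallyInjective_frob : UniversallyInjective (frob X p) :=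
  ((tfae_universallyInjective (frob X p)).out 0 2).2
    (And.intro (fun _ _ h => h) (frob_residueFieldMap_isPurelyInseparable p X))

instance surjective_frob : Surjective (frob X p) := ⟨fun x => ⟨x, rfl⟩⟩

theorem isUnivHomeo_frob : FlatMor.IsUnivHomeo (frob X p) :=
  isUnivHomeo_of_integral_of_universallyInjective_of_surjective _

omit [Fact p.Prime] in
/-- If `h ≫ g` is universally injective, so is `h`. -/
theorem universallyInjective_of_comp {X Y Z : Scheme.{u}} (h : X ⟶ Y) (g : Y ⟶ Z)
    [UniversallyInjective (h ≫ g)] : UniversallyInjective h := by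
  have e1 := (tfae_universallyInjective h).out 0 1
  have e2 := (tfae_universallyInjective (h ≫ g)).out 0 1
  rw [e1]
  intro K _ t₁ t₂ ht
  have h2 := e2.1 inferInstance K
  apply h2
  change t₁ ≫ h ≫ g = t₂ ≫ h ≫ g
  rw [← Category.assoc, ← Category.assoc]
  exact congrArg (· ≫ g) ht

section Relative

variable {X} {S : Scheme.{u}} [IsCharP S p] (f : X ⟶ S)

omit [IsCharP X p] in
theorem relFrob_props :
    FlatMor.IsUnivHomeo (relFrob f p) ∧ IsIntegralHom (relFrob f p) ∧
      ∀ x : X, ((relFrob f p).residueFieldMap x).hom.IsPurelyInseparable := by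
  have : IsCharP X p := IsCharP.of_hom f p
  have hcomp : relFrob f p ≫ pullback.fst f (frob S p) = frob X p := relFrob_fst f p
  have h1 : IsIntegralHom (pullback.fst f (frob S p)) := inferInstance
  have h2 : UniversallyInjective (pullback.fst f (frob S p)) :=
    MorphismProperty.pullback_fst (P := @UniversallyInjective) _ _ inferInstance
  have h3 : IsIntegralHom (relFrob f p ≫ pullback.fst f (frob S p)) := by
    rw [hcomp]; infer_instance
  have h4 : UniversallyInjective (relFrob f p ≫ pullback.fst f (frob S p)) := by
    rw [hcomp]; infer_instance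
  have h5 : IsIntegralHom (relFrob f p) := IsIntegralHom.of_comp _ (pullback.fst f (frob S p))
  have h6 : UniversallyInjective (relFrob f p) :=
    universallyInjective_of_comp _ (pullback.fst f (frob S p))
  have h7 : Surjective (relFrob f p) := by
    refine ⟨fun y => ?_⟩
    refine ⟨pullback.fst f (frob S p) y, ?_⟩
    apply (pullback.fst f (frob S p)).injective
    rw [← Scheme.Hom.comp_apply, hcomp]
    rfl
  have e3 := (tfae_universallyInjective (relFrob f p)).out 0 2
  exact ⟨isUnivHomeo_of_integral_of_universallyInjective_of_surjective _, h5, (e3.1 h6).2⟩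

end Relative

end Groth.Agent.Helper9
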