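import Mathlib
import Groth.Agent.Lib.Helper9.GenFin2

/-!
# Generic finiteness, part 3: shrinking the base (helper9)
-/

set_option autoImplicit false
universe u
open CategoryTheory CategoryTheory.Limits AlgebraicGeometry TopologicalSpace

namespace Groth.Agent.Helper9.GenFin

variable {X Y : Scheme.{u}} (f : X ⟶ Y)

theorem exists_open_preimage_le [IsIntegral X] [IsIntegral Y] [QuasiCompact f]
    (hC : ∀ x : X, f.base x = genericPoint Y → x = genericPoint X)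
    (U₁ : X.Opens) (hξ : genericPoint X ∈ U₁) :
    ∃ W : Y.Opens, genericPoint Y ∈ W ∧ f ⁻¹ᵁ W ≤ U₁ := by
  let Z : Closeds X := ⟨(U₁ : Set X)ᶜ, U₁.isOpen.isClosed_compl⟩
  let 𝓘 := Scheme.IdealSheafData.vanishingIdeal Z
  let j : 𝓘.subscheme ⟶ X := 𝓘.subschemeι
  have hrange : Set.range j = (U₁ : Set X)ᶜ := by
    rw [Scheme.IdealSheafData.range_subschemeι, Scheme.IdealSheafData.coe_support_vanishingIdeal]
    rfl
  have hnot : genericPoint Y ∉ closure (Set.range (j ≫ f)) := by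
    intro hmem
    obtain ⟨z, hz⟩ := QcClosure.exists_specializes_of_mem_closure_range (j ≫ f) _ hmem
    have h1 : (j ≫ f) z = genericPoint Y :=
      (hz.antisymm (genericPoint_specializes _)).eq
    have h2 : j z = genericPoint X := hC _ h1
    have h3 : j z ∈ (U₁ : Set X)ᶜ := hrange ▸ ⟨z, rfl⟩
    exact h3 (h2 ▸ hξ)
  refine ⟨⟨(closure (Set.range (j ≫ f)))ᶜ, isClosed_closure.isOpen_compl⟩, hnot, ?_⟩
  intro x hx
  by_contra hxU
  have hxr : x ∈ Set.range j := by rw [hrange]; exact hxU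
  obtain ⟨z, rfl⟩ := hxr
  exact hx (subset_closure ⟨z, rfl⟩)

theorem isFinite_morphismRestrict_of_resLE (U₁ : X.Opens) (V₁ V : Y.Opens) (e : U₁ ≤ f ⁻¹ᵁ V₁)
    (hVV : V ≤ V₁) (hle : f ⁻¹ᵁ V ≤ U₁) [IsFinite (f.resLE V₁ U₁ e)] : IsFinite (f ∣_ V) := by
  have H : IsPullback (𝟙 X) f f (𝟙 Y) := IsPullback.of_horiz_isIso ⟨by simp⟩
  have hUY : f ⁻¹ᵁ V = (𝟙 X) ⁻¹ᵁ U₁ ⊓ f ⁻¹ᵁ V := by
    rw [Scheme.Hom.id_preimage]
    exact (inf_eq_right.mpr hle).symm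
  have P := Scheme.Hom.isPullback_resLE H (US := V₁) (UT := V) (UX := U₁)
    (by rw [Scheme.Hom.id_preimage]; exact hVV) e (UY := f ⁻¹ᵁ V) hUY
  have : IsFinite (f.resLE V (f ⁻¹ᵁ V) le_rfl) :=
    MorphismProperty.of_isPullback (P := @IsFinite) P ‹_›
  rwa [Scheme.Hom.resLE_eq_morphismRestrict] at this

theorem preimage_le_of_isSeparated [IsIntegral X] [IsSeparated f] (U₁ : X.Opens) (V₁ : Y.Opens)
    (e : U₁ ≤ f ⁻¹ᵁ V₁) (hξ : genericPoint X ∈ U₁) [IsFinite (f.resLE V₁ U₁ e)] :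
    f ⁻¹ᵁ V₁ ≤ U₁ := by
  haveI : IsFinite (X.homOfLE e ≫ (f ∣_ V₁)) := ‹IsFinite (f.resLE V₁ U₁ e)›
  haveI : IsFinite (X.homOfLE e) := IsFinite.of_comp (X.homOfLE e) (f ∣_ V₁)
  have hcl : IsClosed (Set.range (X.homOfLE e)) := (X.homOfLE e).isClosedMap.isClosed_range
  intro x hx
  have hspec : (⟨genericPoint X, e hξ⟩ : ↥(f ⁻¹ᵁ V₁)) ⤳ ⟨x, hx⟩ := by
    rw [subtype_specializes_iff]; exact genericPoint_specializes x
  have hmem : (⟨genericPoint X, e hξ⟩ : ↥(f ⁻¹ᵁ V₁)) ∈ Set.range (X.homOfLE e) :=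
    ⟨⟨genericPoint X, hξ⟩, Subtype.ext (Scheme.homOfLE_apply _ _)⟩
  obtain ⟨⟨x', hx'⟩, hxx⟩ := hspec.mem_closed hcl hmem
  have h1 : x' = x := by
    have := congrArg Subtype.val hxx
    rwa [Scheme.homOfLE_apply] at this
  exact h1 ▸ hx'

end Groth.Agent.Helper9.GenFin
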