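import Mathlib
import Groth.Agent.Lib.Helper9.RatExt2

/-!
# Local extension of a rational map at a valuation-ring point, general form (helper9)

`local_ext'` : no reducedness/density of the ambient scheme needed, only an open neighbourhood
`W₀` of the point which is reduced and all of whose points are specializations of the generic point
of `Spec Frac(O_y)`.
-/

set_option autoImplicit false
universe u
open CategoryTheory CategoryTheory.Limits AlgebraicGeometry TopologicalSpace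

namespace Groth.Agent.Helper9.RatExt

lemma jmap_specializes {Y : Scheme.{u}} (y : Y) [IsDomain (Y.presheaf.stalk y)] (η : Y)
    (hη : η ⤳ y) (z : Spec (.of (FractionRing (Y.presheaf.stalk y)))) :
    (Spec.map (CommRingCat.ofHom (algebraMap (Y.presheaf.stalk y)
        (FractionRing (Y.presheaf.stalk y)))) ≫ Y.fromSpecStalk y) z ⤳ η := by
  have hηy : η ∈ Set.range (Y.fromSpecStalk y) := by
    rw [Scheme.range_fromSpecStalk]; exact hη
  obtain ⟨P, rfl⟩ := hηy
  have hzP : (Spec.map (CommRingCat.ofHom (algebraMap (Y.presheaf.stalk y)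
      (FractionRing (Y.presheaf.stalk y))))) z ⤳ P := by
    refine (PrimeSpectrum.le_iff_specializes (R := Y.presheaf.stalk y) _ _).mp ?_
    intro a ha
    have ha' : algebraMap (Y.presheaf.stalk y) (FractionRing (Y.presheaf.stalk y)) a ∈
        z.asIdeal := ha
    have hz0 : z.asIdeal = ⊥ := Ideal.eq_bot_of_prime _
    rw [hz0, Ideal.mem_bot] at ha'
    have : a = 0 := (IsFractionRing.injective (Y.presheaf.stalk y)
      (FractionRing (Y.presheaf.stalk y))) (by rw [ha', map_zero])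
    rw [this]; exact zero_mem _
  rw [Scheme.Hom.comp_apply]
  exact hzP.map (Y.fromSpecStalk y).continuous

/-- Locally Noetherian (or germ-injective) case: an integral affine open neighbourhood. -/
lemma exists_integral_nhd {Y : Scheme.{u}} (y : Y) [Y.IsGermInjectiveAt y]
    [IsDomain (Y.presheaf.stalk y)] :
    ∃ (W₀ : Y.Opens), y ∈ W₀ ∧ IsReduced W₀.toScheme ∧
      ∀ (z : Spec (.of (FractionRing (Y.presheaf.stalk y)))) (t : Y),
      t ∈ W₀ → (Spec.map (CommRingCat.ofHom (algebraMap (Y.presheaf.stalk y)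
        (FractionRing (Y.presheaf.stalk y)))) ≫ Y.fromSpecStalk y) z ⤳ t := by
  obtain ⟨W₀, hyW₀, hW₀, hinj⟩ := Y.exists_germ_injective y
  haveI : IsAffine W₀.toScheme := hW₀
  haveI : Nonempty W₀.toScheme := ⟨⟨y, hyW₀⟩⟩
  haveI hdom : IsDomain Γ(Y, W₀) := hinj.isDomain (Y.presheaf.germ W₀ y hyW₀).hom
  haveI hdom' : IsDomain Γ(W₀.toScheme, ⊤) :=
    Function.Injective.isDomain (W₀.topIso.hom.hom) (W₀.topIso.commRingCatIsoToRingEquiv.injective)
  haveI : IsIntegral W₀.toScheme := isIntegral_of_isAffine_of_isDomain _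
  refine ⟨W₀, hyW₀, inferInstance, ?_⟩
  intro z t ht
  have hη : ∀ t : Y, t ∈ W₀ → W₀.ι (genericPoint W₀.toScheme) ⤳ t := by
    intro t ht
    have h1 : genericPoint W₀.toScheme ⤳ (⟨t, ht⟩ : W₀.toScheme) := genericPoint_specializes _
    exact h1.map W₀.ι.continuous
  exact (jmap_specializes y _ (hη y hyW₀) z).trans (hη t ht)

/-- Reduced with finitely many irreducible components. -/
lemma exists_nhd_of_reduced_finite {X : Scheme.{u}} [IsReduced X]
    (hfin : (irreducibleComponents X).Finite) (x : X) [IsDomain (X.presheaf.stalk x)] :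
    ∃ W₀ : X.Opens, x ∈ W₀ ∧ X.IsGermInjectiveAt x ∧
      ∀ (z : Spec (.of (FractionRing (X.presheaf.stalk x)))) (t : X),
      t ∈ W₀ → (Spec.map (CommRingCat.ofHom (algebraMap (X.presheaf.stalk x)
        (FractionRing (X.presheaf.stalk x)))) ≫ X.fromSpecStalk x) z ⤳ t := by
  classical
  have hfin' : {Z ∈ irreducibleComponents X | x ∉ Z}.Finite := hfin.subset (fun Z hZ => hZ.1)
  have hT : IsClosed (⋃ Z ∈ {Z ∈ irreducibleComponents X | x ∉ Z}, Z) :=
    hfin'.isClosed_biUnion (fun Z hZ => isClosed_of_mem_irreducibleComponents Z hZ.1)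
  let W₀ : X.Opens := ⟨(⋃ Z ∈ {Z ∈ irreducibleComponents X | x ∉ Z}, Z)ᶜ, hT.isOpen_compl⟩
  have hxW₀ : x ∈ W₀ := by
    intro hx
    simp only [Set.mem_iUnion, exists_prop] at hx
    obtain ⟨Z, ⟨-, hxZ⟩, hx⟩ := hx
    exact hxZ hx
  have hstar : ∀ (z : Spec (.of (FractionRing (X.presheaf.stalk x)))) (t : X),
      t ∈ W₀ → (Spec.map (CommRingCat.ofHom (algebraMap (X.presheaf.stalk x)
        (FractionRing (X.presheaf.stalk x)))) ≫ X.fromSpecStalk x) z ⤳ t := by
    intro z t ht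
    have hxt : x ∈ irreducibleComponent t := by
      by_contra hcon
      refine ht ?_
      simp only [Set.mem_iUnion, exists_prop]
      exact ⟨irreducibleComponent t, ⟨irreducibleComponent_mem_irreducibleComponents t, hcon⟩,
        mem_irreducibleComponent⟩
    have hirr : IsIrreducible (irreducibleComponent t) := isIrreducible_irreducibleComponent
    have hgen := hirr.isGenericPoint_genericPoint isClosed_irreducibleComponent
    have hηx : hirr.genericPoint ⤳ x := specializes_iff_mem_closure.mpr (hgen.def.symm ▸ hxt)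
    have hηt : hirr.genericPoint ⤳ t :=
      specializes_iff_mem_closure.mpr (hgen.def.symm ▸ mem_irreducibleComponent)
    exact (jmap_specializes x _ hηx z).trans hηt
  refine ⟨W₀, hxW₀, ?_, hstar⟩
  obtain ⟨A, hA, hxA, hAW₀⟩ : ∃ A : X.Opens, IsAffineOpen A ∧ x ∈ A ∧ (A : Set X) ⊆ W₀ := by
    obtain ⟨_, ⟨A, hA, rfl⟩, hxA, hAW₀⟩ :=
      X.isBasis_affineOpens.exists_subset_of_mem_open hxW₀ W₀.isOpen
    exact ⟨A, hA, hxA, hAW₀⟩
  haveI : IsAffine A.toScheme := hA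
  obtain ⟨z₁⟩ : Nonempty (Spec (.of (FractionRing (X.presheaf.stalk x)))) := inferInstance
  have hζA : (Spec.map (CommRingCat.ofHom (algebraMap (X.presheaf.stalk x)
        (FractionRing (X.presheaf.stalk x)))) ≫ X.fromSpecStalk x) z₁ ∈ A :=
    (hstar z₁ x hxW₀).mem_open A.isOpen hxA
  haveI : IrreducibleSpace A.toScheme := by
    have hcl : closure ({⟨_, hζA⟩} : Set A.toScheme) = Set.univ := by
      rw [Set.eq_univ_iff_forall]; intro t
      have h1 := hstar z₁ t.1 (hAW₀ t.2)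
      have h2 : (⟨_, hζA⟩ : A.toScheme) ⤳ t :=
        A.ι.isOpenEmbedding.isInducing.specializes_iff.mp h1
      exact h2.mem_closure
    exact { isPreirreducible_univ := by
              rw [← hcl]; exact (isIrreducible_singleton.closure).isPreirreducible
            toNonempty := ⟨⟨x, hxA⟩⟩ }
  haveI : IsIntegral A.toScheme := isIntegral_of_irreducibleSpace_of_isReduced _
  have hgi : X.IsGermInjectiveAt (A.ι ⟨x, hxA⟩) := inferInstance
  exact hgi

set_option backward.isDefEq.respectTransparency.types false in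
theorem local_ext' {S X Y : Scheme.{u}} (p : X ⟶ S) [IsProper p] (q : Y ⟶ S)
    (V : Y.Opens) (g : V.toScheme ⟶ X) (hg : g ≫ p = V.ι ≫ q)
    (y : Y) (hyV : y ∈ closure (V : Set Y))
    [Y.IsGermInjectiveAt y] [hd : IsDomain (Y.presheaf.stalk y)]
    [hv : ValuationRing (Y.presheaf.stalk y)]
    (W₀ : Y.Opens) (hyW₀ : y ∈ W₀) [IsReduced W₀.toScheme]
    (hstar : ∀ (z : Spec (.of (FractionRing (Y.presheaf.stalk y)))) (t : Y),
      t ∈ W₀ → (Spec.map (CommRingCat.ofHom (algebraMap (Y.presheaf.stalk y)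
        (FractionRing (Y.presheaf.stalk y)))) ≫ Y.fromSpecStalk y) z ⤳ t) :
    ∃ (W : Y.Opens) (_ : y ∈ W) (f : W.toScheme ⟶ X), f ≫ p = W.ι ≫ q ∧ Agrees V g W f := by
  obtain ⟨z₀, hz₀W₀, hz₀V⟩ := mem_closure_iff.mp hyV W₀ W₀.isOpen hyW₀
  set j : Spec (.of (FractionRing (Y.presheaf.stalk y))) ⟶ Y := Spec.map (CommRingCat.ofHom (algebraMap (Y.presheaf.stalk y) (FractionRing (Y.presheaf.stalk y)))) ≫ Y.fromSpecStalk y
    with hj
  have hjV : Set.range j ⊆ Set.range V.ι := by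
    rw [Scheme.Opens.range_ι]; rintro _ ⟨z, rfl⟩
    exact (hstar z z₀ hz₀W₀).mem_open V.isOpen hz₀V
  set j' : Spec (.of (FractionRing (Y.presheaf.stalk y))) ⟶ V.toScheme := IsOpenImmersion.lift V.ι j hjV with hj'def
  have hj' : j' ≫ V.ι = j := IsOpenImmersion.lift_fac _ _ _
  let sq : ValuativeCommSq p :=
    { R := Y.presheaf.stalk y, domain := hd, valuationRing := hv, K := FractionRing (Y.presheaf.stalk y), i₁ := j' ≫ g, i₂ := Y.fromSpecStalk y ≫ q
      commSq := ⟨by rw [Category.assoc, hg, ← Category.assoc, hj', hj, Category.assoc]⟩ }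
  have hex : ValuativeCriterion.Existence p := by
    have h1 : UniversallyClosed p := inferInstance
    rw [UniversallyClosed.eq_valuativeCriterion] at h1
    exact h1.1
  obtain ⟨⟨l, hl₁, hl₂⟩⟩ := (hex sq).exists_lift
  change Spec.map (CommRingCat.ofHom (algebraMap (Y.presheaf.stalk y) (FractionRing (Y.presheaf.stalk y)))) ≫ l = j' ≫ g at hl₁
  change l ≫ p = Y.fromSpecStalk y ≫ q at hl₂
  obtain ⟨W₁, hyW₁, f₁, hf₁, hf₁p⟩ := spread_out_of_isGermInjective' q p (x := y) l hl₂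
  refine ⟨W₁ ⊓ W₀, ⟨hyW₁, hyW₀⟩, Y.homOfLE inf_le_left ≫ f₁, ?_, ?_⟩
  · rw [Category.assoc, hf₁p, Scheme.homOfLE_ι_assoc]
  · -- agreement
    have hzK : Nonempty (Spec (.of (FractionRing (Y.presheaf.stalk y)))) := inferInstance
    obtain ⟨z₁⟩ := hzK
    have hjT : Set.range j ⊆ Set.range (W₁ ⊓ W₀ ⊓ V).ι := by
      rw [Scheme.Opens.range_ι]; rintro _ ⟨z, rfl⟩
      refine ⟨?_, hjV.trans (by rw [Scheme.Opens.range_ι]) ⟨z, rfl⟩⟩
      exact (hstar z y hyW₀).mem_open (W₁ ⊓ W₀).isOpen ⟨hyW₁, hyW₀⟩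
    set ι : Spec (.of (FractionRing (Y.presheaf.stalk y))) ⟶ (W₁ ⊓ W₀ ⊓ V).toScheme := IsOpenImmersion.lift (W₁ ⊓ W₀ ⊓ V).ι j hjT
      with hιdef
    have hι : ι ≫ (W₁ ⊓ W₀ ⊓ V).ι = j := IsOpenImmersion.lift_fac _ _ _
    haveI : IsDominant ι := by
      constructor
      intro t
      have h1 : (W₁ ⊓ W₀ ⊓ V).ι (ι z₁) ⤳ (W₁ ⊓ W₀ ⊓ V).ι t := by
        rw [← Scheme.Hom.comp_apply, hι]
        exact hstar z₁ _ t.2.1.2
      have h2 : ι z₁ ⤳ t :=
        (W₁ ⊓ W₀ ⊓ V).ι.isOpenEmbedding.isInducing.specializes_iff.mp h1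
      exact closure_mono (Set.singleton_subset_iff.mpr (Set.mem_range_self z₁)) h2.mem_closure
    haveI : IsReduced (W₁ ⊓ W₀ ⊓ V).toScheme :=
      isReduced_of_isOpenImmersion (Y.homOfLE (inf_le_left.trans inf_le_right :
        W₁ ⊓ W₀ ⊓ V ≤ W₀))
    unfold Agrees
    refine ext_of_isDominant_of_isSeparated p ?_ ι ?_
    · simp only [Category.assoc, hf₁p, hg, Scheme.homOfLE_ι_assoc]
    · have e₁ : ι ≫ Y.homOfLE (inf_le_right : W₁ ⊓ W₀ ⊓ V ≤ V) = j' := by
        rw [← cancel_mono V.ι, Category.assoc, Y.homOfLE_ι, hι, hj']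
      have e₂ : ι ≫ Y.homOfLE (inf_le_left : W₁ ⊓ W₀ ⊓ V ≤ W₁ ⊓ W₀) ≫
          Y.homOfLE (inf_le_left : W₁ ⊓ W₀ ≤ W₁) =
          Spec.map (CommRingCat.ofHom (algebraMap (Y.presheaf.stalk y) (FractionRing (Y.presheaf.stalk y)))) ≫ W₁.fromSpecStalkOfMem y hyW₁ := by
        rw [← cancel_mono W₁.ι, Category.assoc, Category.assoc, Y.homOfLE_ι, Y.homOfLE_ι, hι,
          Category.assoc, Scheme.Opens.fromSpecStalkOfMem_ι]
      rw [← Category.assoc, ← Category.assoc, Category.assoc ι, e₂, ← Category.assoc ι, e₁,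
        Category.assoc, ← hf₁, hl₁]

lemma glue2 {S X Y : Scheme.{u}} (p : X ⟶ S) (q : Y ⟶ S) (V W : Y.Opens)
    (g : V.toScheme ⟶ X) (f : W.toScheme ⟶ X) (hg : g ≫ p = V.ι ≫ q) (hf : f ≫ p = W.ι ≫ q)
    (h : Agrees V g W f) :
    ∃ (U : Y.Opens) (hVU : V ≤ U) (hWU : W ≤ U) (F : U.toScheme ⟶ X), F ≫ p = U.ι ≫ q ∧
      Y.homOfLE hVU ≫ F = g ∧ Y.homOfLE hWU ≫ F = f := by
  let W' : ULift.{u} Bool → Y.Opens := fun i => bif i.down then W else V
  let f' : ∀ i, (W' i).toScheme ⟶ X := fun i =>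
    match i with
    | ⟨true⟩ => f
    | ⟨false⟩ => g
  have hp : ∀ i, f' i ≫ p = (W' i).ι ≫ q := by
    rintro ⟨_ | _⟩
    exacts [hg, hf]
  have hc : ∀ i j, Y.homOfLE (inf_le_left : W' i ⊓ W' j ≤ W' i) ≫ f' i =
      Y.homOfLE (inf_le_right : W' i ⊓ W' j ≤ W' j) ≫ f' j := by
    rintro ⟨_ | _⟩ ⟨_ | _⟩
    · rfl
    · change Y.homOfLE (inf_le_left : V ⊓ W ≤ V) ≫ g = Y.homOfLE (inf_le_right : V ⊓ W ≤ W) ≫ f
      have e1 : Y.homOfLE (inf_le_left : V ⊓ W ≤ V) =
          Y.homOfLE (le_inf inf_le_right inf_le_left : V ⊓ W ≤ W ⊓ V) ≫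
            Y.homOfLE (inf_le_right : W ⊓ V ≤ V) := by rw [Scheme.homOfLE_homOfLE]
      have e2 : Y.homOfLE (inf_le_right : V ⊓ W ≤ W) =
          Y.homOfLE (le_inf inf_le_right inf_le_left : V ⊓ W ≤ W ⊓ V) ≫
            Y.homOfLE (inf_le_left : W ⊓ V ≤ W) := by rw [Scheme.homOfLE_homOfLE]
      rw [e1, e2, Category.assoc, Category.assoc]
      congr 1
      exact h.symm
    · exact h
    · rfl
  obtain ⟨F, hF, hFp⟩ := glue p q W' f' hp hc
  exact ⟨⨆ i, W' i, le_iSup W' ⟨false⟩, le_iSup W' ⟨true⟩, F, hFp, hF ⟨false⟩, hF ⟨true⟩⟩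

end Groth.Agent.Helper9.RatExt
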