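import Mathlib
import Groth.Agent.Lib.Helper9.RatExt3

/-!
# Extension of rational maps: version with an abstract lifting hypothesis (helper9)

* `lift_of_specializes`: a valuation-ring stalk `O_{Y,y}`, a `K`-point of `X` over the generic point
  and a specialization `x` of it over `y` give a lift `Spec O_{Y,y} ⟶ X`.
* `local_ext_of_lift`, `global_of_local`.
-/

set_option autoImplicit false
universe u
open CategoryTheory CategoryTheory.Limits AlgebraicGeometry TopologicalSpace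

namespace Groth.Agent.Helper9.RatExt

set_option backward.isDefEq.respectTransparency false in
lemma lift_of_specializes {X Y : Scheme.{u}} (f : X ⟶ Y) (y : Y)
    [hd : IsDomain (Y.presheaf.stalk y)] [hv : ValuationRing (Y.presheaf.stalk y)]
    (K : Type u) [Field K] [Algebra (Y.presheaf.stalk y) K]
    [IsFractionRing (Y.presheaf.stalk y) K]
    (i₁ : Spec (.of K) ⟶ X)
    (w : i₁ ≫ f = Spec.map (CommRingCat.ofHom (algebraMap (Y.presheaf.stalk y) K)) ≫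
      Y.fromSpecStalk y)
    (x : X) (h₁ : i₁ (IsLocalRing.closedPoint K) ⤳ x) (h₂ : f x = y) :
    ∃ l : Spec (Y.presheaf.stalk y) ⟶ X,
      Spec.map (CommRingCat.ofHom (algebraMap (Y.presheaf.stalk y) K)) ≫ l = i₁ ∧
      l ≫ f = Y.fromSpecStalk y := by
  subst h₂
  let α : Y.presheaf.stalk (f x) ⟶ X.presheaf.stalk x := f.stalkMap x
  have hα : IsLocalHom α.hom := inferInstanceAs (IsLocalHom (f.stalkMap x).hom)
  let β : X.presheaf.stalk x ⟶ .of K :=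
    X.presheaf.stalkSpecializes h₁ ≫ Scheme.stalkClosedPointTo i₁
  have hαβ : α ≫ β = CommRingCat.ofHom (algebraMap (Y.presheaf.stalk (f x)) K) := by
    apply Spec.map_injective
    rw [← cancel_mono (Y.fromSpecStalk (f x))]
    simp only [α, β, Spec.map_comp, Category.assoc, Scheme.SpecMap_stalkMap_fromSpecStalk,
      Scheme.SpecMap_stalkSpecializes_fromSpecStalk_assoc]
    rw [Scheme.Spec_stalkClosedPointTo_fromSpecStalk_assoc]
    exact w
  have hbij := (bijective_rangeRestrict_comp_of_valuationRing (R := Y.presheaf.stalk (f x))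
    (K := K) α.hom β.hom (CommRingCat.hom_ext_iff.mp hαβ))
  let φ : X.presheaf.stalk x ⟶ Y.presheaf.stalk (f x) := CommRingCat.ofHom <|
    (RingEquiv.ofBijective _ hbij).symm.toRingHom.comp β.hom.rangeRestrict
  have hαφ : α ≫ φ = 𝟙 _ := by ext a; exact (RingEquiv.ofBijective _ hbij).symm_apply_apply a
  have hφβ : φ ≫ CommRingCat.ofHom (algebraMap (Y.presheaf.stalk (f x)) K) = β :=
    hαβ ▸ CommRingCat.hom_ext (RingHom.ext fun a ↦ congr_arg Subtype.val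
      ((RingEquiv.ofBijective _ hbij).apply_symm_apply (β.hom.rangeRestrict a)))
  refine ⟨Spec.map φ ≫ X.fromSpecStalk x, ?_, ?_⟩
  · rw [← Spec.map_comp_assoc, hφβ]
    simp only [β, Spec.map_comp, Category.assoc, Scheme.SpecMap_stalkSpecializes_fromSpecStalk]
    exact Scheme.Spec_stalkClosedPointTo_fromSpecStalk i₁
  · rw [Category.assoc, ← Scheme.SpecMap_stalkMap_fromSpecStalk, ← Spec.map_comp_assoc]
    change Spec.map (α ≫ φ) ≫ _ = _
    rw [hαφ, Spec.map_id, Category.id_comp]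

set_option backward.isDefEq.respectTransparency.types false in
theorem local_ext_of_lift {S X Y : Scheme.{u}} (p : X ⟶ S) [IsSeparated p]
    [LocallyOfFiniteType p] (q : Y ⟶ S)
    (V : Y.Opens) (g : V.toScheme ⟶ X) (hg : g ≫ p = V.ι ≫ q)
    (y : Y) (hyV : y ∈ closure (V : Set Y))
    [Y.IsGermInjectiveAt y] [hd : IsDomain (Y.presheaf.stalk y)]
    (W₀ : Y.Opens) (hyW₀ : y ∈ W₀) [IsReduced W₀.toScheme]
    (hstar : ∀ (z : Spec (.of (FractionRing (Y.presheaf.stalk y)))) (t : Y),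
      t ∈ W₀ → (Spec.map (CommRingCat.ofHom (algebraMap (Y.presheaf.stalk y)
        (FractionRing (Y.presheaf.stalk y)))) ≫ Y.fromSpecStalk y) z ⤳ t)
    (hlift : ∀ j' : Spec (.of (FractionRing (Y.presheaf.stalk y))) ⟶ V.toScheme,
      j' ≫ V.ι = Spec.map (CommRingCat.ofHom (algebraMap (Y.presheaf.stalk y)
        (FractionRing (Y.presheaf.stalk y)))) ≫ Y.fromSpecStalk y →
      ∃ l : Spec (Y.presheaf.stalk y) ⟶ X,
        Spec.map (CommRingCat.ofHom (algebraMap (Y.presheaf.stalk y)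
          (FractionRing (Y.presheaf.stalk y)))) ≫ l = j' ≫ g ∧
        l ≫ p = Y.fromSpecStalk y ≫ q) :
    ∃ (W : Y.Opens) (_ : y ∈ W) (f : W.toScheme ⟶ X), f ≫ p = W.ι ≫ q ∧ Agrees V g W f := by
  obtain ⟨z₀, hz₀W₀, hz₀V⟩ := mem_closure_iff.mp hyV W₀ W₀.isOpen hyW₀
  set j : Spec (.of (FractionRing (Y.presheaf.stalk y))) ⟶ Y := Spec.map (CommRingCat.ofHom (algebraMap (Y.presheaf.stalk y) (FractionRing (Y.presheaf.stalk y)))) ≫ Y.fromSpecStalk y
    with hj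
  have hjV : Set.range j ⊆ Set.range V.ι := by
    rw [Scheme.Opens.range_ι]; rintro _ ⟨z, rfl⟩
    exact (hstar z z₀ hz₀W₀).mem_open V.isOpen hz₀V
  set j' : Spec (.of (FractionRing (Y.presheaf.stalk y))) ⟶ V.toScheme := IsOpenImmersion.lift V.ι j hjV with hj'def
  have hj' : j' ≫ V.ι = j := IsOpenImmersion.lift_fac _ _ _
  obtain ⟨l, hl₁, hl₂⟩ := hlift j' hj'
  obtain ⟨W₁, hyW₁, f₁, hf₁, hf₁p⟩ := spread_out_of_isGermInjective' q p (x := y) l hl₂
  refine ⟨W₁ ⊓ W₀, ⟨hyW₁, hyW₀⟩, Y.homOfLE inf_le_left ≫ f₁, ?_, ?_⟩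
  · rw [Category.assoc, hf₁p, Scheme.homOfLE_ι_assoc]
  · -- agreement
    have hzK : Nonempty (Spec (.of (FractionRing (Y.presheaf.stalk y)))) := inferInstance
    obtain ⟨z₁⟩ := hzK
    have hjT : Set.range j ⊆ Set.range (W₁ ⊓ W₀ ⊓ V).ι := by
      rw [Scheme.Opens.range_ι]; rintro _ ⟨z, rfl⟩
      refine ⟨?_, hjV.trans (by rw [Scheme.Opens.range_ι]) ⟨z, rfl⟩⟩
      exact (hstar z y hyW₀).mem_open (W₁ ⊓ W₀).isOpen ⟨hyW₁, hyW₀⟩
    set ι : Spec (.of (FractionRing (Y.presheaf.stalk y))) ⟶ (W₁ ⊓ W₀ ⊓ V).toScheme := IsOpenImmersion.lift (W₁ ⊓ W₀ ⊓ V).ι j hjT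
      with hιdef
    have hι : ι ≫ (W₁ ⊓ W₀ ⊓ V).ι = j := IsOpenImmersion.lift_fac _ _ _
    haveI : IsDominant ι := by
      constructor
      intro t
      have h1 : (W₁ ⊓ W₀ ⊓ V).ι (ι z₁) ⤳ (W₁ ⊓ W₀ ⊓ V).ι t := by
        rw [← Scheme.Hom.comp_apply, hι]
        exact hstar z₁ _ t.2.1.2
      have h2 : ι z₁ ⤳ t :=
        (W₁ ⊓ W₀ ⊓ V).ι.isOpenEmbedding.isInducing.specializes_iff.mp h1
      exact closure_mono (Set.singleton_subset_iff.mpr (Set.mem_range_self z₁)) h2.mem_closure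
    haveI : IsReduced (W₁ ⊓ W₀ ⊓ V).toScheme :=
      isReduced_of_isOpenImmersion (Y.homOfLE (inf_le_left.trans inf_le_right :
        W₁ ⊓ W₀ ⊓ V ≤ W₀))
    unfold Agrees
    refine ext_of_isDominant_of_isSeparated p ?_ ι ?_
    · simp only [Category.assoc, hf₁p, hg, Scheme.homOfLE_ι_assoc]
    · have e₁ : ι ≫ Y.homOfLE (inf_le_right : W₁ ⊓ W₀ ⊓ V ≤ V) = j' := by
        rw [← cancel_mono V.ι, Category.assoc, Y.homOfLE_ι, hι, hj']
      have e₂ : ι ≫ Y.homOfLE (inf_le_left : W₁ ⊓ W₀ ⊓ V ≤ W₁ ⊓ W₀) ≫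
          Y.homOfLE (inf_le_left : W₁ ⊓ W₀ ≤ W₁) =
          Spec.map (CommRingCat.ofHom (algebraMap (Y.presheaf.stalk y) (FractionRing (Y.presheaf.stalk y)))) ≫ W₁.fromSpecStalkOfMem y hyW₁ := by
        rw [← cancel_mono W₁.ι, Category.assoc, Category.assoc, Y.homOfLE_ι, Y.homOfLE_ι, hι,
          Category.assoc, Scheme.Opens.fromSpecStalkOfMem_ι]
      rw [← Category.assoc, ← Category.assoc, Category.assoc ι, e₂, ← Category.assoc ι, e₁,
        Category.assoc, ← hf₁, hl₁]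

theorem global_of_local {S X Y : Scheme.{u}} (p : X ⟶ S) [IsSeparated p] (q : Y ⟶ S)
    [IsReduced Y]
    (V : Y.Opens) (hV : Dense (V : Set Y)) (g : V.toScheme ⟶ X) (hg : g ≫ p = V.ι ≫ q)
    (D : Set Y) (hD : ∀ y ∈ D, ∃ (W : Y.Opens) (_ : y ∈ W) (f : W.toScheme ⟶ X),
      f ≫ p = W.ι ≫ q ∧ Agrees V g W f) :
    ∃ (U : Y.Opens) (hVU : V ≤ U) (g' : U.toScheme ⟶ X), g' ≫ p = U.ι ≫ q ∧
      Y.homOfLE hVU ≫ g' = g ∧ D ⊆ (U : Set Y) := by
  let J := Σ W : Y.Opens, {f : W.toScheme ⟶ X // f ≫ p = W.ι ≫ q ∧ Agrees V g W f}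
  let W : J → Y.Opens := fun j => j.1
  let f : ∀ j : J, (W j).toScheme ⟶ X := fun j => j.2.1
  obtain ⟨F, hF, hFp⟩ := glue p q W f (fun j => j.2.2.1)
    (fun i j => compat p q V hV g _ _ _ _ i.2.2.1 j.2.2.1 i.2.2.2 j.2.2.2)
  let j₀ : J := ⟨V, g, hg, agrees_self V g⟩
  refine ⟨⨆ j, W j, le_iSup W j₀, F, hFp, hF j₀, ?_⟩
  intro y hy
  obtain ⟨W', hyW', f', hf'p, hf'a⟩ := hD y hy
  exact Opens.mem_iSup.mpr ⟨⟨W', f', hf'p, hf'a⟩, hyW'⟩

end Groth.Agent.Helper9.RatExt
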