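import Mathlib
import Groth.Agent.Lib.Helper9.RatExt4

/-!
# Sections of integral morphisms over normal integral schemes (helper9)
-/

set_option autoImplicit false
universe u
open CategoryTheory CategoryTheory.Limits AlgebraicGeometry TopologicalSpace

namespace Groth.Agent.Helper9.IntSection

open Groth.Agent.Helper9.RatExt

lemma genericPoint_mem {X : Scheme.{u}} [IrreducibleSpace X] (W : X.Opens) [h : Nonempty W] :
    genericPoint X ∈ W :=
  ((genericPoint_spec X).mem_open_set_iff W.isOpen).mpr (by simpa using h)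

lemma isIntegrallyClosed_of_isAffineOpen {X : Scheme.{u}} [IsIntegral X]
    (hX : ∀ x : X, IsIntegrallyClosed (X.presheaf.stalk x)) (W : X.Opens) (hW : IsAffineOpen W)
    [Nonempty W] : IsIntegrallyClosed Γ(X, W) := by
  refine IsIntegrallyClosed.of_localization_maximal fun p hp0 hpm => ?_
  let y : PrimeSpectrum Γ(X, W) := ⟨p, hpm.isPrime⟩
  have hy : hW.fromSpec y ∈ W := (hW.isoSpec.inv _).2
  letI : Algebra Γ(X, W) (X.presheaf.stalk (hW.fromSpec y)) :=
    TopCat.Presheaf.algebra_section_stalk X.presheaf ⟨hW.fromSpec y, hy⟩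
  haveI : IsLocalization.AtPrime (X.presheaf.stalk (hW.fromSpec y)) p :=
    hW.isLocalization_stalk' y hy
  haveI := hX (hW.fromSpec y)
  exact IsIntegrallyClosed.of_equiv (IsLocalization.algEquiv p.primeCompl
    (X.presheaf.stalk (hW.fromSpec y)) (Localization.AtPrime p)).toRingEquiv

set_option backward.isDefEq.respectTransparency.types false in
lemma exists_local_section {X X' : Scheme.{u}} [IsIntegral X]
    (hX : ∀ x : X, IsIntegrallyClosed (X.presheaf.stalk x))
    (g : X' ⟶ X) [IsIntegralHom g] (W : X.Opens) (hW : IsAffineOpen W) [Nonempty W]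
    (i₁ : Spec X.functionField ⟶ X') (hi₁ : i₁ ≫ g = X.fromSpecStalk (genericPoint X)) :
    ∃ fW : W.toScheme ⟶ X', fW ≫ g = W.ι ∧
      W.fromSpecStalkOfMem (genericPoint X) (genericPoint_mem W) ≫ fW = i₁ := by
  have hξ : genericPoint X ∈ W := genericPoint_mem W
  have hV' : IsAffineOpen (g ⁻¹ᵁ W) := hW.preimage g
  have hrange : Set.range i₁ ⊆ Set.range hV'.fromSpec := by
    rw [hV'.range_fromSpec]
    rintro _ ⟨z, rfl⟩
    show g (i₁ z) ∈ W
    rw [← Scheme.Hom.comp_apply, hi₁]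
    have h1 : X.fromSpecStalk (genericPoint X) z ∈ Set.range (X.fromSpecStalk (genericPoint X)) :=
      ⟨z, rfl⟩
    rw [Scheme.range_fromSpecStalk] at h1
    exact (h1 : _ ⤳ _).mem_open W.isOpen hξ
  let β : Γ(X', g ⁻¹ᵁ W) ⟶ X.functionField :=
    Spec.preimage (IsOpenImmersion.lift hV'.fromSpec i₁ hrange)
  have hβ : Spec.map β ≫ hV'.fromSpec = i₁ := by
    rw [Spec.map_preimage, IsOpenImmersion.lift_fac]
  have hφβ : g.app W ≫ β = X.presheaf.germ W (genericPoint X) hξ := by
    apply Spec.map_injective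
    rw [← cancel_mono hW.fromSpec, Spec.map_comp, Category.assoc,
      ← Scheme.Hom.appLE_eq_app, IsAffineOpen.SpecMap_appLE_fromSpec g hW hV' le_rfl,
      ← Category.assoc, hβ, hi₁, ← hW.fromSpecStalk_eq_fromSpecStalk hξ]
    rfl
  haveI : IsIntegrallyClosed Γ(X, W) := isIntegrallyClosed_of_isAffineOpen hX W hW
  haveI : IsFractionRing Γ(X, W) X.functionField :=
    functionField_isFractionRing_of_isAffineOpen X W hW
  have hint : (g.app W).hom.IsIntegral := IsIntegralHom.isIntegral_app g W hW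
  have hmem : ∀ b : Γ(X', g ⁻¹ᵁ W), β.hom b ∈ (X.presheaf.germ W (genericPoint X) hξ).hom.range := by
    intro b
    obtain ⟨P, hPm, hP0⟩ := hint b
    have h1 : IsIntegral Γ(X, W) (β.hom b) := by
      refine ⟨P, hPm, ?_⟩
      have h2 : algebraMap Γ(X, W) X.functionField = β.hom.comp (g.app W).hom := by
        rw [← CommRingCat.hom_comp, hφβ]; rfl
      rw [h2, ← Polynomial.hom_eval₂, hP0, map_zero]
    obtain ⟨a, ha⟩ := IsIntegrallyClosed.isIntegral_iff.mp h1
    exact ⟨a, ha⟩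
  have hinj : Function.Injective (X.presheaf.germ W (genericPoint X) hξ).hom :=
    germ_injective_of_isIntegral X (genericPoint X) hξ
  let e : Γ(X, W) ≃+* (X.presheaf.germ W (genericPoint X) hξ).hom.range :=
    RingEquiv.ofBijective (X.presheaf.germ W (genericPoint X) hξ).hom.rangeRestrict
      ⟨fun a b h => hinj (congrArg Subtype.val h),
        (X.presheaf.germ W (genericPoint X) hξ).hom.rangeRestrict_surjective⟩
  let σ : Γ(X', g ⁻¹ᵁ W) ⟶ Γ(X, W) := CommRingCat.ofHom
    (e.symm.toRingHom.comp (β.hom.codRestrict _ hmem))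
  have hσι : σ ≫ X.presheaf.germ W (genericPoint X) hξ = β := by
    ext b
    exact congrArg Subtype.val (e.apply_symm_apply (β.hom.codRestrict _ hmem b))
  have hφσ : g.app W ≫ σ = 𝟙 _ := by
    ext a
    apply hinj
    have h1 := congr($hσι (g.app W a))
    have h2 := congr($hφβ a)
    simp only [CommRingCat.comp_apply] at h1 h2
    simp only [CommRingCat.comp_apply, CommRingCat.id_apply]
    rw [h1, h2]
  refine ⟨W.toSpecΓ ≫ Spec.map σ ≫ hV'.fromSpec, ?_, ?_⟩
  · rw [Category.assoc, Category.assoc, ← IsAffineOpen.SpecMap_appLE_fromSpec g hW hV' le_rfl,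
      Scheme.Hom.appLE_eq_app, ← Spec.map_comp_assoc, hφσ, Spec.map_id, Category.id_comp,
      hW.toSpecΓ_fromSpec]
  · rw [W.fromSpecStalkOfMem_toSpecΓ_assoc, ← Spec.map_comp_assoc, hσι, hβ]

lemma agrees_of_generic {X X' : Scheme.{u}} [IsIntegral X] (g : X' ⟶ X) [IsSeparated g]
    (U W : X.Opens) [Nonempty U] [Nonempty W] (s : U.toScheme ⟶ X') (hs : s ≫ g = U.ι)
    (f : W.toScheme ⟶ X') (hf : f ≫ g = W.ι)
    (hgen : W.fromSpecStalkOfMem (genericPoint X) (genericPoint_mem W) ≫ f =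
      U.fromSpecStalkOfMem (genericPoint X) (genericPoint_mem U) ≫ s) :
    Agrees U s W f := by
  have hξT : genericPoint X ∈ W ⊓ U := ⟨genericPoint_mem W, genericPoint_mem U⟩
  set ι := (W ⊓ U).fromSpecStalkOfMem (genericPoint X) hξT with hι
  have e₁ : ι ≫ X.homOfLE (inf_le_left : W ⊓ U ≤ W) =
      W.fromSpecStalkOfMem (genericPoint X) (genericPoint_mem W) := by
    rw [← cancel_mono W.ι, Category.assoc, X.homOfLE_ι, Scheme.Opens.fromSpecStalkOfMem_ι,
      Scheme.Opens.fromSpecStalkOfMem_ι]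
  have e₂ : ι ≫ X.homOfLE (inf_le_right : W ⊓ U ≤ U) =
      U.fromSpecStalkOfMem (genericPoint X) (genericPoint_mem U) := by
    rw [← cancel_mono U.ι, Category.assoc, X.homOfLE_ι, Scheme.Opens.fromSpecStalkOfMem_ι,
      Scheme.Opens.fromSpecStalkOfMem_ι]
  haveI : IsDominant ι := by
    constructor
    intro t
    obtain ⟨z⟩ : Nonempty (Spec X.functionField) := inferInstance
    have h0 : X.fromSpecStalk (genericPoint X) z ∈ Set.range (X.fromSpecStalk (genericPoint X)) :=
      ⟨z, rfl⟩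
    rw [Scheme.range_fromSpecStalk] at h0
    have h1 : (W ⊓ U).ι (ι z) ⤳ (W ⊓ U).ι t := by
      rw [← Scheme.Hom.comp_apply, Scheme.Opens.fromSpecStalkOfMem_ι]
      exact (h0 : _ ⤳ _).trans (genericPoint_specializes _)
    have h2 : ι z ⤳ t := (W ⊓ U).ι.isOpenEmbedding.isInducing.specializes_iff.mp h1
    exact closure_mono (Set.singleton_subset_iff.mpr (Set.mem_range_self z)) h2.mem_closure
  unfold Agrees
  refine ext_of_isDominant_of_isSeparated g ?_ ι ?_
  · simp only [Category.assoc, hf, hs, Scheme.homOfLE_ι]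
  · rw [← Category.assoc, ← Category.assoc, e₁, e₂, hgen]

theorem exists_section {X X' : Scheme.{u}} [IsIntegral X]
    (hX : ∀ x : X, IsIntegrallyClosed (X.presheaf.stalk x))
    (g : X' ⟶ X) [IsIntegralHom g] (U : X.Opens) (hU : Dense (U : Set X))
    (s : U.toScheme ⟶ X') (hs : s ≫ g = U.ι) :
    ∃ s' : X ⟶ X', s' ≫ g = 𝟙 X ∧ U.ι ≫ s' = s := by
  haveI : Nonempty U := by
    obtain ⟨x, hx⟩ := hU.nonempty
    exact ⟨⟨x, hx⟩⟩
  have hs' : s ≫ g = U.ι ≫ 𝟙 X := by rw [Category.comp_id]; exact hs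
  have hi₁ : (U.fromSpecStalkOfMem (genericPoint X) (genericPoint_mem U) ≫ s) ≫ g =
      X.fromSpecStalk (genericPoint X) := by
    rw [Category.assoc, hs, Scheme.Opens.fromSpecStalkOfMem_ι]
  obtain ⟨U', hUU', g', h1, h2, h3⟩ := global_of_local g (𝟙 X) U hU s hs' Set.univ (by
    intro y _
    obtain ⟨W, hW, hyW⟩ : ∃ W : X.Opens, IsAffineOpen W ∧ y ∈ W := by
      obtain ⟨_, ⟨W, hW, rfl⟩, hyW, -⟩ :=
        X.isBasis_affineOpens.exists_subset_of_mem_open (Set.mem_univ y) isOpen_univ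
      exact ⟨W, hW, hyW⟩
    haveI : Nonempty W := ⟨⟨y, hyW⟩⟩
    obtain ⟨fW, hfW, hgen⟩ := exists_local_section hX g W hW _ hi₁
    exact ⟨W, hyW, fW, by rw [hfW, Category.comp_id],
      agrees_of_generic g U W s hs fW hfW hgen⟩)
  have hU' : U' = ⊤ := top_le_iff.mp (fun x _ => h3 (Set.mem_univ x))
  subst hU'
  refine ⟨X.topIso.inv ≫ g', ?_, ?_⟩
  · rw [Category.assoc, h1, Category.comp_id, Scheme.toIso_inv_ι]
  · rw [← h2, ← Category.assoc]
    congr 1
    rw [Iso.comp_inv_eq, Scheme.topIso_hom, Scheme.homOfLE_ι]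

end Groth.Agent.Helper9.IntSection

namespace Groth.Agent.Helper9.IntSection

theorem bijective_of_retraction {A B : Type*} [CommRing A] [CommRing B] [IsDomain B]
    (φ : A →+* B) (σ : B →+* A) (hσφ : σ.comp φ = RingHom.id A) (hint : φ.IsIntegral) :
    Function.Bijective φ := by
  have hinj : Function.Injective φ := by
    intro a b h
    have := congrArg σ h
    have ha : σ (φ a) = a := congr($hσφ a)
    have hb : σ (φ b) = b := congr($hσφ b)
    rwa [ha, hb] at this
  haveI : IsDomain A := hinj.isDomain φ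
  letI := φ.toAlgebra
  haveI : Algebra.IsIntegral A B := ⟨hint⟩
  haveI : (RingHom.ker σ).IsPrime := RingHom.ker_isPrime σ
  have hker : RingHom.ker σ = ⊥ := by
    apply Ideal.eq_bot_of_comap_eq_bot (R := A)
    ext a
    simp only [Ideal.mem_comap, RingHom.mem_ker, Ideal.mem_bot]
    have ha : σ (φ a) = a := congr($hσφ a)
    show σ (φ a) = 0 ↔ a = 0
    rw [ha]
  have hσinj : Function.Injective σ := (RingHom.injective_iff_ker_eq_bot σ).mpr hker
  refine ⟨hinj, fun b => ⟨σ b, hσinj ?_⟩⟩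
  exact congr($hσφ (σ b))

lemma isIso_map_eqToHom {X : Scheme.{u}} {U V : X.Opens} (h : U = V) :
    IsIso (X.presheaf.map (eqToHom h).op) := by
  subst h
  rw [eqToHom_refl, op_id, X.presheaf.map_id]
  infer_instance

theorem isIso_of_section {X X' : Scheme.{u}} [IsIntegral X'] (g : X' ⟶ X) [IsIntegralHom g]
    (s' : X ⟶ X') (hs' : s' ≫ g = 𝟙 X) : IsIso g := by
  have key : ∀ (W : X.Opens), IsAffineOpen W → Nonempty W → IsIso (g.app W) := by
    intro W hW hne
    obtain ⟨⟨x, hx⟩⟩ := hne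
    have hgs : ∀ x : X, g (s' x) = x := fun x => by
      rw [← Scheme.Hom.comp_apply, hs']; rfl
    haveI : Nonempty (g ⁻¹ᵁ W) := ⟨⟨s' x, by show g (s' x) ∈ W; rw [hgs]; exact hx⟩⟩
    have h1 : g.app W ≫ s'.app (g ⁻¹ᵁ W) = (s' ≫ g).app W := (Scheme.Hom.comp_app s' g W).symm
    have h2 := Scheme.Hom.congr_app hs' W
    have hiso : IsIso ((s' ≫ g).app W) := by
      rw [h2]; exact IsIso.comp_isIso' inferInstance (isIso_map_eqToHom _)
    let t : Γ(X', g ⁻¹ᵁ W) ⟶ Γ(X, (s' ≫ g) ⁻¹ᵁ W) := s'.app (g ⁻¹ᵁ W)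
    let r : Γ(X, W) ≅ Γ(X, (s' ≫ g) ⁻¹ᵁ W) := @asIso _ _ _ _ ((s' ≫ g).app W) hiso
    have hcomp : g.app W ≫ (t ≫ r.inv) = 𝟙 _ := by
      rw [← Category.assoc, show g.app W ≫ t = r.hom from h1, Iso.hom_inv_id]
    have hbij := bijective_of_retraction (g.app W).hom (t ≫ r.inv).hom
      (by rw [← CommRingCat.hom_comp, hcomp]; rfl) (IsIntegralHom.isIntegral_app g W hW)
    exact (ConcreteCategory.isIso_iff_bijective _).mpr hbij
  refine HasAffineProperty.of_iSup_eq_top (P := MorphismProperty.isomorphisms Scheme)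
    (fun x : X => (⟨(X.affineCover.f (X.affineCover.idx x)).opensRange,
      isAffineOpen_opensRange _⟩ : X.affineOpens)) ?_ ?_
  · exact top_le_iff.mp (fun x _ => Opens.mem_iSup.mpr ⟨x, X.affineCover.covers x⟩)
  · intro x
    set W : X.Opens := (X.affineCover.f (X.affineCover.idx x)).opensRange with hWdef
    have hW : IsAffineOpen W := isAffineOpen_opensRange _
    refine ⟨hW.preimage g, ?_⟩
    rw [morphismRestrict_appTop]
    have hW' : IsAffineOpen (W.ι ''ᵁ ⊤) := by rw [Scheme.Opens.ι_image_top]; exact hW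
    have hne : Nonempty ↥(W.ι ''ᵁ ⊤) := by
      rw [Scheme.Opens.ι_image_top]; exact ⟨⟨x, X.affineCover.covers x⟩⟩
    refine IsIso.comp_isIso' ?_ (isIso_map_eqToHom _)
    exact key _ hW' hne

end Groth.Agent.Helper9.IntSection
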