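import Mathlib
import Groth.Agent.Lib.Helper9.Lim8
import Groth.Agent.Lib.Helper9.FlatColimit

/-!
Flatness of the projection from a cofiltered limit with flat affine transition maps.
-/

set_option autoImplicit false
universe u

open CategoryTheory AlgebraicGeometry Limits

namespace Groth.Agent.Helper9.Lim8

set_option backward.isDefEq.respectTransparency false in
/-- Affine case. -/
theorem flat_π_of_isAffine {J : Type u} [SmallCategory J] [IsCofiltered J] (D : J ⥤ Scheme.{u})
    (c : Cone D) (hc : IsLimit c) [∀ j, IsAffine (D.obj j)] (j₀ : J)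
    (hf : ∀ (j : J) (φ : j ⟶ j₀), Flat (D.map φ)) : Flat (c.π.app j₀) := by
  have hcaff : IsAffine c.pt := Scheme.isAffine_of_isLimit c hc
  have : IsAffine (((Functor.const J).obj c.pt).obj j₀) := hcaff
  rw [HasRingHomProperty.iff_of_isAffine (P := @Flat)]
  have hw : ∀ {j k : J} (a : j ⟶ k),
      (c.π.app j).appTop.hom.comp (D.map a).appTop.hom = (c.π.app k).appTop.hom := by
    intro j k a
    rw [← CommRingCat.hom_comp, ← Scheme.Hom.comp_appTop, c.w]
  have hD : ∀ {j k l : J} (a : j ⟶ k) (b : k ⟶ l),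
      (D.map a).appTop.hom.comp (D.map b).appTop.hom = (D.map (a ≫ b)).appTop.hom := by
    intro j k l a b
    rw [← CommRingCat.hom_comp, ← Scheme.Hom.comp_appTop, D.map_comp]
  refine RingHom.flat_of_directed_system (J := Σ j : J, (j ⟶ j₀)) _
    (fun p => Γ(D.obj p.1, ⊤)) (fun p => (D.map p.2).appTop.hom)
    (fun p => (c.π.app p.1).appTop.hom) ?_ ?_ ?_ ?_ ?_
  · rintro ⟨j, φ⟩
    exact hw φ
  · rintro ⟨j, φ⟩
    have := hf j φ
    rwa [HasRingHomProperty.iff_of_isAffine (P := @Flat)] at this
  · intro s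
    obtain ⟨i, t, ht⟩ := exists_appTop_π_eq_of_isAffine_of_isLimit D c hc s
    refine ⟨⟨IsCofiltered.min i j₀, IsCofiltered.minToRight i j₀⟩,
      (D.map (IsCofiltered.minToLeft i j₀)).appTop.hom t, ?_⟩
    have := congrArg (fun h => h t) (hw (IsCofiltered.minToLeft i j₀))
    simp only [RingHom.comp_apply] at this
    rw [← ht]
    exact this
  · rintro ⟨j, φ⟩ ⟨j', φ'⟩
    obtain ⟨k, α, β, hαβ⟩ := IsCofiltered.cospan φ φ'
    refine ⟨⟨k, α ≫ φ⟩, (D.map α).appTop.hom, (D.map β).appTop.hom, hw α, hw β, hD α φ, ?_⟩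
    change (D.map β).appTop.hom.comp (D.map φ').appTop.hom = (D.map (α ≫ φ)).appTop.hom
    rw [hD, hαβ]
  · rintro ⟨j, φ⟩ x hx
    obtain ⟨k, a, hk⟩ := exists_appTop_map_eq_zero_of_isAffine_of_isLimit D c hc j x hx
    exact ⟨⟨k, a ≫ φ⟩, (D.map a).appTop.hom, hw a, hD a φ, hk⟩

variable {I : Type u} [SmallCategory I] [IsCofiltered I]
  (D : I ⥤ Scheme.{u}) (c : Cone D) (hc : IsLimit c)

set_option backward.isDefEq.respectTransparency false in
include hc in
/-- General case: the projection to stage `i` is flat if all transition maps to `i` are flat. -/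
theorem flat_π_of_forall_flat [∀ {i j : I} (f : i ⟶ j), IsAffineHom (D.map f)] (i : I)
    (hf : ∀ (j : I) (φ : j ⟶ i), Flat (D.map φ)) : Flat (c.π.app i) := by
  rw [IsZariskiLocalAtTarget.iff_of_openCover (P := @Flat) (D.obj i).affineCover]
  intro a
  let g := (D.obj i).affineCover.f a
  change Flat (pullback.snd (c.π.app i) g)
  let j₀ : Over i := Over.mk (𝟙 i)
  have hAff (j : Over i) : IsAffine ((bcDiagram D g).obj j) :=
    have : IsAffineHom (pullback.snd (D.map j.hom) g) :=
      MorphismProperty.pullback_snd _ _ inferInstance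
    isAffine_of_isAffineHom (pullback.snd (D.map j.hom) g)
  have hIso : IsIso (pullback.snd (D.map j₀.hom) g) := by
    have : IsIso (D.map j₀.hom) := by
      have : D.map j₀.hom = 𝟙 _ := D.map_id i
      rw [this]; infer_instance
    infer_instance
  have hmain : Flat ((bcCone D c g).π.app j₀) := by
    apply flat_π_of_isAffine (bcDiagram D g) (bcCone D c g) (bcIsLimit D c hc g) j₀
    intro k φ
    have hk : Flat (D.map k.hom) := hf k.left k.hom
    have e : (bcDiagram D g).map φ =
        pullback.snd (D.map k.hom) g ≫ inv (pullback.snd (D.map j₀.hom) g) := by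
      rw [IsIso.eq_comp_inv, bcDiagram_map_snd]
    rw [e]
    infer_instance
  rw [← bcCone_π_snd D c g j₀]
  infer_instance

end Groth.Agent.Helper9.Lim8
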