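import Mathlib
import Groth.Agent.Lib.Helper9.Lim8

/-!
Cofiltered limits of schemes whose transition maps are open immersions.
-/

set_option autoImplicit false
universe u

open CategoryTheory AlgebraicGeometry Limits

namespace Groth.Agent.Helper9.Lim8

variable {I : Type u} [SmallCategory I] [IsCofiltered I]
  (D : I ⥤ Scheme.{u}) (c : Cone D) (hc : IsLimit c)

include hc in
/-- If all transition maps into `i` are monomorphisms, then so is the projection to `i`. -/
theorem mono_π_of_forall_mono (i : I) (h : ∀ (j : I) (φ : j ⟶ i), Mono (D.map φ)) :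
    Mono (c.π.app i) := by
  refine ⟨fun {T} u v huv => ?_⟩
  apply hc.hom_ext
  intro j
  let k := IsCofiltered.min j i
  let a : k ⟶ j := IsCofiltered.minToLeft j i
  let b : k ⟶ i := IsCofiltered.minToRight j i
  have := h k b
  have h1 : u ≫ c.π.app k = v ≫ c.π.app k := by
    rw [← cancel_mono (D.map b), Category.assoc, Category.assoc, c.w]
    exact huv
  rw [← c.w a, ← Category.assoc, ← Category.assoc, h1]

include hc in
/-- If all transition maps into `i` are open immersions, the projection to `i` is an embedding. -/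
theorem isEmbedding_π_of_isOpenImmersion [∀ {i j : I} (f : i ⟶ j), IsAffineHom (D.map f)] (i : I)
    (h : ∀ (j : I) (φ : j ⟶ i), IsOpenImmersion (D.map φ)) :
    Topology.IsEmbedding ⇑(c.π.app i) := by
  have hmono : Mono (c.π.app i) := mono_π_of_forall_mono D c hc i (fun j φ => by
    have := h j φ; infer_instance)
  refine ⟨⟨?_⟩, (c.π.app i).injective⟩
  refine le_antisymm (c.π.app i).continuous.le_induced ?_
  intro U hU
  rw [isOpen_induced_iff]
  have key : ∀ x ∈ U, ∃ W : Set (D.obj i), IsOpen W ∧ x ∈ ⇑(c.π.app i) ⁻¹' W ∧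
      ⇑(c.π.app i) ⁻¹' W ⊆ U := by
    intro x hx
    obtain ⟨_, ⟨j, V, -, rfl⟩, hxV, hVU⟩ :=
      TopologicalSpace.Opens.isBasis_iff_nbhd.1 (isBasis_preimage_isAffineOpen D c hc)
        (U := ⟨U, hU⟩) (x := x) hx
    let k := IsCofiltered.min j i
    let a : k ⟶ j := IsCofiltered.minToLeft j i
    let b : k ⟶ i := IsCofiltered.minToRight j i
    have := h k b
    have hpre : ⇑(c.π.app i) ⁻¹' (⇑(D.map b) '' (⇑(D.map a) ⁻¹' (V : Set (D.obj j)))) =
        ⇑(c.π.app j) ⁻¹' (V : Set (D.obj j)) := by
      rw [← c.w b, comp_coe, Set.preimage_comp,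
        Set.preimage_image_eq _ (D.map b).isOpenEmbedding.injective, ← Set.preimage_comp,
        ← comp_coe, c.w]
    refine ⟨⇑(D.map b) '' (⇑(D.map a) ⁻¹' (V : Set (D.obj j))),
      (D.map b).isOpenEmbedding.isOpenMap _ (V.2.preimage (D.map a).continuous), ?_, ?_⟩
    · rw [hpre]; exact hxV
    · rw [hpre]; exact hVU
  choose W hWo hxW hWU using key
  refine ⟨⋃ (x : c.pt) (hx : x ∈ U), W x hx, isOpen_iUnion fun x => isOpen_iUnion fun hx =>
    hWo x hx, ?_⟩
  ext x
  simp only [Set.preimage_iUnion, Set.mem_iUnion]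
  constructor
  · rintro ⟨y, hy, hxy⟩
    exact hWU y hy hxy
  · intro hx
    exact ⟨x, hx, hxW x hx⟩

/-- A monomorphism `p : S ⟶ T` through which `Spec 𝒪_{T, p s} ⟶ T` factors induces an
isomorphism on stalks at `s`. -/
theorem isIso_stalkMap_of_mono_of_lift {S T : Scheme.{u}} (p : S ⟶ T) [Mono p] (s : S)
    (t : Spec (T.presheaf.stalk (p s)) ⟶ S) (ht : t ≫ p = T.fromSpecStalk (p s)) :
    IsIso (p.stalkMap s) := by
  have hinj : Function.Injective ⇑p := p.injective
  have hts : t (IsLocalRing.closedPoint (T.presheaf.stalk (p s))) = s := by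
    apply hinj
    have := Scheme.fromSpecStalk_closedPoint (X := T) (x := p s)
    rw [← ht] at this
    exact this
  have hspec : t (IsLocalRing.closedPoint (T.presheaf.stalk (p s))) ⤳ s := specializes_of_eq hts
  let β : S.presheaf.stalk s ⟶ T.presheaf.stalk (p s) :=
    S.presheaf.stalkSpecializes hspec ≫ Scheme.stalkClosedPointTo t
  have hβ : Spec.map β ≫ S.fromSpecStalk s = t := by
    rw [Spec.map_comp, Category.assoc, Scheme.SpecMap_stalkSpecializes_fromSpecStalk,
      Scheme.Spec_stalkClosedPointTo_fromSpecStalk]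
  have h1 : p.stalkMap s ≫ β = 𝟙 _ := by
    apply Spec.map_injective
    rw [← cancel_mono (T.fromSpecStalk (p s)), Spec.map_comp, Category.assoc,
      Scheme.SpecMap_stalkMap_fromSpecStalk, ← Category.assoc, hβ, ht, Spec.map_id,
      Category.id_comp]
  have h2 : β ≫ p.stalkMap s = 𝟙 _ := by
    apply Spec.map_injective
    have h3 : Spec.map (p.stalkMap s) ≫ t = S.fromSpecStalk s := by
      rw [← cancel_mono p, Category.assoc, ht, Scheme.SpecMap_stalkMap_fromSpecStalk]
    rw [← cancel_mono (S.fromSpecStalk s), Spec.map_comp, Category.assoc, hβ, h3, Spec.map_id,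
      Category.id_comp]
  exact ⟨β, h1, h2⟩

set_option backward.isDefEq.respectTransparency false in
include hc in
/-- If all transition maps into `i` are open immersions, the projection to `i` induces
isomorphisms on stalks. -/
theorem isIso_stalkMap_π_of_isOpenImmersion [∀ {i j : I} (f : i ⟶ j), IsAffineHom (D.map f)]
    (i : I) (h : ∀ (j : I) (φ : j ⟶ i), IsOpenImmersion (D.map φ)) (s : c.pt) :
    IsIso ((c.π.app i).stalkMap s) := by
  have hmono : Mono (c.π.app i) := mono_π_of_forall_mono D c hc i (fun j φ => by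
    have := h j φ; infer_instance)
  have hc' : IsLimit (c.whisker (Over.forget i)) :=
    (Functor.Initial.isLimitWhiskerEquiv (Over.forget i) c).symm hc
  let p : c.pt ⟶ D.obj i := c.π.app i
  -- the maps `Spec 𝒪_{S_i, y} ⟶ S_j`
  have hrange : ∀ j : Over i, Set.range ⇑((D.obj i).fromSpecStalk (p s)) ⊆
      Set.range ⇑(D.map j.hom) := by
    intro j
    have := h j.left j.hom
    rw [Scheme.range_fromSpecStalk]
    intro z hz
    have hyj : p s ∈ Set.range ⇑(D.map j.hom) := by
      refine ⟨c.π.app j.left s, ?_⟩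
      rw [← Scheme.Hom.comp_apply, c.w]
      rfl
    exact (D.map j.hom).isOpenEmbedding.isOpen_range.stableUnderGeneralization hz hyj
  let tj : ∀ j : Over i, Spec ((D.obj i).presheaf.stalk (p s)) ⟶ D.obj j.left := fun j =>
    have := h j.left j.hom
    IsOpenImmersion.lift (D.map j.hom) ((D.obj i).fromSpecStalk (p s)) (hrange j)
  have htj : ∀ j : Over i, tj j ≫ D.map j.hom = (D.obj i).fromSpecStalk (p s) := fun j =>
    have := h j.left j.hom
    IsOpenImmersion.lift_fac _ _ _
  let cone : Cone (Over.forget i ⋙ D) :=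
    { pt := Spec ((D.obj i).presheaf.stalk (p s))
      π :=
        { app := tj
          naturality := by
            intro j k φ
            have := h k.left k.hom
            simp only [Functor.const_obj_obj, Functor.const_obj_map, Category.id_comp,
              Functor.comp_map, Over.forget_map]
            rw [← cancel_mono (D.map k.hom), htj, Category.assoc, ← D.map_comp, Over.w, htj] } }
  let t : Spec ((D.obj i).presheaf.stalk (p s)) ⟶ c.pt := hc'.lift cone
  have ht : t ≫ p = (D.obj i).fromSpecStalk (p s) := by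
    have h1 : t ≫ p = tj (Over.mk (𝟙 i)) := hc'.fac cone (Over.mk (𝟙 i))
    have h2 := htj (Over.mk (𝟙 i))
    rw [h1]
    simpa using h2
  exact isIso_stalkMap_of_mono_of_lift p s t ht

end Groth.Agent.Helper9.Lim8
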