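import Mathlib
import Groth.Agent.Lib.Helper9.Lim8

/-!
Reducedness and cofiltered limits of schemes with affine transition maps.
-/

set_option autoImplicit false
universe u

open CategoryTheory AlgebraicGeometry Limits

namespace Groth.Agent.Helper9.Lim8

/-- Affine case: if the limit of a cofiltered system of affine schemes is not reduced, then
eventually the stages are not reduced. -/
theorem not_isReduced_of_isAffine {J : Type u} [SmallCategory J] [IsCofiltered J]
    (E : J ⥤ Scheme.{u}) (c : Cone E) (hc : IsLimit c) [∀ j, IsAffine (E.obj j)]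
    (h : ¬ IsReduced c.pt) : ∃ j : J, ∀ (k : J) (_ : k ⟶ j), ¬ IsReduced (E.obj k) := by
  have : IsAffine c.pt := Scheme.isAffine_of_isLimit c hc
  have h' : ¬ _root_.IsReduced Γ(c.pt, ⊤) := fun hr => h (isReduced_of_isAffine_isReduced c.pt)
  rw [isReduced_iff] at h'
  push Not at h'
  obtain ⟨s, ⟨n, hn⟩, hs0⟩ := h'
  obtain ⟨j, t, rfl⟩ := exists_appTop_π_eq_of_isAffine_of_isLimit E c hc s
  have h0 : (c.π.app j).appTop (t ^ n) = 0 := by rw [map_pow, hn]
  obtain ⟨j', f, hf⟩ := exists_appTop_map_eq_zero_of_isAffine_of_isLimit E c hc j (t ^ n) h0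
  refine ⟨j', fun k g hred => ?_⟩
  have h1 : ((E.map (g ≫ f)).appTop t) ^ n = 0 := by
    rw [← map_pow, E.map_comp, Scheme.Hom.comp_appTop, CommRingCat.comp_apply, hf, map_zero]
  have h2 : (E.map (g ≫ f)).appTop t = 0 := IsReduced.eq_zero _ ⟨n, h1⟩
  apply hs0
  rw [← c.w (g ≫ f), Scheme.Hom.comp_appTop, CommRingCat.comp_apply, h2, map_zero]

/-- Reducedness descends along flat surjective morphisms. -/
theorem isReduced_of_flat_of_surjective {X Y : Scheme.{u}} (f : X ⟶ Y) [Flat f] [Surjective f]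
    [IsReduced X] : IsReduced Y := by
  have : ∀ y : Y, _root_.IsReduced (Y.presheaf.stalk y) := by
    intro y
    obtain ⟨x, rfl⟩ := f.surjective y
    have hflat : (f.stalkMap x).hom.Flat := Flat.stalkMap f x
    algebraize [(f.stalkMap x).hom]
    have : IsLocalHom (algebraMap (Y.presheaf.stalk (f x)) (X.presheaf.stalk x)) := by
      rw [RingHom.algebraMap_toAlgebra]; infer_instance
    have := Module.FaithfullyFlat.of_flat_of_isLocalHom (A := Y.presheaf.stalk (f x))
      (B := X.presheaf.stalk x)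
    exact isReduced_of_injective (algebraMap (Y.presheaf.stalk (f x)) (X.presheaf.stalk x))
      (FaithfulSMul.algebraMap_injective _ _)
  exact isReduced_of_isReduced_stalk Y

variable {I : Type u} [SmallCategory I] [IsCofiltered I]
  (D : I ⥤ Scheme.{u}) (c : Cone D) (hc : IsLimit c)

include hc in
/-- If the limit is not reduced, then eventually the stages are not reduced. -/
theorem eventually_not_isReduced [∀ {i j : I} (f : i ⟶ j), IsAffineHom (D.map f)]
    (h : ¬ IsReduced c.pt) : ∃ i : I, ∀ (j : I) (_ : j ⟶ i), ¬ IsReduced (D.obj j) := by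
  have h1 : ∃ (i : I) (V : (D.obj i).Opens), IsAffineOpen V ∧
      ¬ IsReduced (c.π.app i ⁻¹ᵁ V : Scheme.{u}) := by
    by_contra hcon
    push Not at hcon
    apply h
    obtain ⟨i₁⟩ := IsCofiltered.nonempty (C := I)
    let U : (D.obj i₁).affineOpens → c.pt.Opens := fun V => c.π.app i₁ ⁻¹ᵁ V.1
    have hU : TopologicalSpace.IsOpenCover U := by
      rw [TopologicalSpace.IsOpenCover, ← top_le_iff]
      intro x _
      obtain ⟨_, ⟨V, hV : IsAffineOpen V, rfl⟩, hxV, -⟩ :=
        (D.obj i₁).isBasis_affineOpens.exists_subset_of_mem_open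
          (Set.mem_univ (c.π.app i₁ x)) isOpen_univ
      exact TopologicalSpace.Opens.mem_iSup.2 ⟨⟨V, hV⟩, hxV⟩
    have : ∀ V, IsReduced ((c.pt.openCoverOfIsOpenCover U hU).X V) := fun V => hcon i₁ V.1 V.2
    exact IsReduced.of_openCover _ (c.pt.openCoverOfIsOpenCover U hU)
  obtain ⟨i, V, hV, hred⟩ := h1
  have (j : Over i) : IsAffine ((opensDiagram D i V).obj j) := hV.preimage _
  obtain ⟨j₀, H⟩ := not_isReduced_of_isAffine (opensDiagram D i V) (opensCone D c i V)
    (isLimitOpensCone D c hc i V) hred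
  refine ⟨j₀.left, fun j φ hredj => ?_⟩
  let k : Over i := Over.mk (φ ≫ j₀.hom)
  let g : k ⟶ j₀ := Over.homMk φ
  have : IsReduced (D.obj k.left) := hredj
  exact H k g (inferInstanceAs (IsReduced (D.map k.hom ⁻¹ᵁ V : Scheme.{u})))

end Groth.Agent.Helper9.Lim8
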