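import Mathlib
import Groth.Agent.Lib.Helper9.LocFin

/-!
# Integral closure in the fraction field and localization (N-1 is local + generic)
-/

namespace Groth.Agent.Helper9.LocFinN1

section General
variable {R : Type*} [CommRing R] (S : Submonoid R) (RS : Type*) [CommRing RS] [Algebra R RS]
  [IsLocalization S RS] (K : Type*) [Field K] [Algebra R K] [Algebra RS K] [IsScalarTower R RS K]

theorem exists_fg_of_finite (h : Module.Finite RS (integralClosure RS K)) :
    ∃ D : Submodule R (integralClosure R K), D.FG ∧ ∀ x, ∃ s ∈ S, s • x ∈ D := by
  classical
  obtain ⟨T, hT⟩ := h.fg_top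
  have hex : ∀ t : integralClosure RS K, ∃ m : S, IsIntegral R (m • (t : K)) := fun t =>
    IsIntegral.exists_multiple_integral_of_isLocalization S (t : K) t.2
  choose m hm using hex
  let g : integralClosure RS K → integralClosure R K := fun t => ⟨m t • (t : K), hm t⟩
  refine ⟨Submodule.span R (g '' (T : Set _)), Submodule.fg_span (T.finite_toSet.image _), ?_⟩
  intro x
  let W : Set K := (fun t : integralClosure RS K => (m t : R) • (t : K)) '' (T : Set _)
  have hxW : (x : K) ∈ Submodule.span RS W := by
    have hx' : (⟨(x : K), x.2.tower_top⟩ : integralClosure RS K) ∈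
        Submodule.span RS (T : Set (integralClosure RS K)) := hT ▸ Submodule.mem_top
    have h2 := Submodule.apply_mem_span_image_of_mem_span
      (integralClosure RS K).val.toLinearMap hx'
    refine Submodule.span_le.mpr ?_ h2
    rintro _ ⟨t, ht, rfl⟩
    have hu : IsUnit (algebraMap R RS (m t)) := IsLocalization.map_units RS (m t)
    have h3 : ((integralClosure RS K).val.toLinearMap t : K) =
        (↑hu.unit⁻¹ : RS) • ((m t : R) • (t : K)) := by
      rw [← algebraMap_smul RS ((m t : S) : R) (t : K), smul_smul]
      simp
    rw [h3]
    exact Submodule.smul_mem _ _ (Submodule.subset_span ⟨t, ht, rfl⟩)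
  obtain ⟨y, hy, z, hz⟩ := (IsLocalization.mem_span_iff S).mp hxW
  have hWeq : W = (integralClosure R K).val.toLinearMap '' (g '' (T : Set _)) := by
    rw [Set.image_image]
    rfl
  rw [hWeq, ← Submodule.map_span] at hy
  obtain ⟨d, hd, rfl⟩ := hy
  refine ⟨z, z.2, ?_⟩
  have h4 : (z : R) • x = d := by
    apply Subtype.ext
    show (z : R) • (x : K) = (d : K)
    rw [hz, ← algebraMap_smul RS (z : R), smul_smul, IsLocalization.mk'_spec', map_one, one_smul]
    rfl
  rw [h4]
  exact hd

include S in
theorem finite_of_finite (h : Module.Finite R (integralClosure R K)) :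
    Module.Finite RS (integralClosure RS K) := by
  classical
  obtain ⟨T, hT⟩ := h.fg_top
  have hint : ∀ t : integralClosure R K, IsIntegral RS (t : K) := fun t => t.2.tower_top
  let g : integralClosure R K → integralClosure RS K := fun t => ⟨(t : K), hint t⟩
  refine ⟨⟨T.image g, ?_⟩⟩
  rw [eq_top_iff]
  rintro y -
  obtain ⟨s, hs⟩ := IsIntegral.exists_multiple_integral_of_isLocalization S (y : K) y.2
  have hx : (⟨s • (y : K), hs⟩ : integralClosure R K) ∈
      Submodule.span R (T : Set (integralClosure R K)) := hT ▸ Submodule.mem_top
  have key : ∀ x ∈ Submodule.span R (T : Set (integralClosure R K)),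
      g x ∈ Submodule.span RS ((T.image g : Finset _) : Set (integralClosure RS K)) := by
    intro x hx
    induction hx using Submodule.span_induction with
    | mem x hx =>
      refine Submodule.subset_span ?_
      rw [Finset.coe_image]
      exact ⟨x, hx, rfl⟩
    | zero =>
      have : g 0 = 0 := Subtype.ext rfl
      rw [this]
      exact Submodule.zero_mem _
    | add x y _ _ hx hy =>
      have : g (x + y) = g x + g y := Subtype.ext rfl
      rw [this]
      exact add_mem hx hy
    | smul r x _ hx =>
      have : g (r • x) = algebraMap R RS r • g x := by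
        apply Subtype.ext
        show r • (x : K) = algebraMap R RS r • (x : K)
        rw [algebraMap_smul]
      rw [this]
      exact Submodule.smul_mem _ _ hx
  have hu : IsUnit (algebraMap R RS s) := IsLocalization.map_units RS s
  have h3 : y = (↑hu.unit⁻¹ : RS) • g ⟨s • (y : K), hs⟩ := by
    apply Subtype.ext
    show (y : K) = (↑hu.unit⁻¹ : RS) • ((s : R) • (y : K))
    rw [← algebraMap_smul RS (s : R) (y : K), smul_smul]
    simp
  rw [h3]
  exact Submodule.smul_mem _ _ (key _ hx)

end General

section Frac
variable {R : Type*} [CommRing R] [IsDomain R] (S : Submonoid R) (hS : S ≤ nonZeroDivisors R)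

/-- the `Localization S`-algebra structure on the fraction field of `R`. -/
noncomputable def algK : Algebra (Localization S) (FractionRing R) :=
  (IsLocalization.lift (M := S) (S := Localization S) (g := algebraMap R (FractionRing R))
    (fun s => IsLocalization.map_units (FractionRing R)
      (⟨(s : R), hS s.2⟩ : nonZeroDivisors R))).toAlgebra

lemma tower : letI := algK S hS; IsScalarTower R (Localization S) (FractionRing R) := by
  letI := algK S hS
  exact IsScalarTower.of_algebraMap_eq (fun r => (IsLocalization.lift_eq _ r).symm)

lemma isFrac : letI := algK S hS; IsFractionRing (Localization S) (FractionRing R) := by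
  letI := algK S hS
  haveI := tower S hS
  exact IsFractionRing.isFractionRing_of_isDomain_of_isLocalization S (Localization S)
    (FractionRing R)

/-- transfer: N-1 for `Localization S` may be tested in `Frac R`. -/
lemma finite_iff [IsDomain (Localization S)] : letI := algK S hS;
    Module.Finite (Localization S)
      (integralClosure (Localization S) (FractionRing (Localization S))) ↔
    Module.Finite (Localization S) (integralClosure (Localization S) (FractionRing R)) := by
  letI := algK S hS
  haveI := tower S hS
  haveI := isFrac S hS
  let e := (AlgEquiv.mapIntegralClosure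
    (FractionRing.algEquiv (Localization S) (FractionRing R))).toLinearEquiv
  exact ⟨fun h => Module.Finite.equiv e, fun h => Module.Finite.equiv e.symm⟩

include hS in
/-- Lemma A -/
theorem exists_fg_of_isN1 [IsDomain (Localization S)]
    (h : Module.Finite (Localization S)
      (integralClosure (Localization S) (FractionRing (Localization S)))) :
    ∃ D : Submodule R (integralClosure R (FractionRing R)), D.FG ∧ ∀ x, ∃ s ∈ S, s • x ∈ D := by
  letI := algK S hS
  haveI := tower S hS
  exact exists_fg_of_finite S (Localization S) (FractionRing R) ((finite_iff S hS).mp h)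

include hS in
/-- Lemma B -/
theorem isN1_localization [IsDomain (Localization S)]
    (h : Module.Finite R (integralClosure R (FractionRing R))) :
    Module.Finite (Localization S)
      (integralClosure (Localization S) (FractionRing (Localization S))) := by
  letI := algK S hS
  haveI := tower S hS
  exact (finite_iff S hS).mpr (finite_of_finite S (Localization S) (FractionRing R) h)

/-- Lemma C -/
theorem exists_pow_smul_eq (f : R) (hf : f ≠ 0) (h : IsIntegrallyClosed (Localization.Away f))
    (x : integralClosure R (FractionRing R)) :
    ∃ (k : ℕ) (a : R), f ^ k • x = algebraMap R _ a := by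
  have hS : Submonoid.powers f ≤ nonZeroDivisors R := powers_le_nonZeroDivisors_of_noZeroDivisors hf
  letI := algK (Submonoid.powers f) hS
  haveI := tower (Submonoid.powers f) hS
  haveI := isFrac (Submonoid.powers f) hS
  have hx : IsIntegral (Localization.Away f) (x : FractionRing R) := x.2.tower_top
  obtain ⟨y, hy⟩ := (isIntegrallyClosed_iff (FractionRing R)).mp h hx
  obtain ⟨a, ⟨_, k, rfl⟩, rfl⟩ := IsLocalization.exists_mk'_eq (Submonoid.powers f) y
  refine ⟨k, a, Subtype.ext ?_⟩
  show f ^ k • (x : FractionRing R) = algebraMap R (FractionRing R) a
  rw [← hy, ← algebraMap_smul (Localization.Away f) (f ^ k), Algebra.smul_def, ← map_mul,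
    IsScalarTower.algebraMap_apply R (Localization.Away f) (FractionRing R) a]
  congr 1
  exact IsLocalization.mk'_spec' _ a (⟨f ^ k, ⟨k, rfl⟩⟩ : Submonoid.powers f)

/-- Lemma D -/
theorem exists_isIntegrallyClosed_away
    (h : Module.Finite R (integralClosure R (FractionRing R))) :
    ∃ f : R, f ≠ 0 ∧ IsIntegrallyClosed (Localization.Away f) := by
  classical
  obtain ⟨T, hT⟩ := h.fg_top
  obtain ⟨b, hb⟩ := IsLocalization.exist_integer_multiples_of_finset (nonZeroDivisors R)
    (T.image (fun t : integralClosure R (FractionRing R) => (t : FractionRing R)))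
  have hb0 : (b : R) ≠ 0 := nonZeroDivisors.coe_ne_zero b
  refine ⟨b, hb0, ?_⟩
  have hall : ∀ x : integralClosure R (FractionRing R),
      IsLocalization.IsInteger R ((b : R) • (x : FractionRing R)) := by
    intro x
    have hx : x ∈ Submodule.span R (T : Set (integralClosure R (FractionRing R))) :=
      hT ▸ Submodule.mem_top
    induction hx using Submodule.span_induction with
    | mem x hx => exact hb _ (Finset.mem_image_of_mem _ hx)
    | zero =>
      rw [ZeroMemClass.coe_zero, smul_zero]
      exact IsLocalization.isInteger_zero
    | add x y _ _ hx hy =>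
      rw [AddMemClass.coe_add, smul_add]
      exact IsLocalization.isInteger_add hx hy
    | smul r x _ hx =>
      have : (b : R) • ((r • x : integralClosure R (FractionRing R)) : FractionRing R) =
          r • ((b : R) • (x : FractionRing R)) := by
        rw [smul_comm]
        rfl
      rw [this]
      exact IsLocalization.isInteger_smul hx
  have hS : Submonoid.powers (b : R) ≤ nonZeroDivisors R :=
    powers_le_nonZeroDivisors_of_noZeroDivisors hb0
  letI := algK (Submonoid.powers (b : R)) hS
  haveI := tower (Submonoid.powers (b : R)) hS
  haveI := isFrac (Submonoid.powers (b : R)) hS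
  rw [isIntegrallyClosed_iff (FractionRing R)]
  intro y hy
  obtain ⟨s, hs⟩ := IsIntegral.exists_multiple_integral_of_isLocalization
    (Submonoid.powers (b : R)) y hy
  obtain ⟨a, ha⟩ := hall ⟨s • y, hs⟩
  -- ha : algebraMap R K a = b • (s • y)
  let t : Submonoid.powers (b : R) := ⟨(b : R), Submonoid.mem_powers _⟩ * s
  refine ⟨IsLocalization.mk' (Localization.Away (b : R)) a t, ?_⟩
  have ht0 : algebraMap R (FractionRing R) (t : R) ≠ 0 := by
    intro h0
    have := (IsFractionRing.injective R (FractionRing R)) (h0.trans (map_zero _).symm)
    exact nonZeroDivisors.ne_zero (hS t.2) this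
  have h1 : algebraMap (Localization.Away (b : R)) (FractionRing R)
      (IsLocalization.mk' (Localization.Away (b : R)) a t) * algebraMap R (FractionRing R) (t : R)
      = algebraMap R (FractionRing R) a := by
    rw [IsScalarTower.algebraMap_apply R (Localization.Away (b : R)) (FractionRing R) (t : R),
      ← map_mul, IsLocalization.mk'_spec,
      ← IsScalarTower.algebraMap_apply R (Localization.Away (b : R)) (FractionRing R)]
  have h2 : y * algebraMap R (FractionRing R) (t : R) = algebraMap R (FractionRing R) a := by
    rw [ha]
    show y * algebraMap R (FractionRing R) ((b : R) * (s : R)) = (b : R) • ((s : R) • y)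
    rw [Algebra.smul_def, Algebra.smul_def, map_mul]
    ring
  exact mul_right_cancel₀ ht0 (h1.trans h2.symm)

end Frac

end Groth.Agent.Helper9.LocFinN1
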