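import Mathlib

/-!
# Quotients `A[T_1..T_r]/(F_1(T_1),…,F_r(T_r))` by monic one-variable polynomials with
non-leading coefficients in the maximal ideal of a local ring `A`.
-/

namespace Groth.Agent.Helper9.MonicFam

open IsLocalRing MvPolynomial

universe u
variable {A : Type u} [CommRing A] {r : ℕ} (d : Fin r → ℕ) (c : Fin r → ℕ → A)

/-- the family `F_i = X_i^{d_i} + Σ_{k<d_i} c_{ik} X_i^k`. -/
noncomputable def F : Fin r → MvPolynomial (Fin r) A := fun i =>
  X i ^ d i + (Finset.range (d i)).sum fun k => C (c i k) * X i ^ k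

/-- the quotient ring -/
abbrev Q : Type u := MvPolynomial (Fin r) A ⧸ Ideal.span (Set.range (F d c))

/-- the class of `X_i`. -/
noncomputable def t (i : Fin r) : Q d c := Ideal.Quotient.mk _ (X i)

/-- the ideal generated by the `t_i`. -/
noncomputable def T : Ideal (Q d c) := Ideal.span (Set.range (t d c))

theorem decomp (p : MvPolynomial (Fin r) A) :
    p - C (constantCoeff p) ∈ Ideal.span (Set.range (X : Fin r → MvPolynomial (Fin r) A)) := by
  induction p using MvPolynomial.induction_on with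
  | C a => simp
  | add p q hp hq =>
    have : p + q - C (constantCoeff (p + q)) =
        (p - C (constantCoeff p)) + (q - C (constantCoeff q)) := by
      rw [map_add, map_add]; ring
    rw [this]; exact add_mem hp hq
  | mul_X p i _ =>
    have : p * X i - C (constantCoeff (p * X i)) = p * X i := by
      rw [map_mul, constantCoeff_X, mul_zero, map_zero, sub_zero]
    rw [this]
    exact Ideal.mul_mem_left _ _ (Ideal.subset_span ⟨i, rfl⟩)

theorem rel (i : Fin r) :
    t d c i ^ d i +
      (Finset.range (d i)).sum (fun k => algebraMap A (Q d c) (c i k) * t d c i ^ k) = 0 := by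
  have h : (Ideal.Quotient.mk (Ideal.span (Set.range (F d c))) (F d c i) : Q d c) = 0 :=
    Ideal.Quotient.eq_zero_iff_mem.mpr (Ideal.subset_span ⟨i, rfl⟩)
  simp only [F, map_add, map_pow, map_sum, map_mul] at h
  exact h

theorem exists_decomp (x : Q d c) : ∃ a : A, x - algebraMap A (Q d c) a ∈ T d c := by
  obtain ⟨p, rfl⟩ := Ideal.Quotient.mk_surjective x
  refine ⟨constantCoeff p, ?_⟩
  have h := Ideal.mem_map_of_mem (Ideal.Quotient.mk (Ideal.span (Set.range (F d c)))) (decomp p)
  rw [Ideal.map_span, ← Set.range_comp, map_sub] at h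
  exact h

/-- a ring hom out of `Q` killing the `t_i`, for any ideal containing the constant terms. -/
noncomputable def ε (hd : ∀ i, d i ≠ 0) (J : Ideal A) (hJ : ∀ i, c i 0 ∈ J) : Q d c →+* A ⧸ J :=
  Ideal.Quotient.lift _ (eval₂Hom (Ideal.Quotient.mk J) (fun _ => 0)) (by
    intro p hp
    have hle : Ideal.span (Set.range (F d c)) ≤
        RingHom.ker (eval₂Hom (Ideal.Quotient.mk J) (fun _ : Fin r => (0 : A ⧸ J))) := by
      rw [Ideal.span_le]
      rintro _ ⟨i, rfl⟩
      show eval₂Hom (Ideal.Quotient.mk J) (fun _ : Fin r => (0 : A ⧸ J)) (F d c i) = 0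
      simp only [F, map_add, map_pow, map_sum, map_mul, eval₂Hom_X', eval₂Hom_C, zero_pow (hd i),
        zero_add]
      rw [Finset.sum_eq_single_of_mem 0 (Finset.mem_range.mpr (Nat.pos_of_ne_zero (hd i)))
        (fun k _ hk => by rw [zero_pow hk, mul_zero]), pow_zero, mul_one]
      exact Ideal.Quotient.eq_zero_iff_mem.mpr (hJ i)
    exact hle hp)

theorem ε_algebraMap (hd : ∀ i, d i ≠ 0) (J : Ideal A) (hJ : ∀ i, c i 0 ∈ J) (a : A) :
    ε d c hd J hJ (algebraMap A (Q d c) a) = Ideal.Quotient.mk J a := by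
  show eval₂Hom (Ideal.Quotient.mk J) (fun _ : Fin r => (0 : A ⧸ J)) (C a) = _
  rw [eval₂Hom_C]

theorem ε_t (hd : ∀ i, d i ≠ 0) (J : Ideal A) (hJ : ∀ i, c i 0 ∈ J) (i : Fin r) :
    ε d c hd J hJ (t d c i) = 0 := by
  show eval₂Hom (Ideal.Quotient.mk J) (fun _ : Fin r => (0 : A ⧸ J)) (X i) = _
  rw [eval₂Hom_X']

theorem ε_T (hd : ∀ i, d i ≠ 0) (J : Ideal A) (hJ : ∀ i, c i 0 ∈ J) {n : Q d c}
    (hn : n ∈ T d c) : ε d c hd J hJ n = 0 := by
  have hle : T d c ≤ RingHom.ker (ε d c hd J hJ) := by
    rw [T, Ideal.span_le]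
    rintro _ ⟨i, rfl⟩
    exact ε_t d c hd J hJ i
  exact hle hn

section Local
variable [IsLocalRing A]

/-- the residue map -/
noncomputable def ρ (hd : ∀ i, d i ≠ 0) (hc : ∀ i k, c i k ∈ maximalIdeal A) :
    Q d c →+* ResidueField A :=
  Ideal.Quotient.lift _ (eval₂Hom (residue A) (fun _ => 0)) (by
    intro p hp
    have hle : Ideal.span (Set.range (F d c)) ≤
        RingHom.ker (eval₂Hom (residue A) (fun _ : Fin r => (0 : ResidueField A))) := by
      rw [Ideal.span_le]
      rintro _ ⟨i, rfl⟩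
      show eval₂Hom (residue A) (fun _ : Fin r => (0 : ResidueField A)) (F d c i) = 0
      simp only [F, map_add, map_pow, map_sum, map_mul, eval₂Hom_X', eval₂Hom_C, zero_pow (hd i),
        zero_add]
      apply Finset.sum_eq_zero
      intro k _
      rw [(residue_eq_zero_iff _).mpr (hc i k), zero_mul]
    exact hle hp)

variable (hd : ∀ i, d i ≠ 0) (hc : ∀ i k, c i k ∈ maximalIdeal A)

theorem ρ_algebraMap (a : A) : ρ d c hd hc (algebraMap A (Q d c) a) = residue A a := by
  show eval₂Hom (residue A) (fun _ : Fin r => (0 : ResidueField A)) (C a) = _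
  rw [eval₂Hom_C]

theorem ρ_t (i : Fin r) : ρ d c hd hc (t d c i) = 0 := by
  show eval₂Hom (residue A) (fun _ : Fin r => (0 : ResidueField A)) (X i) = _
  rw [eval₂Hom_X']

theorem ρ_T {n : Q d c} (hn : n ∈ T d c) : ρ d c hd hc n = 0 := by
  have hle : T d c ≤ RingHom.ker (ρ d c hd hc) := by
    rw [T, Ideal.span_le]
    rintro _ ⟨i, rfl⟩
    exact ρ_t d c hd hc i
  exact hle hn

theorem ρ_surjective : Function.Surjective (ρ d c hd hc) := by
  intro y
  obtain ⟨a, rfl⟩ := residue_surjective y
  exact ⟨algebraMap A (Q d c) a, ρ_algebraMap d c hd hc a⟩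

theorem isIntegral_t (i : Fin r) : IsIntegral A (t d c i) := by
  refine ⟨Polynomial.X ^ d i + (Finset.range (d i)).sum
    (fun k => Polynomial.C (c i k) * Polynomial.X ^ k), ?_, ?_⟩
  · apply Polynomial.monic_X_pow_add
    rw [← Polynomial.mem_degreeLT]
    refine Submodule.sum_mem _ (fun k hk => ?_)
    rw [Polynomial.mem_degreeLT]
    exact lt_of_le_of_lt (Polynomial.degree_C_mul_X_pow_le k _)
      (by exact_mod_cast Finset.mem_range.mp hk)
  · simp only [Polynomial.eval₂_add, Polynomial.eval₂_pow, Polynomial.eval₂_X,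
      Polynomial.eval₂_finset_sum, Polynomial.eval₂_mul, Polynomial.eval₂_C]
    exact rel d c i

instance isIntegral : Algebra.IsIntegral A (Q d c) := by
  refine ⟨fun x => ?_⟩
  obtain ⟨p, rfl⟩ := Ideal.Quotient.mk_surjective x
  induction p using MvPolynomial.induction_on with
  | C a => exact isIntegral_algebraMap (x := a)
  | add p q hp hq => rw [map_add]; exact hp.add hq
  | mul_X p i hp => rw [map_mul]; exact hp.mul (isIntegral_t d c i)

include hd hc in
theorem ker_ρ_le (M : Ideal (Q d c)) [hM : M.IsMaximal] : RingHom.ker (ρ d c hd hc) ≤ M := by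
  have hcomap : M.comap (algebraMap A (Q d c)) = maximalIdeal A :=
    eq_maximalIdeal (Ideal.isMaximal_comap_of_isIntegral_of_isMaximal (R := A) M)
  have halg : ∀ a ∈ maximalIdeal A, algebraMap A (Q d c) a ∈ M := fun a ha => by
    rw [← hcomap] at ha
    exact ha
  have ht : ∀ i, t d c i ∈ M := by
    intro i
    have h1 : t d c i ^ d i ∈ M := by
      have h2 := rel d c i
      rw [add_eq_zero_iff_eq_neg] at h2
      rw [h2]
      exact M.neg_mem (M.sum_mem (fun k _ => M.mul_mem_right _ (halg _ (hc i k))))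
    exact hM.isPrime.mem_of_pow_mem _ h1
  intro x hx
  obtain ⟨a, ha⟩ := exists_decomp d c x
  have hTM : T d c ≤ M := by
    rw [T, Ideal.span_le]
    rintro _ ⟨i, rfl⟩
    exact ht i
  have hxa : ρ d c hd hc x = residue A a := by
    have := ρ_T d c hd hc ha
    rw [map_sub, sub_eq_zero, ρ_algebraMap] at this
    exact this
  have ham : a ∈ maximalIdeal A := by
    rw [← residue_eq_zero_iff, ← hxa]
    exact hx
  have : x = (x - algebraMap A (Q d c) a) + algebraMap A (Q d c) a := by ring
  rw [this]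
  exact M.add_mem (hTM ha) (halg a ham)

include hd hc in
theorem isLocalRing : IsLocalRing (Q d c) := by
  have hmax : (RingHom.ker (ρ d c hd hc)).IsMaximal :=
    RingHom.ker_isMaximal_of_surjective _ (ρ_surjective d c hd hc)
  refine IsLocalRing.of_unique_max_ideal ⟨_, hmax, fun M hM => ?_⟩
  haveI := hM
  exact (hmax.eq_of_le hM.ne_top (ker_ρ_le d c hd hc M)).symm

theorem maximalIdeal_eq [IsLocalRing (Q d c)] :
    maximalIdeal (Q d c) = RingHom.ker (ρ d c hd hc) :=
  (eq_maximalIdeal (RingHom.ker_isMaximal_of_surjective _ (ρ_surjective d c hd hc))).symm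

theorem mem_maximalIdeal_iff [IsLocalRing (Q d c)] (x : Q d c) :
    x ∈ maximalIdeal (Q d c) ↔ ρ d c hd hc x = 0 := by
  rw [maximalIdeal_eq d c hd hc, RingHom.mem_ker]

include hd hc in
theorem t_mem [IsLocalRing (Q d c)] (i : Fin r) : t d c i ∈ maximalIdeal (Q d c) :=
  (mem_maximalIdeal_iff d c hd hc _).mpr (ρ_t d c hd hc i)

include hd hc in
theorem T_le [IsLocalRing (Q d c)] : T d c ≤ maximalIdeal (Q d c) := by
  rw [T, Ideal.span_le]
  rintro _ ⟨i, rfl⟩
  exact t_mem d c hd hc i

include hd hc in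
theorem algebraMap_mem [IsLocalRing (Q d c)] {a : A} (ha : a ∈ maximalIdeal A) :
    algebraMap A (Q d c) a ∈ maximalIdeal (Q d c) := by
  rw [mem_maximalIdeal_iff d c hd hc, ρ_algebraMap, residue_eq_zero_iff]
  exact ha

include hd hc in
theorem surjective_mk_comp [IsLocalRing (Q d c)] :
    Function.Surjective ((Ideal.Quotient.mk (maximalIdeal (Q d c))).comp
      (algebraMap A (Q d c))) := by
  intro y
  obtain ⟨x, rfl⟩ := Ideal.Quotient.mk_surjective y
  obtain ⟨a, ha⟩ := exists_decomp d c x
  refine ⟨a, ?_⟩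
  rw [RingHom.comp_apply, eq_comm, Ideal.Quotient.eq]
  exact T_le d c hd hc ha

include hd hc in
/-- `m ∩ (m'^2)ᶜ = m² + (c_{i0})` when all `d_i ≥ 2`. -/
theorem inf_comap_sq [IsLocalRing (Q d c)] (hd2 : ∀ i, 2 ≤ d i) :
    maximalIdeal A ⊓ Ideal.comap (algebraMap A (Q d c)) (maximalIdeal (Q d c) ^ 2) =
      maximalIdeal A ^ 2 ⊔ Ideal.span (Set.range fun i => c i 0) := by
  apply le_antisymm
  · rintro a ⟨ham, ha2⟩
    set J : Ideal A := maximalIdeal A ^ 2 ⊔ Ideal.span (Set.range fun i => c i 0) with hJdef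
    have hJ : ∀ i, c i 0 ∈ J := fun i =>
      (le_sup_right : _ ≤ J) (Ideal.subset_span ⟨i, rfl⟩)
    have hmap : Ideal.map (ε d c hd J hJ) (maximalIdeal (Q d c)) ≤
        Ideal.map (Ideal.Quotient.mk J) (maximalIdeal A) := by
      rw [Ideal.map_le_iff_le_comap]
      intro x hx
      obtain ⟨a', ha'⟩ := exists_decomp d c x
      have hxa : ρ d c hd hc x = residue A a' := by
        have := ρ_T d c hd hc ha'
        rw [map_sub, sub_eq_zero, ρ_algebraMap] at this
        exact this
      have ham' : a' ∈ maximalIdeal A := by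
        rw [← residue_eq_zero_iff, ← hxa]
        exact (mem_maximalIdeal_iff d c hd hc x).mp hx
      have hεx : ε d c hd J hJ x = Ideal.Quotient.mk J a' := by
        have := ε_T d c hd J hJ ha'
        rw [map_sub, sub_eq_zero, ε_algebraMap] at this
        exact this
      rw [Ideal.mem_comap, hεx]
      exact Ideal.mem_map_of_mem _ ham'
    have h1 : ε d c hd J hJ (algebraMap A (Q d c) a) ∈
        Ideal.map (ε d c hd J hJ) (maximalIdeal (Q d c) ^ 2) := Ideal.mem_map_of_mem _ ha2
    rw [Ideal.map_pow, ε_algebraMap] at h1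
    have h2 : Ideal.map (Ideal.Quotient.mk J) (maximalIdeal A) ^ 2 = ⊥ := by
      rw [← Ideal.map_pow, Ideal.map_eq_bot_iff_le_ker, Ideal.mk_ker]
      exact le_sup_left
    have h3 := (Ideal.pow_right_mono hmap 2) h1
    rw [h2, Ideal.mem_bot] at h3
    exact Ideal.Quotient.eq_zero_iff_mem.mp h3
  · apply sup_le
    · refine le_inf (Ideal.pow_le_self two_ne_zero) ?_
      refine le_trans ?_ (Ideal.le_comap_pow _ 2)
      apply Ideal.pow_right_mono
      intro a ha
      exact algebraMap_mem d c hd hc ha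
    · rw [Ideal.span_le]
      rintro _ ⟨i, rfl⟩
      refine ⟨hc i 0, ?_⟩
      show algebraMap A (Q d c) (c i 0) ∈ maximalIdeal (Q d c) ^ 2
      have h0 : (0 : ℕ) ∈ Finset.range (d i) := Finset.mem_range.mpr (by have := hd2 i; omega)
      have hrel := rel d c i
      rw [← Finset.sum_erase_add _ _ h0, pow_zero, mul_one, ← add_assoc,
        add_eq_zero_iff_eq_neg'] at hrel
      rw [hrel]
      apply neg_mem
      apply add_mem
      · have : t d c i ^ d i = t d c i ^ 2 * t d c i ^ (d i - 2) := by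
          rw [← pow_add]; congr 1; have := hd2 i; omega
        rw [this]
        exact Ideal.mul_mem_right _ _ (Ideal.pow_mem_pow (t_mem d c hd hc i) 2)
      · refine Ideal.sum_mem _ (fun k hk => ?_)
        have hk0 : k ≠ 0 := (Finset.mem_erase.mp hk).1
        rw [pow_two]
        apply Ideal.mul_mem_mul (algebraMap_mem d c hd hc (hc i k))
        have : t d c i ^ k = t d c i * t d c i ^ (k - 1) := by
          rw [← pow_succ']; congr 1; omega
        rw [this]
        exact Ideal.mul_mem_right _ _ (t_mem d c hd hc i)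

end Local

end Groth.Agent.Helper9.MonicFam
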