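import Mathlib
import Groth.Agent.Lib.Helper9.MonicFam
import Groth.Agent.H29.RegLocalization
import Groth.Agent.H29.IntegralDim
import Groth.Agent.H29.RegLocal2

/-!
# Regularity of `A[T_1..T_r]/(F_1(T_1),…,F_r(T_r))` over a regular local ring `A`
-/

namespace Groth.Agent.Helper9.MonicFam

open IsLocalRing MvPolynomial

universe u
variable {A : Type u} [CommRing A] {r : ℕ} (d : Fin r → ℕ) (c : Fin r → ℕ → A)

/-- the one-variable polynomial. -/
noncomputable def pol (i : Fin r) : Polynomial A :=
  Polynomial.X ^ d i + (Finset.range (d i)).sum (fun k => Polynomial.C (c i k) * Polynomial.X ^ k)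

theorem degree_sum_lt (i : Fin r) :
    ((Finset.range (d i)).sum (fun k => Polynomial.C (c i k) * Polynomial.X ^ k)).degree <
      ((d i : ℕ) : WithBot ℕ) := by
  rw [← Polynomial.mem_degreeLT]
  refine Submodule.sum_mem _ (fun k hk => ?_)
  rw [Polynomial.mem_degreeLT]
  exact lt_of_le_of_lt (Polynomial.degree_C_mul_X_pow_le k _)
    (by exact_mod_cast Finset.mem_range.mp hk)

theorem pol_monic (i : Fin r) : (pol d c i).Monic :=
  Polynomial.monic_X_pow_add (degree_sum_lt d c i)

theorem pol_degree [Nontrivial A] (i : Fin r) : (pol d c i).degree = d i := by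
  rw [pol, Polynomial.degree_add_eq_left_of_degree_lt, Polynomial.degree_X_pow]
  rw [Polynomial.degree_X_pow]
  exact degree_sum_lt d c i

theorem algebraMap_injective [IsDomain A] (hd : ∀ i, d i ≠ 0) :
    Function.Injective (algebraMap A (Q d c)) := by
  classical
  have hroot : ∀ i, ∃ β : AlgebraicClosure (FractionRing A),
      Polynomial.eval₂ (algebraMap A (AlgebraicClosure (FractionRing A))) β (pol d c i) = 0 := by
    intro i
    have h1 : ((pol d c i).map
        (algebraMap A (AlgebraicClosure (FractionRing A)))).degree ≠ 0 := by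
      rw [(pol_monic d c i).degree_map, pol_degree]
      exact_mod_cast hd i
    obtain ⟨β, hβ⟩ := IsAlgClosed.exists_root _ h1
    exact ⟨β, by rwa [Polynomial.IsRoot.def, Polynomial.eval_map] at hβ⟩
  choose β hβ using hroot
  have hle : Ideal.span (Set.range (F d c)) ≤
      RingHom.ker (eval₂Hom (algebraMap A (AlgebraicClosure (FractionRing A))) β) := by
    rw [Ideal.span_le]
    rintro _ ⟨i, rfl⟩
    show eval₂Hom (algebraMap A (AlgebraicClosure (FractionRing A))) β (F d c i) = 0
    have h2 := hβ i
    simp only [pol, Polynomial.eval₂_add, Polynomial.eval₂_pow, Polynomial.eval₂_X,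
      Polynomial.eval₂_finset_sum, Polynomial.eval₂_mul, Polynomial.eval₂_C] at h2
    simp only [F, map_add, map_pow, map_sum, map_mul, eval₂Hom_X', eval₂Hom_C]
    exact h2
  let ψ : Q d c →+* AlgebraicClosure (FractionRing A) :=
    Ideal.Quotient.lift _ (eval₂Hom (algebraMap A (AlgebraicClosure (FractionRing A))) β)
      (fun q hq => hle hq)
  have hcomp : ∀ a, ψ (algebraMap A (Q d c) a) =
      algebraMap A (AlgebraicClosure (FractionRing A)) a := fun a => by
    show eval₂Hom (algebraMap A (AlgebraicClosure (FractionRing A))) β (C a) = _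
    rw [eval₂Hom_C]
  have hinj : Function.Injective (algebraMap A (AlgebraicClosure (FractionRing A))) := by
    rw [IsScalarTower.algebraMap_eq A (FractionRing A) (AlgebraicClosure (FractionRing A))]
    exact (algebraMap (FractionRing A) (AlgebraicClosure (FractionRing A))).injective.comp
      (IsFractionRing.injective A (FractionRing A))
  intro a b hab
  apply hinj
  rw [← hcomp, ← hcomp, hab]

section Theta
variable (A) in
/-- the dual-number points -/
noncomputable def e [IsLocalRing A] (i j : Fin r) : DualNumber (ResidueField A) :=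
  if j = i then DualNumber.eps else 0

variable [IsLocalRing A]

theorem e_sq (i j : Fin r) : e A i j * e A i j = 0 := by
  unfold e
  split_ifs <;> simp

theorem fst_e (i j : Fin r) : (e A i j).fst = 0 := by
  unfold e
  split_ifs <;> simp

theorem snd_e (i j : Fin r) : (e A i j).snd = if j = i then 1 else 0 := by
  unfold e
  split_ifs <;> simp

theorem mul_eq_zero_of_fst {K : Type*} [Field K] {x y : DualNumber K} (hx : x.fst = 0)
    (hy : y.fst = 0) : x * y = 0 := by
  apply TrivSqZeroExt.ext
  · simp [hx]
  · simp [hx, hy]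

variable (hd2 : ∀ i, 2 ≤ d i) (hc : ∀ i k, c i k ∈ maximalIdeal A)

/-- the `i`-th tangent vector, as a ring hom to the dual numbers. -/
noncomputable def θ (i : Fin r) : Q d c →+* DualNumber (ResidueField A) :=
  Ideal.Quotient.lift _ (eval₂Hom
    ((TrivSqZeroExt.inlHom (ResidueField A) (ResidueField A)).comp (residue A)) (e A i)) (by
    intro p hp
    have hle : Ideal.span (Set.range (F d c)) ≤ RingHom.ker (eval₂Hom
        ((TrivSqZeroExt.inlHom (ResidueField A) (ResidueField A)).comp (residue A)) (e A i)) := by
      rw [Ideal.span_le]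
      rintro _ ⟨j, rfl⟩
      show eval₂Hom ((TrivSqZeroExt.inlHom (ResidueField A) (ResidueField A)).comp (residue A))
        (e A i) (F d c j) = 0
      simp only [F, map_add, map_pow, map_sum, map_mul, eval₂Hom_X', eval₂Hom_C,
        RingHom.comp_apply]
      have h1 : e A i j ^ d j = 0 := by
        have : d j = 2 + (d j - 2) := by have := hd2 j; omega
        rw [this, pow_add, pow_two, e_sq, zero_mul]
      rw [h1, zero_add]
      apply Finset.sum_eq_zero
      intro k _
      rw [(residue_eq_zero_iff _).mpr (hc j k), map_zero, zero_mul]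
    exact hle hp)

theorem θ_algebraMap (i : Fin r) (a : A) :
    θ d c hd2 hc i (algebraMap A (Q d c) a) = TrivSqZeroExt.inl (residue A a) := by
  show eval₂Hom ((TrivSqZeroExt.inlHom (ResidueField A) (ResidueField A)).comp (residue A))
    (e A i) (C a) = _
  rw [eval₂Hom_C]
  rfl

theorem θ_t (i j : Fin r) : θ d c hd2 hc i (t d c j) = e A i j := by
  show eval₂Hom ((TrivSqZeroExt.inlHom (ResidueField A) (ResidueField A)).comp (residue A))
    (e A i) (X j) = _
  rw [eval₂Hom_X']

theorem fst_θ (i : Fin r) (x : Q d c) :
    (θ d c hd2 hc i x).fst = ρ d c (fun i => by have := hd2 i; omega) hc x := by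
  obtain ⟨p, rfl⟩ := Ideal.Quotient.mk_surjective x
  induction p using MvPolynomial.induction_on with
  | C a =>
    have h1 := θ_algebraMap d c hd2 hc i a
    have h2 := ρ_algebraMap d c (fun i => by have := hd2 i; omega) hc a
    rw [show (Ideal.Quotient.mk (Ideal.span (Set.range (F d c))) (C a) : Q d c) =
      algebraMap A (Q d c) a from rfl, h1, h2]
    rfl
  | add p q hp hq => rw [map_add, map_add, map_add, TrivSqZeroExt.fst_add, hp, hq]
  | mul_X p j hp =>
    rw [map_mul, map_mul, map_mul, TrivSqZeroExt.fst_mul, hp]
    have h1 := θ_t d c hd2 hc i j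
    have h2 := ρ_t d c (fun i => by have := hd2 i; omega) hc j
    rw [show (Ideal.Quotient.mk (Ideal.span (Set.range (F d c))) (X j) : Q d c) = t d c j from rfl,
      h1, h2, fst_e]

theorem θ_sq [IsLocalRing (Q d c)] (i : Fin r) {x : Q d c} (hx : x ∈ maximalIdeal (Q d c) ^ 2) :
    θ d c hd2 hc i x = 0 := by
  rw [pow_two] at hx
  refine Submodule.mul_induction_on hx (fun a ha b hb => ?_) (fun x y hx hy => ?_)
  · rw [map_mul]
    apply mul_eq_zero_of_fst
    · rw [fst_θ]
      exact (mem_maximalIdeal_iff d c _ hc a).mp ha
    · rw [fst_θ]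
      exact (mem_maximalIdeal_iff d c _ hc b).mp hb
  · rw [map_add, hx, hy, add_zero]

end Theta

section Reg
variable [IsRegularLocalRing A] (hd2 : ∀ i, 2 ≤ d i) (hc : ∀ i k, c i k ∈ maximalIdeal A)

/-- the classes of the constant terms in the cotangent space -/
noncomputable def cbar (i : Fin r) : CotangentSpace A :=
  (maximalIdeal A).toCotangent ⟨c i 0, hc i 0⟩

/-- their span -/
noncomputable def W : Submodule (ResidueField A) (CotangentSpace A) :=
  Submodule.span _ (Set.range (cbar c hc))

theorem toCotangent_mem_W (z : maximalIdeal A)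
    (hz : (z : A) ∈ maximalIdeal A ^ 2 ⊔ Ideal.span (Set.range fun i => c i 0)) :
    (maximalIdeal A).toCotangent z ∈ W c hc := by
  let W' : Submodule A (maximalIdeal A) :=
    ((W c hc).restrictScalars A).comap (maximalIdeal A).toCotangent
  have hle : maximalIdeal A ^ 2 ⊔ Ideal.span (Set.range fun i => c i 0) ≤
      W'.map (Submodule.subtype (maximalIdeal A)) := by
    apply sup_le
    · intro x hx
      have hxm : x ∈ maximalIdeal A := Ideal.pow_le_self two_ne_zero hx
      refine ⟨⟨x, hxm⟩, ?_, rfl⟩
      show (maximalIdeal A).toCotangent ⟨x, hxm⟩ ∈ W c hc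
      rw [(Ideal.toCotangent_eq_zero _ _).mpr hx]
      exact Submodule.zero_mem _
    · rw [Ideal.span_le]
      rintro _ ⟨i, rfl⟩
      refine ⟨⟨c i 0, hc i 0⟩, ?_, rfl⟩
      show (maximalIdeal A).toCotangent ⟨c i 0, hc i 0⟩ ∈ W c hc
      exact Submodule.subset_span ⟨i, rfl⟩
  obtain ⟨z', hz', hzz⟩ := hle hz
  have : z' = z := Subtype.ext hzz
  rw [← this]
  exact hz'

include hd2 in
/-- The dimension of the cotangent space of `Q`. -/
theorem finrank_cotangentSpace [IsLocalRing (Q d c)] [IsNoetherianRing (Q d c)] :
    Module.finrank (ResidueField (Q d c)) (CotangentSpace (Q d c)) =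
      Module.finrank (ResidueField A) (CotangentSpace A ⧸ W c hc) + r := by
  classical
  have hd : ∀ i, d i ≠ 0 := fun i => by have := hd2 i; omega
  let b := Module.finBasis (ResidueField A) (CotangentSpace A ⧸ W c hc)
  have hy : ∀ j, ∃ y : maximalIdeal A, (W c hc).mkQ ((maximalIdeal A).toCotangent y) = b j := by
    intro j
    obtain ⟨v, hv⟩ := (W c hc).mkQ_surjective (b j)
    obtain ⟨y, rfl⟩ := (maximalIdeal A).toCotangent_surjective v
    exact ⟨y, hv⟩
  choose y hy using hy
  -- generation of `m`
  have hgen : ∀ a ∈ maximalIdeal A, a ∈ Ideal.span (Set.range fun j => (y j : A)) ⊔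
      Ideal.span (Set.range fun i => c i 0) := by
    let s : Set (maximalIdeal A) := Set.range y ∪ Set.range (fun i => ⟨c i 0, hc i 0⟩)
    have hs : Submodule.span (ResidueField A) ((maximalIdeal A).toCotangent '' s) = ⊤ := by
      have h1 : W c hc ≤ Submodule.span (ResidueField A) ((maximalIdeal A).toCotangent '' s) := by
        rw [W, Submodule.span_le]
        rintro _ ⟨i, rfl⟩
        exact Submodule.subset_span ⟨⟨c i 0, hc i 0⟩, Or.inr ⟨i, rfl⟩, rfl⟩
      have h2 : (Submodule.span (ResidueField A) ((maximalIdeal A).toCotangent '' s)).map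
          (W c hc).mkQ = ⊤ := by
        rw [eq_top_iff, ← b.span_eq, Submodule.span_le]
        rintro _ ⟨j, rfl⟩
        exact ⟨_, Submodule.subset_span ⟨y j, Or.inl ⟨j, rfl⟩, rfl⟩, hy j⟩
      rw [Submodule.map_mkQ_eq_top] at h2
      rw [← h2]
      exact (sup_eq_right.mpr h1).symm
    rw [CotangentSpace.span_image_eq_top_iff] at hs
    intro a ha
    have h3 : (⟨a, ha⟩ : maximalIdeal A) ∈ Submodule.span A s := hs ▸ Submodule.mem_top
    have h4 := Submodule.mem_map_of_mem (f := Submodule.subtype (maximalIdeal A)) h3
    rw [Submodule.map_span, Set.image_union, Submodule.span_union, ← Set.range_comp,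
      ← Set.range_comp] at h4
    exact h4
  -- the family in `m'`
  let v : Fin (Module.finrank (ResidueField A) (CotangentSpace A ⧸ W c hc)) ⊕ Fin r →
      maximalIdeal (Q d c) := fun x =>
    Sum.elim (fun j => ⟨algebraMap A (Q d c) (y j), algebraMap_mem d c hd hc (y j).2⟩)
      (fun i => ⟨t d c i, t_mem d c hd hc i⟩) x
  have hsq0 : ∀ i, algebraMap A (Q d c) (c i 0) ∈ maximalIdeal (Q d c) ^ 2 := by
    intro i
    have h1 : c i 0 ∈ maximalIdeal A ⊓
        Ideal.comap (algebraMap A (Q d c)) (maximalIdeal (Q d c) ^ 2) := by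
      rw [inf_comap_sq d c hd hc hd2]
      exact Submodule.mem_sup_right (Ideal.subset_span ⟨i, rfl⟩)
    exact h1.2
  -- spanning
  have hspan : Submodule.span (ResidueField (Q d c))
      (Set.range fun x => (maximalIdeal (Q d c)).toCotangent (v x)) = ⊤ := by
    have hN : maximalIdeal (Q d c) ≤ Ideal.span (Set.range fun x => ((v x : Q d c))) := by
      apply Submodule.le_of_le_smul_of_le_jacobson_bot (I := maximalIdeal (Q d c))
        (Ideal.fg_of_isNoetherianRing _) (maximalIdeal_le_jacobson _)
      intro x hx
      obtain ⟨a, ha⟩ := exists_decomp d c x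
      have hxa : ρ d c hd hc x = residue A a := by
        have := ρ_T d c hd hc ha
        rw [map_sub, sub_eq_zero, ρ_algebraMap] at this
        exact this
      have ham : a ∈ maximalIdeal A := by
        rw [← residue_eq_zero_iff, ← hxa]
        exact (mem_maximalIdeal_iff d c hd hc x).mp hx
      have hT : T d c ≤ Ideal.span (Set.range fun x => ((v x : Q d c))) := by
        rw [T, Ideal.span_le]
        rintro _ ⟨i, rfl⟩
        exact Ideal.subset_span ⟨Sum.inr i, rfl⟩
      have h5 : algebraMap A (Q d c) a ∈ Ideal.span (Set.range fun x => ((v x : Q d c))) ⊔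
          maximalIdeal (Q d c) • maximalIdeal (Q d c) := by
        have h6 := Ideal.mem_map_of_mem (algebraMap A (Q d c)) (hgen a ham)
        rw [Ideal.map_sup, Ideal.map_span, Ideal.map_span, ← Set.range_comp,
          ← Set.range_comp] at h6
        refine SetLike.le_def.mp (sup_le_sup ?_ ?_) h6
        · rw [Ideal.span_le]
          rintro _ ⟨j, rfl⟩
          exact Ideal.subset_span ⟨Sum.inl j, rfl⟩
        · rw [Ideal.span_le, smul_eq_mul, ← pow_two]
          rintro _ ⟨i, rfl⟩
          exact hsq0 i
      have : x = (x - algebraMap A (Q d c) a) + algebraMap A (Q d c) a := by ring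
      rw [this]
      exact add_mem (Submodule.mem_sup_left (hT ha)) h5
    show Submodule.span (ResidueField (Q d c))
      (Set.range ((maximalIdeal (Q d c)).toCotangent ∘ v)) = ⊤
    rw [Set.range_comp (maximalIdeal (Q d c)).toCotangent v,
      CotangentSpace.span_image_eq_top_iff]
    apply Submodule.map_injective_of_injective (Submodule.injective_subtype (maximalIdeal (Q d c)))
    rw [Submodule.map_span, Submodule.map_top, Submodule.range_subtype, ← Set.range_comp]
    apply le_antisymm
    · rw [Submodule.span_le]
      rintro _ ⟨x, rfl⟩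
      exact (v x).2
    · exact hN
  -- independence
  have hli : LinearIndependent (ResidueField (Q d c))
      (fun x => (maximalIdeal (Q d c)).toCotangent (v x)) := by
    rw [Fintype.linearIndependent_iff]
    intro g hg
    have hG : ∀ x, ∃ G : Q d c, residue (Q d c) G = g x := fun x => residue_surjective (g x)
    choose G hG using hG
    have hdec : ∀ x, ∃ a : A, G x - algebraMap A (Q d c) a ∈ T d c := fun x =>
      exists_decomp d c (G x)
    choose a ha using hdec
    have hsum : ∑ x, g x • (maximalIdeal (Q d c)).toCotangent (v x) =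
        (maximalIdeal (Q d c)).toCotangent (∑ x, G x • v x) := by
      rw [map_sum]
      apply Finset.sum_congr rfl
      intro x _
      rw [map_smul, ← hG x, ← ResidueField.algebraMap_eq, algebraMap_smul]
    rw [hsum, Ideal.toCotangent_eq_zero] at hg
    have hcoe : ((∑ x, G x • v x : maximalIdeal (Q d c)) : Q d c) = ∑ x, G x * (v x : Q d c) := by
      rw [Submodule.coe_sum]
      apply Finset.sum_congr rfl
      intro x _
      rfl
    rw [hcoe] at hg
    have hX0 : ∑ x, algebraMap A (Q d c) (a x) * (v x : Q d c) ∈ maximalIdeal (Q d c) ^ 2 := by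
      have hdiff : ∑ x, G x * (v x : Q d c) - ∑ x, algebraMap A (Q d c) (a x) * (v x : Q d c) ∈
          maximalIdeal (Q d c) ^ 2 := by
        rw [← Finset.sum_sub_distrib]
        refine Ideal.sum_mem _ (fun x _ => ?_)
        rw [← sub_mul, pow_two]
        exact Ideal.mul_mem_mul (T_le d c hd hc (ha x)) (v x).2
      have := Ideal.sub_mem _ hg hdiff
      rwa [sub_sub_cancel] at this
    rw [Fintype.sum_sum_type] at hX0
    -- the `t`-coefficients
    have hb : ∀ i, a (Sum.inr i) ∈ maximalIdeal A := by
      intro i₀
      have h7 := θ_sq d c hd2 hc i₀ hX0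
      have h8 := congrArg TrivSqZeroExt.snd h7
      rw [map_add, map_sum, map_sum, TrivSqZeroExt.snd_add, TrivSqZeroExt.snd_sum,
        TrivSqZeroExt.snd_sum] at h8
      have h9 : ∀ j, TrivSqZeroExt.snd (θ d c hd2 hc i₀
          (algebraMap A (Q d c) (a (Sum.inl j)) * ((v (Sum.inl j) : Q d c)))) = 0 := by
        intro j
        show TrivSqZeroExt.snd (θ d c hd2 hc i₀
          (algebraMap A (Q d c) (a (Sum.inl j)) * algebraMap A (Q d c) (y j))) = 0
        rw [map_mul, θ_algebraMap, θ_algebraMap, (residue_eq_zero_iff _).mpr (y j).2]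
        simp
      have h10 : ∀ i, TrivSqZeroExt.snd (θ d c hd2 hc i₀
          (algebraMap A (Q d c) (a (Sum.inr i)) * ((v (Sum.inr i) : Q d c)))) =
          if i = i₀ then residue A (a (Sum.inr i)) else 0 := by
        intro i
        show TrivSqZeroExt.snd (θ d c hd2 hc i₀
          (algebraMap A (Q d c) (a (Sum.inr i)) * t d c i)) = _
        rw [map_mul, θ_algebraMap, θ_t, DualNumber.snd_mul, snd_e, fst_e]
        split_ifs <;> simp
      rw [Finset.sum_congr rfl (fun j _ => h9 j), Finset.sum_const_zero, zero_add,
        Finset.sum_congr rfl (fun i _ => h10 i), Finset.sum_ite_eq' Finset.univ i₀] at h8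
      simp only [Finset.mem_univ, if_true] at h8
      exact (residue_eq_zero_iff _).mp h8
    have hres : ∀ x, a x ∈ maximalIdeal A → g x = 0 := by
      intro x hax
      rw [← hG x, residue_eq_zero_iff]
      have : G x = (G x - algebraMap A (Q d c) (a x)) + algebraMap A (Q d c) (a x) := by ring
      rw [this]
      exact add_mem (T_le d c hd hc (ha x)) (algebraMap_mem d c hd hc hax)
    -- the `y`-coefficients
    have hy2 : ∑ j, algebraMap A (Q d c) (a (Sum.inl j)) * ((v (Sum.inl j) : Q d c)) ∈
        maximalIdeal (Q d c) ^ 2 := by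
      have h11 : ∑ i, algebraMap A (Q d c) (a (Sum.inr i)) * ((v (Sum.inr i) : Q d c)) ∈
          maximalIdeal (Q d c) ^ 2 := by
        refine Ideal.sum_mem _ (fun i _ => ?_)
        rw [pow_two]
        exact Ideal.mul_mem_mul (algebraMap_mem d c hd hc (hb i)) (v (Sum.inr i)).2
      have := Ideal.sub_mem _ hX0 h11
      rwa [add_sub_cancel_right] at this
    have hz : (maximalIdeal A).toCotangent (∑ j, a (Sum.inl j) • y j) ∈ W c hc := by
      apply toCotangent_mem_W
      have h12 : ((∑ j, a (Sum.inl j) • y j : maximalIdeal A) : A) ∈ maximalIdeal A ⊓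
          Ideal.comap (algebraMap A (Q d c)) (maximalIdeal (Q d c) ^ 2) := by
        refine ⟨(∑ j, a (Sum.inl j) • y j : maximalIdeal A).2, ?_⟩
        show algebraMap A (Q d c) ((∑ j, a (Sum.inl j) • y j : maximalIdeal A) : A) ∈
          maximalIdeal (Q d c) ^ 2
        rw [Submodule.coe_sum, map_sum]
        have e2 : ∑ j, algebraMap A (Q d c) ((a (Sum.inl j) • y j : maximalIdeal A) : A) =
            ∑ j, algebraMap A (Q d c) (a (Sum.inl j)) * ((v (Sum.inl j) : Q d c)) := by
          apply Finset.sum_congr rfl
          intro j _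
          show algebraMap A (Q d c) (a (Sum.inl j) * (y j : A)) = _
          rw [map_mul]
          rfl
        rw [e2]
        exact hy2
      rw [inf_comap_sq d c hd hc hd2] at h12
      exact h12
    have h13 : ∑ j, residue A (a (Sum.inl j)) • b j = 0 := by
      have h14 := (Submodule.Quotient.mk_eq_zero (W c hc)).mpr hz
      have e1 : (maximalIdeal A).toCotangent (∑ j, a (Sum.inl j) • y j) =
          ∑ j, residue A (a (Sum.inl j)) • (maximalIdeal A).toCotangent (y j) := by
        rw [map_sum]
        apply Finset.sum_congr rfl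
        intro j _
        rw [map_smul, ← ResidueField.algebraMap_eq, algebraMap_smul]
      rw [← Submodule.mkQ_apply, e1, map_sum] at h14
      rw [← h14]
      apply Finset.sum_congr rfl
      intro j _
      rw [map_smul, hy j]
    have h15 := (Fintype.linearIndependent_iff.mp b.linearIndependent) _ h13
    intro x
    rcases x with j | i
    · exact hres _ ((residue_eq_zero_iff _).mp (h15 j))
    · exact hres _ (hb i)
  have hbasis := Module.finrank_eq_card_basis (Module.Basis.mk hli (by rw [hspan]))
  rw [hbasis, Fintype.card_sum, Fintype.card_fin, Fintype.card_fin]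

include hd2 in
/-- Main regularity criterion. -/
theorem isRegularRing_iff :
    IsRegularRing (Q d c) ↔ LinearIndependent (ResidueField A) (cbar c hc) := by
  classical
  have hd : ∀ i, d i ≠ 0 := fun i => by have := hd2 i; omega
  haveI : IsLocalRing (Q d c) := isLocalRing d c hd hc
  haveI : IsDomain A := Groth.Agent.H29.isDomain_of_isRegularLocalRing A
  haveI : IsNoetherianRing (Q d c) := inferInstance
  have hdim : ringKrullDim (Q d c) = ringKrullDim A :=
    le_antisymm (Groth.Agent.H29.ringKrullDim_le_of_isIntegral A (Q d c))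
      (Groth.Agent.H29.ringKrullDim_le_of_isIntegral_of_injective A (Q d c)
        (algebraMap_injective d c hd))
  have hA : (Module.finrank (ResidueField A) (CotangentSpace A) : WithBot ℕ∞) = ringKrullDim A :=
    (IsRegularLocalRing.iff_finrank_cotangentSpace A).mp inferInstance
  have hfr := finrank_cotangentSpace d c hd2 hc
  have hWV := (W c hc).finrank_quotient_add_finrank
  have hreg : IsRegularLocalRing (Q d c) ↔
      Module.finrank (ResidueField A) (W c hc) = r := by
    rw [IsRegularLocalRing.iff_finrank_cotangentSpace, hdim, ← hA, hfr]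
    constructor
    · intro h
      have h' : Module.finrank (ResidueField A) (CotangentSpace A ⧸ W c hc) + r =
          Module.finrank (ResidueField A) (CotangentSpace A) := by exact_mod_cast h
      omega
    · intro h
      have h' : Module.finrank (ResidueField A) (CotangentSpace A ⧸ W c hc) + r =
          Module.finrank (ResidueField A) (CotangentSpace A) := by omega
      exact_mod_cast h'
  have hli : LinearIndependent (ResidueField A) (cbar c hc) ↔
      Module.finrank (ResidueField A) (W c hc) = r := by
    rw [linearIndependent_iff_card_eq_finrank_span, Fintype.card_fin]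
    constructor
    · intro h; exact h.symm
    · intro h; exact h.symm
  rw [hli, ← hreg]
  constructor
  · intro h
    exact IsRegularLocalRing.of_isRegularRing_of_isLocalRing (Q d c)
  · intro h
    exact Groth.Agent.H29.isRegularRing_of_isRegularLocalRing (Q d c)

end Reg

end Groth.Agent.Helper9.MonicFam
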