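import Mathlib

/-!
# Monomorphisms of schemes induce isomorphisms of residue fields; lifting field points (helper9)
-/

set_option autoImplicit false
universe u

open CategoryTheory Limits AlgebraicGeometry TopologicalSpace TensorProduct

namespace Groth.Agent.Helper9.MonoRes

/-- a field extension with `a ⊗ 1 = 1 ⊗ a` for all `a` is trivial. -/
lemma surjective_of_tmul_eq {κ L : Type*} [Field κ] [Field L] [Algebra κ L]
    (h : ∀ a : L, a ⊗ₜ[κ] (1 : L) = (1 : L) ⊗ₜ[κ] a) : Function.Surjective (algebraMap κ L) := by
  intro a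
  by_contra ha
  have hx : a ∉ LinearMap.range (Algebra.linearMap κ L) := fun ⟨c, hc⟩ => ha ⟨c, hc⟩
  obtain ⟨φ, hφa, hφ⟩ := Submodule.exists_dual_map_eq_bot_of_notMem hx inferInstance
  have h1 : φ 1 = 0 := by
    have : φ 1 ∈ (LinearMap.range (Algebra.linearMap κ L)).map φ := ⟨1, ⟨1, by simp⟩, rfl⟩
    rw [hφ] at this; simpa using this
  have := congrArg (fun t => TensorProduct.lid κ L (LinearMap.rTensor L φ t)) (h a)
  simp only [LinearMap.rTensor_tmul, TensorProduct.lid_tmul, h1, zero_smul] at this
  exact hφa ((smul_eq_zero.mp this).resolve_right one_ne_zero)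

lemma residueFieldMap_bijective {P T : Scheme.{u}} (p : P ⟶ T) [Mono p] (y : P) :
    Function.Bijective (p.residueFieldMap y).hom := by
  refine ⟨RingHom.injective _, ?_⟩
  letI : Algebra (T.residueField (p.base y)) (P.residueField y) :=
    (p.residueFieldMap y).hom.toAlgebra
  show Function.Surjective (algebraMap (T.residueField (p.base y)) (P.residueField y))
  apply surjective_of_tmul_eq
  intro a
  let ι₁ : P.residueField y →+*
      (P.residueField y) ⊗[T.residueField (p.base y)] (P.residueField y) :=
    Algebra.TensorProduct.includeLeftRingHom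
  let ι₂ : P.residueField y →+*
      (P.residueField y) ⊗[T.residueField (p.base y)] (P.residueField y) :=
    (Algebra.TensorProduct.includeRight :
      P.residueField y →ₐ[T.residueField (p.base y)] _).toRingHom
  have hcomp : (p.residueFieldMap y) ≫ CommRingCat.ofHom ι₁ =
      (p.residueFieldMap y) ≫ CommRingCat.ofHom ι₂ := by
    ext c
    exact RingHom.congr_fun Algebra.TensorProduct.includeLeftRingHom_comp_algebraMap c
  have hu : Spec.map (CommRingCat.ofHom ι₁) ≫ P.fromSpecResidueField y =
      Spec.map (CommRingCat.ofHom ι₂) ≫ P.fromSpecResidueField y := by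
    rw [← cancel_mono p, Category.assoc, Category.assoc,
      ← Scheme.Hom.SpecMap_residueFieldMap_fromSpecResidueField, ← Spec.map_comp_assoc,
      ← Spec.map_comp_assoc]
    exact congrArg (fun φ => Spec.map φ ≫ T.fromSpecResidueField _) hcomp
  have h2 : Spec.map (CommRingCat.ofHom ι₁) = Spec.map (CommRingCat.ofHom ι₂) :=
    (cancel_mono _).mp hu
  have h3 : CommRingCat.ofHom ι₁ = CommRingCat.ofHom ι₂ := Spec.map_injective h2
  exact congrArg (fun f => f.hom a) h3

lemma exists_lift_of_bijective {P T : Scheme.{u}} (p : P ⟶ T) (y : P)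
    (hρ : Function.Bijective (p.residueFieldMap y).hom) (k : Type u) [Field k]
    (t : Spec (CommRingCat.of k) ⟶ T) (ht : t.base (IsLocalRing.closedPoint k) = p.base y) :
    ∃ t' : Spec (CommRingCat.of k) ⟶ P, t' ≫ p = t := by
  haveI : IsIso (p.residueFieldMap y) := (ConcreteCategory.isIso_iff_bijective _).mpr hρ
  refine ⟨Spec.map (T.descResidueField (Scheme.stalkClosedPointTo t)) ≫
    Spec.map (T.residueFieldCongr ht.symm).hom ≫ Spec.map (inv (p.residueFieldMap y)) ≫
    P.fromSpecResidueField y, ?_⟩
  calc _ = Spec.map (T.descResidueField (Scheme.stalkClosedPointTo t)) ≫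
        Spec.map (T.residueFieldCongr ht.symm).hom ≫
        (Spec.map (inv (p.residueFieldMap y)) ≫ Spec.map (p.residueFieldMap y)) ≫
        T.fromSpecResidueField (p.base y) := by
        simp only [Category.assoc, Scheme.Hom.SpecMap_residueFieldMap_fromSpecResidueField]
    _ = Spec.map (T.descResidueField (Scheme.stalkClosedPointTo t)) ≫
        Spec.map (T.residueFieldCongr ht.symm).hom ≫ T.fromSpecResidueField (p.base y) := by
        rw [← Spec.map_comp, IsIso.hom_inv_id, Spec.map_id, Category.id_comp]
    _ = Spec.map (T.descResidueField (Scheme.stalkClosedPointTo t)) ≫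
        T.fromSpecResidueField _ := by rw [Scheme.residueFieldCongr_fromSpecResidueField]
    _ = t := Scheme.descResidueField_stalkClosedPointTo_fromSpecResidueField k T t

end Groth.Agent.Helper9.MonoRes
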