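import Mathlib
import Groth.Agent.Lib.Helper9.MonoRes

/-!
# A monomorphism with generic lifting over integral affine schemes is quasi-compact over
Noetherian affine opens (helper9)
-/

set_option autoImplicit false
universe u

open CategoryTheory Limits AlgebraicGeometry TopologicalSpace

namespace Groth.Agent.Helper9.MonoQC

open Groth.Agent.Helper9.MonoRes

set_option backward.isDefEq.respectTransparency false in
lemma isCompact_preimage_of_closeds {X Y : Scheme.{u}} (f : Y ⟶ X) [Mono f]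
    (hc : ∀ (A : Type u) [CommRing A] [IsDomain A] (s : Spec (CommRingCat.of A) ⟶ X)
      (D : Set ↥(Spec (CommRingCat.of A))), Dense D →
      (∀ p ∈ D, ∃ l : Spec ((Spec (CommRingCat.of A)).residueField p) ⟶ Y,
        l ≫ f = (Spec (CommRingCat.of A)).fromSpecResidueField p ≫ s) →
      ∃ U : (Spec (CommRingCat.of A)).Opens, (U : Set ↥(Spec (CommRingCat.of A))).Nonempty ∧
        ∃ l : (U : Scheme.{u}) ⟶ Y, l ≫ f = U.ι ≫ s)
    (B : Type u) [CommRing B] [IsNoetherianRing B] (j : Spec (CommRingCat.of B) ⟶ X)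
    (Z : Closeds (PrimeSpectrum B)) :
    IsCompact (f.base ⁻¹' (j.base '' (Z : Set (PrimeSpectrum B)))) := by
  induction Z using WellFoundedLT.induction with
  | ind Z IH =>
  by_cases hZ0 : (Z : Set (PrimeSpectrum B)) = ∅
  · rw [hZ0]; simp
  by_cases hirr : IsPreirreducible (Z : Set (PrimeSpectrum B))
  · have hirr' : IsIrreducible (Z : Set (PrimeSpectrum B)) :=
      ⟨Set.nonempty_iff_ne_empty.mpr hZ0, hirr⟩
    obtain ⟨P, hP⟩ := QuasiSober.sober hirr' Z.isClosed
    have hq : Function.Surjective (Ideal.Quotient.mk P.asIdeal) := Ideal.Quotient.mk_surjective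
    have hemb : Topology.IsClosedEmbedding
        (Spec.map (CommRingCat.ofHom (Ideal.Quotient.mk P.asIdeal))).base :=
      PrimeSpectrum.isClosedEmbedding_comap_of_surjective _ (Ideal.Quotient.mk P.asIdeal) hq
    have hrange : Set.range (Spec.map (CommRingCat.ofHom (Ideal.Quotient.mk P.asIdeal))).base =
        (Z : Set (PrimeSpectrum B)) := by
      have h1 := range_comap_of_surjective _ (Ideal.Quotient.mk P.asIdeal) hq
      rw [Ideal.mk_ker, ← PrimeSpectrum.closure_singleton, hP.def] at h1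
      exact h1
    set sA := Spec.map (CommRingCat.ofHom (Ideal.Quotient.mk P.asIdeal)) with hsA
    by_cases hd : Dense {p : ↥(Spec (CommRingCat.of (B ⧸ P.asIdeal))) |
        (sA ≫ j).base p ∈ Set.range f.base}
    · obtain ⟨U₁, ⟨u₁, hu₁⟩, l, hl⟩ := hc (B ⧸ P.asIdeal) (sA ≫ j) _ hd (fun p hp => by
        obtain ⟨y, hy⟩ := hp
        exact exists_lift_of_bijective f y (residueFieldMap_bijective f y)
          ((Spec (CommRingCat.of (B ⧸ P.asIdeal))).residueField p)
          ((Spec (CommRingCat.of (B ⧸ P.asIdeal))).fromSpecResidueField p ≫ (sA ≫ j)) (by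
            show (sA ≫ j).base (((Spec (CommRingCat.of (B ⧸ P.asIdeal))).fromSpecResidueField
              p).base _) = _
            rw [Scheme.fromSpecResidueField_apply]; exact hy.symm))
      let Z' : Closeds (PrimeSpectrum B) :=
        ⟨sA.base '' (U₁ : Set ↥(Spec (CommRingCat.of (B ⧸ P.asIdeal))))ᶜ,
          hemb.isClosedMap _ U₁.isOpen.isClosed_compl⟩
      have hZ'le : (Z' : Set (PrimeSpectrum B)) ⊆ Z := by
        rintro _ ⟨a, -, rfl⟩; rw [← hrange]; exact ⟨a, rfl⟩
      have hZ'lt : Z' < Z := by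
        refine lt_of_le_of_ne hZ'le (fun h => ?_)
        have h1 : sA.base u₁ ∈ (Z' : Set (PrimeSpectrum B)) := by
          rw [h, ← hrange]; exact ⟨u₁, rfl⟩
        obtain ⟨a, ha, hau⟩ := h1
        exact ha (hemb.injective hau ▸ hu₁)
      have hcomp1 : IsCompact (Set.range l.base) := by
        haveI : CompactSpace ((U₁ : Scheme.{u})) := isCompact_iff_compactSpace.mp
          (NoetherianSpace.isCompact (U₁ : Set ↥(Spec (CommRingCat.of (B ⧸ P.asIdeal)))))
        exact isCompact_range l.continuous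
      have hlu : ∀ u : ↥U₁, f.base (l.base u) = j.base (sA.base u.1) := fun u =>
        congrArg (fun φ : (U₁ : Scheme.{u}) ⟶ X => φ.base u) hl
      have heq : f.base ⁻¹' (j.base '' (Z : Set (PrimeSpectrum B))) =
          Set.range l.base ∪ f.base ⁻¹' (j.base '' (Z' : Set (PrimeSpectrum B))) := by
        ext y; constructor
        · rintro ⟨z, hz, hzy⟩
          rw [← hrange] at hz
          obtain ⟨a, rfl⟩ := hz
          by_cases ha : a ∈ U₁
          · left
            refine ⟨⟨a, ha⟩, ?_⟩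
            apply f.injective
            exact (hlu ⟨a, ha⟩).trans hzy
          · right; exact ⟨sA.base a, ⟨a, ha, rfl⟩, hzy⟩
        · rintro (⟨u, rfl⟩ | ⟨z, hz, hzy⟩)
          · refine ⟨sA.base u.1, by rw [← hrange]; exact ⟨_, rfl⟩, ?_⟩
            exact (hlu u).symm
          · exact ⟨z, hZ'le hz, hzy⟩
      rw [heq]; exact hcomp1.union (IH Z' hZ'lt)
    · have hC : closure {p : ↥(Spec (CommRingCat.of (B ⧸ P.asIdeal))) |
          (sA ≫ j).base p ∈ Set.range f.base} ≠ Set.univ :=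
        fun h => hd (dense_iff_closure_eq.mpr h)
      obtain ⟨a₀, ha₀⟩ : ∃ a, a ∉ closure {p : ↥(Spec (CommRingCat.of (B ⧸ P.asIdeal))) |
          (sA ≫ j).base p ∈ Set.range f.base} := by
        by_contra hh; push Not at hh; exact hC (Set.eq_univ_of_forall hh)
      let Z'' : Closeds (PrimeSpectrum B) :=
        ⟨sA.base '' closure {p : ↥(Spec (CommRingCat.of (B ⧸ P.asIdeal))) |
          (sA ≫ j).base p ∈ Set.range f.base}, hemb.isClosedMap _ isClosed_closure⟩
      have hle : (Z'' : Set (PrimeSpectrum B)) ⊆ Z := by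
        rintro _ ⟨a, -, rfl⟩; rw [← hrange]; exact ⟨a, rfl⟩
      have hlt : Z'' < Z := by
        refine lt_of_le_of_ne hle (fun h => ?_)
        have h1 : sA.base a₀ ∈ (Z'' : Set (PrimeSpectrum B)) := by
          rw [h, ← hrange]; exact ⟨a₀, rfl⟩
        obtain ⟨a, ha, haa⟩ := h1
        exact ha₀ (hemb.injective haa ▸ ha)
      have heq : f.base ⁻¹' (j.base '' (Z : Set (PrimeSpectrum B))) =
          f.base ⁻¹' (j.base '' (Z'' : Set (PrimeSpectrum B))) := by
        ext y; constructor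
        · rintro ⟨z, hz, hzy⟩
          rw [← hrange] at hz
          obtain ⟨a, rfl⟩ := hz
          exact ⟨sA.base a, ⟨a, subset_closure ⟨y, hzy.symm⟩, rfl⟩, hzy⟩
        · rintro ⟨z, hz, hzy⟩; exact ⟨z, hle hz, hzy⟩
      rw [heq]; exact IH Z'' hlt
  · rw [isPreirreducible_iff_isClosed_union_isClosed] at hirr
    push Not at hirr
    obtain ⟨z₁, z₂, hz₁, hz₂, hsub, h1, h2⟩ := hirr
    have hlt1 : Z ⊓ ⟨z₁, hz₁⟩ < Z := lt_of_le_of_ne inf_le_left (fun h => h1 (by
      intro x hx
      have : x ∈ ((Z ⊓ ⟨z₁, hz₁⟩ : Closeds (PrimeSpectrum B)) : Set (PrimeSpectrum B)) := by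
        rw [h]; exact hx
      exact this.2))
    have hlt2 : Z ⊓ ⟨z₂, hz₂⟩ < Z := lt_of_le_of_ne inf_le_left (fun h => h2 (by
      intro x hx
      have : x ∈ ((Z ⊓ ⟨z₂, hz₂⟩ : Closeds (PrimeSpectrum B)) : Set (PrimeSpectrum B)) := by
        rw [h]; exact hx
      exact this.2))
    have heq : f.base ⁻¹' (j.base '' (Z : Set (PrimeSpectrum B))) =
        f.base ⁻¹' (j.base '' ((Z ⊓ ⟨z₁, hz₁⟩ : Closeds (PrimeSpectrum B)) :
          Set (PrimeSpectrum B))) ∪
        f.base ⁻¹' (j.base '' ((Z ⊓ ⟨z₂, hz₂⟩ : Closeds (PrimeSpectrum B)) :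
          Set (PrimeSpectrum B))) := by
      ext y; constructor
      · rintro ⟨z, hz, hzy⟩
        rcases hsub hz with h | h
        · left; exact ⟨z, ⟨hz, h⟩, hzy⟩
        · right; exact ⟨z, ⟨hz, h⟩, hzy⟩
      · rintro (⟨z, hz, hzy⟩ | ⟨z, hz, hzy⟩)
        · exact ⟨z, hz.1, hzy⟩
        · exact ⟨z, hz.1, hzy⟩
    rw [heq]; exact (IH _ hlt1).union (IH _ hlt2)

end Groth.Agent.Helper9.MonoQC
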