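import Mathlib
import Groth.Agent.Lib.Helper9.MonoRes

/-!
# Monomorphisms: valuative lifting implies reflection of specializations (helper9)
-/

set_option autoImplicit false
universe u

open CategoryTheory Limits AlgebraicGeometry TopologicalSpace

namespace Groth.Agent.Helper9.MonoVal

open Groth.Agent.Helper9.MonoRes

set_option backward.isDefEq.respectTransparency false in
lemma specializes_of_lift {X Y X' : Scheme.{u}} (f : Y ⟶ X) [Mono f] (g : X' ⟶ X)
    (y₀ y₁ : ↥(pullback f g))
    (A : ValuationSubring (X'.residueField ((pullback.snd f g).base y₁)))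
    (h : Spec (CommRingCat.of A) ⟶ X')
    (hcl : h.base (IsLocalRing.closedPoint A) = (pullback.snd f g).base y₀)
    (hgen : Spec.map (CommRingCat.ofHom A.subtype) ≫ h =
      X'.fromSpecResidueField ((pullback.snd f g).base y₁))
    (hS : ∀ (i₁ : Spec (CommRingCat.of (X'.residueField ((pullback.snd f g).base y₁))) ⟶ Y)
      (i₂ : Spec (CommRingCat.of A) ⟶ X)
      (sq : CommSq i₁ (Spec.map (CommRingCat.ofHom
        (algebraMap A (X'.residueField ((pullback.snd f g).base y₁))))) f i₂),
      (∃ l₀ : Spec (CommRingCat.of (IsLocalRing.ResidueField A)) ⟶ Y,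
        l₀ ≫ f = Spec.map (CommRingCat.ofHom (IsLocalRing.residue A)) ≫ i₂) → sq.HasLift) :
    y₁ ⤳ y₀ := by
  have hinj : Function.Injective (pullback.snd f g).base := (pullback.snd f g).injective
  obtain ⟨t₁, ht₁⟩ := exists_lift_of_bijective (pullback.snd f g) y₁
    (residueFieldMap_bijective (pullback.snd f g) y₁) _
    (X'.fromSpecResidueField ((pullback.snd f g).base y₁))
    (Scheme.fromSpecResidueField_apply _ _)
  obtain ⟨t₀, ht₀⟩ := exists_lift_of_bijective (pullback.snd f g) y₀
    (residueFieldMap_bijective (pullback.snd f g) y₀) (IsLocalRing.ResidueField A)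
    (Spec.map (CommRingCat.ofHom (IsLocalRing.residue A)) ≫ h) (by
      show h.base ((Spec.map (CommRingCat.ofHom (IsLocalRing.residue A))).base _) = _
      rw [← hcl]
      congr 1
      haveI : IsLocalHom (CommRingCat.ofHom (IsLocalRing.residue A)).hom :=
        inferInstanceAs (IsLocalHom (IsLocalRing.residue A))
      exact Spec_closedPoint)
  have sq : CommSq (t₁ ≫ pullback.fst f g) (Spec.map (CommRingCat.ofHom
      (algebraMap A (X'.residueField ((pullback.snd f g).base y₁))))) f (h ≫ g) := ⟨by
    rw [Category.assoc, pullback.condition, ← Category.assoc, ht₁, ← hgen, Category.assoc]; rfl⟩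
  obtain ⟨⟨l⟩⟩ := hS _ _ sq ⟨t₀ ≫ pullback.fst f g, by
    rw [Category.assoc, pullback.condition, ← Category.assoc, ht₀, Category.assoc]⟩
  let L : Spec (CommRingCat.of A) ⟶ pullback f g := pullback.lift l.l h l.fac_right
  have hL : L ≫ pullback.snd f g = h := pullback.lift_snd _ _ _
  have hLapp : ∀ z, (pullback.snd f g).base (L.base z) = h.base z := fun z =>
    congrArg (fun φ : Spec (CommRingCat.of A) ⟶ X' => φ.base z) hL
  have h0 : L.base (IsLocalRing.closedPoint A) = y₀ := hinj ((hLapp _).trans hcl)
  have hη : h.base ((Spec.map (CommRingCat.ofHom A.subtype)).base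
      (IsLocalRing.closedPoint (X'.residueField ((pullback.snd f g).base y₁)))) =
      (pullback.snd f g).base y₁ :=
    (congrArg (fun φ : Spec (CommRingCat.of (X'.residueField ((pullback.snd f g).base y₁))) ⟶ X' =>
      φ.base (IsLocalRing.closedPoint (X'.residueField ((pullback.snd f g).base y₁)))) hgen).trans
      (Scheme.fromSpecResidueField_apply _ _)
  have h1 : L.base ((Spec.map (CommRingCat.ofHom A.subtype)).base
      (IsLocalRing.closedPoint (X'.residueField ((pullback.snd f g).base y₁)))) = y₁ :=
    hinj ((hLapp _).trans hη)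
  have hsp := (IsLocalRing.specializes_closedPoint ((Spec.map (CommRingCat.ofHom A.subtype)).base
      (IsLocalRing.closedPoint (X'.residueField ((pullback.snd f g).base y₁))))).map L.continuous
  exact (congrArg₂ Specializes h1 h0).mp hsp

end Groth.Agent.Helper9.MonoVal
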