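import Mathlib
import Groth.Agent.Lib.Helper18.UnivOpenAff

/-!
# Morphisms whose base changes reflect specializations: reduction to finite type (helper9)
-/

set_option autoImplicit false
universe u

open CategoryTheory Limits AlgebraicGeometry TopologicalSpace

namespace Groth.Agent.Helper9.ReflSpec

open Groth.Agent.Helper18.UnivOpenAff (comm_apply isPullback_reindex_map Φ Φ_surjective
  reindex_appTop_Φ)

/-- `p` reflects specializations. -/
def Refl {P T : Scheme.{u}} (p : P ⟶ T) : Prop :=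
  ∀ a b : P, p.base b ⤳ p.base a → b ⤳ a

/-- every pullback square over `(f, g)` has second projection reflecting specializations. -/
def RP {X Y T : Scheme.{u}} (f : Y ⟶ X) (g : T ⟶ X) : Prop :=
  ∀ (P : Scheme.{u}) (p₁ : P ⟶ Y) (p₂ : P ⟶ T), IsPullback p₁ p₂ f g → Refl p₂

lemma RP_of_isPullback {X Y T P : Scheme.{u}} {f : Y ⟶ X} {g : T ⟶ X} {p₁ : P ⟶ Y} {p₂ : P ⟶ T}
    (sq : IsPullback p₁ p₂ f g) (h : Refl p₂) : RP f g := by
  intro P' p₁' p₂' sq' a b hab
  let e := sq'.isoIsPullback _ _ sq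
  have he : e.hom ≫ p₂ = p₂' := sq'.isoIsPullback_hom_snd _ _ sq
  have h1 : p₂.base (e.hom.base b) ⤳ p₂.base (e.hom.base a) := by
    have ha : p₂.base (e.hom.base a) = p₂'.base a := by rw [← he]; rfl
    have hb : p₂.base (e.hom.base b) = p₂'.base b := by rw [← he]; rfl
    rw [ha, hb]; exact hab
  have h2 := h _ _ h1
  exact (e.hom.homeomorph.isInducing.specializes_iff).mp h2

lemma RP_comp {X Y T T' : Scheme.{u}} (f : Y ⟶ X) (g : T ⟶ X) (j : T' ⟶ T) [IsImmersion j]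
    (h : RP f g) : RP f (j ≫ g) := by
  intro P p₁ p₂ sq a b hab
  let q : P ⟶ pullback f g := pullback.lift p₁ (p₂ ≫ j) (by rw [Category.assoc]; exact sq.w)
  have hq1 : q ≫ pullback.fst f g = p₁ := pullback.lift_fst _ _ _
  have hq2 : q ≫ pullback.snd f g = p₂ ≫ j := pullback.lift_snd _ _ _
  have sqL : IsPullback q p₂ (pullback.snd f g) j :=
    IsPullback.of_right (by rw [hq1]; exact sq) hq2 (IsPullback.of_hasPullback f g)
  haveI : IsImmersion q := MorphismProperty.of_isPullback (P := @IsImmersion) sqL.flip inferInstance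
  have h1 : (pullback.snd f g).base (q.base b) ⤳ (pullback.snd f g).base (q.base a) := by
    have ha : (pullback.snd f g).base (q.base a) = j.base (p₂.base a) := comm_apply hq2 a
    have hb : (pullback.snd f g).base (q.base b) = j.base (p₂.base b) := comm_apply hq2 b
    rw [ha, hb]; exact hab.map j.continuous
  have h2 := h _ _ _ (IsPullback.of_hasPullback f g) _ _ h1
  exact (q.isEmbedding.isInducing.specializes_iff).mp h2

lemma specializes_of_RP_open {X Y T P : Scheme.{u}} {f : Y ⟶ X} {g : T ⟶ X} {p₁ : P ⟶ Y}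
    {p₂ : P ⟶ T} (sq : IsPullback p₁ p₂ f g) (V : T.Opens) (h : RP f (V.ι ≫ g)) (a b : P)
    (ha : p₂.base a ∈ V) (hab : p₂.base b ⤳ p₂.base a) : b ⤳ a := by
  have hb : p₂.base b ∈ V := hab.mem_open V.isOpen ha
  have hr : Set.range (pullback.fst p₂ V.ι).base = p₂.base ⁻¹' Set.range V.ι.base :=
    Scheme.Pullback.range_fst p₂ V.ι
  have ha' : a ∈ Set.range (pullback.fst p₂ V.ι).base := by
    rw [hr]; simpa using ha
  have hb' : b ∈ Set.range (pullback.fst p₂ V.ι).base := by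
    rw [hr]; simpa using hb
  obtain ⟨za, rfl⟩ := ha'
  obtain ⟨zb, rfl⟩ := hb'
  have sqV : IsPullback (pullback.fst p₂ V.ι ≫ p₁) (pullback.snd p₂ V.ι) f (V.ι ≫ g) :=
    (IsPullback.of_hasPullback p₂ V.ι).paste_horiz sq
  have h1 : (pullback.snd p₂ V.ι).base zb ⤳ (pullback.snd p₂ V.ι).base za := by
    rw [← V.ι.isOpenEmbedding.isInducing.specializes_iff]
    have e1 : V.ι.base ((pullback.snd p₂ V.ι).base za) = p₂.base ((pullback.fst p₂ V.ι).base za) :=
      (comm_apply pullback.condition za).symm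
    have e2 : V.ι.base ((pullback.snd p₂ V.ι).base zb) = p₂.base ((pullback.fst p₂ V.ι).base zb) :=
      (comm_apply pullback.condition zb).symm
    rw [e1, e2]; exact hab
  exact (h _ _ _ sqV _ _ h1).map (pullback.fst p₂ V.ι).continuous

/-- opens of infinite-dimensional affine space come from finitely many variables. -/
lemma exists_finset_open {Y : Scheme.{u}} (I : Type u) (y₀ : 𝔸(I; Y)) (W : Set 𝔸(I; Y))
    (hW : IsOpen W) (hy : y₀ ∈ W) :
    ∃ (s : Finset I) (Ws : Set 𝔸(s; Y)), IsOpen Ws ∧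
      AffineSpace.reindex (Subtype.val : s → I) Y y₀ ∈ Ws ∧
      (AffineSpace.reindex (Subtype.val : s → I) Y) ⁻¹' Ws ⊆ W := by
  obtain ⟨C, j, hjo, hCa, z, hz1⟩ : ∃ (C : Scheme.{u}) (j : C ⟶ Y) (_ : IsOpenImmersion j)
      (_ : IsAffine C) (z : 𝔸(I; C)), AffineSpace.map I j z = y₀ := by
    obtain ⟨w, hw⟩ := Y.affineCover.covers ((𝔸(I; Y) ↘ Y) y₀)
    obtain ⟨z, hz1, -⟩ := Scheme.exists_preimage_of_isPullback
      (AffineSpace.isPullback_map (n := I)
        (Y.affineCover.f (Y.affineCover.idx ((𝔸(I; Y) ↘ Y) y₀)))) y₀ w hw.symm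
    exact ⟨_, Y.affineCover.f (Y.affineCover.idx ((𝔸(I; Y) ↘ Y) y₀)), inferInstance,
      inferInstance, z, hz1⟩
  have hO : IsOpen ((AffineSpace.map I j) ⁻¹' W) := hW.preimage (Scheme.Hom.continuous _)
  have hzO : z ∈ (AffineSpace.map I j) ⁻¹' W := by
    show AffineSpace.map I j z ∈ W
    rw [hz1]; exact hy
  obtain ⟨_, ⟨_, ⟨γ, rfl⟩, rfl⟩, hxγ, hγO⟩ :=
    (isBasis_basicOpen 𝔸(I; C)).exists_subset_of_mem_open hzO hO
  obtain ⟨p, rfl⟩ := Φ_surjective I C γ
  obtain ⟨s, q, rfl⟩ := MvPolynomial.exists_finset_rename p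
  have hpre : (AffineSpace.reindex (Subtype.val : s → I) C) ⁻¹ᵁ
      (𝔸(s; C).basicOpen (Φ s C q)) =
        𝔸(I; C).basicOpen (Φ I C (MvPolynomial.rename Subtype.val q)) := by
    rw [Scheme.preimage_basicOpen_top]
    congr 1
    exact reindex_appTop_Φ _ C q
  have hpre' : (AffineSpace.reindex (Subtype.val : s → I) C) ⁻¹'
      (𝔸(s; C).basicOpen (Φ s C q) : Set 𝔸(s; C)) =
        (𝔸(I; C).basicOpen (Φ I C (MvPolynomial.rename Subtype.val q)) : Set 𝔸(I; C)) :=
    congrArg (fun U : 𝔸(I; C).Opens => (U : Set 𝔸(I; C))) hpre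
  have sq := isPullback_reindex_map (Subtype.val : s → I) j
  have himg := Scheme.image_preimage_eq_of_isPullback sq
    (𝔸(s; C).basicOpen (Φ s C q) : Set 𝔸(s; C))
  refine ⟨s, (AffineSpace.map s j) '' (𝔸(s; C).basicOpen (Φ s C q) : Set 𝔸(s; C)),
    (AffineSpace.map s j).isOpenEmbedding.isOpenMap _ (𝔸(s; C).basicOpen (Φ s C q)).isOpen, ?_, ?_⟩
  · refine ⟨AffineSpace.reindex (Subtype.val : s → I) C z, ?_, ?_⟩
    · have : z ∈ (AffineSpace.reindex (Subtype.val : s → I) C) ⁻¹'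
          (𝔸(s; C).basicOpen (Φ s C q) : Set 𝔸(s; C)) := by rw [hpre']; exact hxγ
      exact this
    · rw [← hz1]
      exact (comm_apply (AffineSpace.map_reindex (Subtype.val : s → I) j) z).symm
  · rw [← himg, hpre']
    rintro _ ⟨z', hz', rfl⟩
    exact hγO hz'

lemma refl_map_of_finite {X Y : Scheme.{u}} (f : Y ⟶ X)
    (hfin : ∀ (s : Type u) [Finite s], Refl (AffineSpace.map s f)) (I : Type u) :
    Refl (AffineSpace.map I f) := by
  intro y₀ y₁ h
  rw [specializes_iff_forall_open]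
  intro W hW hy
  obtain ⟨s, Ws, hWs, h0, hsub⟩ := exists_finset_open I y₀ W hW hy
  apply hsub
  have e : ∀ y, (AffineSpace.reindex (Subtype.val : s → I) X).base ((AffineSpace.map I f).base y) =
      (AffineSpace.map s f).base ((AffineSpace.reindex (Subtype.val : s → I) Y).base y) :=
    fun y => comm_apply (AffineSpace.map_reindex (Subtype.val : s → I) f) y
  have h1 : (AffineSpace.map s f).base ((AffineSpace.reindex (Subtype.val : s → I) Y).base y₁) ⤳
      (AffineSpace.map s f).base ((AffineSpace.reindex (Subtype.val : s → I) Y).base y₀) := by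
    rw [← e y₁, ← e y₀]
    exact h.map (AffineSpace.reindex _ X).continuous
  exact (hfin s _ _ h1).mem_open hWs h0

lemma RP_affineSpace {X Y : Scheme.{u}} (f : Y ⟶ X)
    (h : ∀ (X' : Scheme.{u}) (g : X' ⟶ X) [LocallyOfFiniteType g], Refl (pullback.snd f g))
    (I : Type u) : RP f (𝔸(I; X) ↘ X) := by
  refine RP_of_isPullback (AffineSpace.isPullback_map (n := I) f).flip ?_
  refine refl_map_of_finite f (fun s _ => ?_) I
  have h1 : RP f (𝔸(s; X) ↘ X) :=
    RP_of_isPullback (IsPullback.of_hasPullback f _) (h _ (𝔸(s; X) ↘ X))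
  exact h1 _ _ _ (AffineSpace.isPullback_map (n := s) f).flip

theorem main {X Y : Scheme.{u}} (f : Y ⟶ X)
    (h : ∀ (X' : Scheme.{u}) (g : X' ⟶ X) [LocallyOfFiniteType g], Refl (pullback.snd f g))
    (X' : Scheme.{u}) (g : X' ⟶ X) : Refl (pullback.snd f g) := by
  intro y₀ y₁ hyp
  obtain ⟨U, hU, hxU⟩ : ∃ U : X.Opens, IsAffineOpen U ∧
      g.base ((pullback.snd f g).base y₀) ∈ U := by
    obtain ⟨_, ⟨A, hA, rfl⟩, hxA, -⟩ := X.isBasis_affineOpens.exists_subset_of_mem_open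
      (Set.mem_univ (g.base ((pullback.snd f g).base y₀))) isOpen_univ
    exact ⟨A, hA, hxA⟩
  obtain ⟨V, hV, hxV, hVU⟩ : ∃ V : X'.Opens, IsAffineOpen V ∧
      (pullback.snd f g).base y₀ ∈ V ∧ V ≤ g ⁻¹ᵁ U := by
    obtain ⟨_, ⟨A, hA, rfl⟩, hxA, hAU⟩ := X'.isBasis_affineOpens.exists_subset_of_mem_open
      (show (pullback.snd f g).base y₀ ∈ (g ⁻¹ᵁ U : Set X') from hxU) (g ⁻¹ᵁ U).isOpen
    exact ⟨A, hA, hxA, hAU⟩
  refine specializes_of_RP_open (IsPullback.of_hasPullback f g) V ?_ y₀ y₁ hxV hyp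
  haveI : IsAffine (V : Scheme.{u}) := hV
  haveI : IsAffine (U : Scheme.{u}) := hU
  let v' : (V : Scheme.{u}) ⟶ (U : Scheme.{u}) := IsOpenImmersion.lift U.ι (V.ι ≫ g) (by
    rintro _ ⟨z, rfl⟩
    rw [Scheme.Opens.range_ι]
    exact hVU z.2)
  have hv' : v' ≫ U.ι = V.ι ≫ g := IsOpenImmersion.lift_fac _ _ _
  let h₀ : (V : Scheme.{u}) ⟶ 𝔸(Γ((V : Scheme.{u}), ⊤); (U : Scheme.{u})) :=
    AffineSpace.homOfVector v' (fun b => b)
  haveI : IsClosedImmersion h₀ := by
    apply IsClosedImmersion.of_surjective_of_isAffine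
    intro b
    exact ⟨AffineSpace.coord _ b, AffineSpace.homOfVector_appTop_coord _ _ b⟩
  have hj : (h₀ ≫ AffineSpace.map _ U.ι) ≫ (𝔸(Γ((V : Scheme.{u}), ⊤); X) ↘ X) = V.ι ≫ g := by
    rw [Category.assoc, AffineSpace.map_over, ← Category.assoc, AffineSpace.homOfVector_over, hv']
  rw [← hj]
  exact RP_comp f _ _ (RP_affineSpace f h _)

end Groth.Agent.Helper9.ReflSpec
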