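import Mathlib
import Groth.Agent.Lib.Helper9.ReflSpec
import Groth.Agent.Lib.Helper9.MonoVal

/-!
# Reflection of specializations implies valuative lifting (adapted from Mathlib's
`ValuativeCriterion.Existence.of_specializingMap`) (helper9)
-/

set_option autoImplicit false
universe u

open CategoryTheory Limits AlgebraicGeometry TopologicalSpace IsLocalRing

namespace Groth.Agent.Helper9.MonoVal2

set_option backward.isDefEq.respectTransparency false in
/-- If the point of the pullback given by the `K`-point specializes to a point over the closed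
point of `Spec R`, the valuative square has a lift. (Mathlib's proof of
`ValuativeCriterion.Existence.of_specializingMap`, with the specialization given.) -/
lemma hasLift_of_exists {X Y : Scheme.{u}} (f : X ⟶ Y) (S : ValuativeCommSq f)
    (hx : ∃ x : ↥(pullback S.i₂ f),
      (pullback.lift (Spec.map (CommRingCat.ofHom (algebraMap S.R S.K))) S.i₁ S.commSq.w.symm).base
        (closedPoint S.K) ⤳ x ∧ (pullback.fst S.i₂ f).base x = closedPoint S.R) :
    S.commSq.HasLift := by
  obtain ⟨R, K, i₁, i₂, ⟨w⟩⟩ := S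
  have : IsDomain (CommRingCat.of R) := ‹_›
  have : ValuationRing (CommRingCat.of R) := ‹_›
  let : Field (CommRingCat.of K) := ‹_›
  let lft := pullback.lift (Spec.map (CommRingCat.ofHom (algebraMap R K))) i₁ w.symm
  obtain ⟨x, h₁, h₂⟩ := hx
  let e : CommRingCat.of R ≅ (Spec <| .of R).presheaf.stalk (pullback.fst i₂ f x) :=
    (stalkClosedPointIso (.of R)).symm ≪≫
      (Spec <| .of R).presheaf.stalkCongr (.of_eq h₂.symm)
  let α := e.hom ≫ (pullback.fst i₂ f).stalkMap x
  have : IsLocalHom e.hom.hom := isLocalHom_of_isIso e.hom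
  have : IsLocalHom α.hom := inferInstanceAs
    (IsLocalHom (((pullback.fst i₂ f).stalkMap x).hom.comp e.hom.hom))
  let β := (pullback i₂ f).presheaf.stalkSpecializes h₁ ≫ Scheme.stalkClosedPointTo lft
  have hαβ : α ≫ β = CommRingCat.ofHom (algebraMap R K) := by
    simp only [CommRingCat.coe_of, Iso.trans_hom, Iso.symm_hom, TopCat.Presheaf.stalkCongr_hom,
      Category.assoc, α, e, β, stalkClosedPointIso_inv, StructureSheaf.toStalk]
    change (Scheme.ΓSpecIso (.of R)).inv ≫ (Spec <| .of R).presheaf.germ _ _ _ ≫ _ = _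
    simp only [TopCat.Presheaf.germ_stalkSpecializes_assoc, Scheme.Hom.germ_stalkMap_assoc]
    simp only [TopologicalSpace.Opens.map_top]
    rw [Scheme.germ_stalkClosedPointTo lft ⊤ trivial]
    erw [← Scheme.Hom.comp_app_assoc lft (pullback.fst i₂ f)]
    rw [pullback.lift_fst]
    simp
  have hbij := (bijective_rangeRestrict_comp_of_valuationRing (R := R) (K := K) α.hom β.hom
    (CommRingCat.hom_ext_iff.mp hαβ))
  let φ : (pullback i₂ f).presheaf.stalk x ⟶ CommRingCat.of R := CommRingCat.ofHom <|
    (RingEquiv.ofBijective _ hbij).symm.toRingHom.comp β.hom.rangeRestrict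
  have hαφ : α ≫ φ = 𝟙 _ := by ext x; exact (RingEquiv.ofBijective _ hbij).symm_apply_apply x
  have hαφ' : (pullback.fst i₂ f).stalkMap x ≫ φ = e.inv := by
    rw [← cancel_epi e.hom, ← Category.assoc, hαφ, e.hom_inv_id]
  have hφβ : φ ≫ CommRingCat.ofHom (algebraMap R K) = β :=
    hαβ ▸ CommRingCat.hom_ext (RingHom.ext fun x ↦ congr_arg Subtype.val
      ((RingEquiv.ofBijective _ hbij).apply_symm_apply (β.hom.rangeRestrict x)))
  refine ⟨⟨⟨Spec.map ((pullback.snd i₂ f).stalkMap x ≫ φ) ≫ X.fromSpecStalk _, ?_, ?_⟩⟩⟩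
  · simp only [← Spec.map_comp_assoc, Category.assoc, hφβ]
    simp only [Spec.map_comp, Category.assoc, Scheme.SpecMap_stalkMap_fromSpecStalk,
      Scheme.SpecMap_stalkSpecializes_fromSpecStalk_assoc, β]
    rw [Scheme.Spec_stalkClosedPointTo_fromSpecStalk_assoc]
    simp [lft]
  · simp only [Spec.map_comp, Category.assoc, Scheme.SpecMap_stalkMap_fromSpecStalk,
      ← pullback.condition]
    rw [← Scheme.SpecMap_stalkMap_fromSpecStalk_assoc, ← Spec.map_comp_assoc, hαφ']
    simp only [Iso.trans_inv, TopCat.Presheaf.stalkCongr_inv, Iso.symm_inv, Spec.map_comp,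
      Category.assoc, Scheme.SpecMap_stalkSpecializes_fromSpecStalk_assoc, e]
    rw [← Spec_stalkClosedPointIso, ← Spec.map_comp_assoc,
      Iso.inv_hom_id, Spec.map_id, Category.id_comp]

/-- universal reflection of specializations gives valuative lifting whenever the closed point
lifts. -/
lemma hasLift_of_refl {X Y : Scheme.{u}} (f : Y ⟶ X)
    (H : ∀ (X' : Scheme.{u}) (g : X' ⟶ X) (y₀ y₁ : ↥(pullback f g)),
      (pullback.snd f g).base y₁ ⤳ (pullback.snd f g).base y₀ → y₁ ⤳ y₀)
    (S : ValuativeCommSq f)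
    (hl : ∃ l₀ : Spec (CommRingCat.of (IsLocalRing.ResidueField S.R)) ⟶ Y,
      l₀ ≫ f = Spec.map (CommRingCat.ofHom (IsLocalRing.residue S.R)) ≫ S.i₂) :
    S.commSq.HasLift := by
  obtain ⟨l₀, hl₀⟩ := hl
  have hRefl : Groth.Agent.Helper9.ReflSpec.Refl (pullback.fst S.i₂ f) :=
    Groth.Agent.Helper9.ReflSpec.RP_of_isPullback (IsPullback.of_hasPullback f S.i₂)
      (fun a b hab => H _ S.i₂ a b hab) _ _ _ (IsPullback.of_hasPullback S.i₂ f).flip
  have hfst : pullback.lift (Spec.map (CommRingCat.ofHom (IsLocalRing.residue S.R))) l₀ hl₀.symm ≫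
      pullback.fst S.i₂ f = Spec.map (CommRingCat.ofHom (IsLocalRing.residue S.R)) :=
    pullback.lift_fst _ _ _
  have h₂ : (pullback.fst S.i₂ f).base
      ((pullback.lift (Spec.map (CommRingCat.ofHom (IsLocalRing.residue S.R))) l₀ hl₀.symm).base
        (IsLocalRing.closedPoint (IsLocalRing.ResidueField S.R))) = IsLocalRing.closedPoint S.R := by
    have h := congrArg (fun φ : Spec (CommRingCat.of (IsLocalRing.ResidueField S.R)) ⟶
      Spec (CommRingCat.of S.R) => φ.base (IsLocalRing.closedPoint (IsLocalRing.ResidueField S.R))) hfst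
    refine h.trans ?_
    haveI : IsLocalHom (CommRingCat.ofHom (IsLocalRing.residue S.R)).hom :=
      inferInstanceAs (IsLocalHom (IsLocalRing.residue S.R))
    exact Spec_closedPoint
  refine hasLift_of_exists f S ⟨_, ?_, h₂⟩
  apply hRefl
  rw [h₂]
  exact IsLocalRing.specializes_closedPoint _

end Groth.Agent.Helper9.MonoVal2
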