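import Mathlib

set_option autoImplicit false

open CategoryTheory AlgebraicGeometry CategoryTheory.Limits

universe u

namespace Groth.Agent.Helper9.NeronFormal

theorem map_bijective_of_iso {C D : Type*} [Category C] [Category D] {F G : C ⥤ D} (e : F ≅ G)
    (Z N : C) (h : Function.Bijective (fun g : Z ⟶ N => F.map g)) :
    Function.Bijective (fun g : Z ⟶ N => G.map g) := by
  have hfun : (fun g : Z ⟶ N => G.map g) =
      (fun k : F.obj Z ⟶ F.obj N => e.inv.app Z ≫ k ≫ e.hom.app N) ∘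
        (fun g : Z ⟶ N => F.map g) := by
    funext g
    simp
  rw [hfun]
  refine Function.Bijective.comp ⟨?_, ?_⟩ h
  · intro a b hab
    have h1 := congrArg (fun t => e.hom.app Z ≫ t ≫ e.inv.app N) hab
    simpa using h1
  · intro k
    exact ⟨e.hom.app Z ≫ k ≫ e.inv.app N, by simp⟩

theorem map_bijective_congr {S T : Scheme.{u}} {f f' : T ⟶ S} (h : f = f') (Z N : Over S)
    (hb : Function.Bijective (fun g : Z ⟶ N => (Over.pullback f).map g)) :
    Function.Bijective (fun g : Z ⟶ N => (Over.pullback f').map g) := by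
  subst h
  exact hb

theorem core {S : Scheme.{u}} (S₀ S₁ : S.Opens) (h01 : S₀ ≤ S₁) (Z N : Over S) :
    Function.Bijective (fun g : Z ⟶ N => (Over.pullback S₀.ι).map g) ↔
    Function.Bijective (fun g : Z ⟶ N =>
      (Over.pullback (S₁.ι ⁻¹ᵁ S₀).ι).map ((Over.pullback S₁.ι).map g)) := by
  have hr : Set.range ((S₁.ι ⁻¹ᵁ S₀).ι ≫ S₁.ι) = Set.range S₀.ι := by
    ext y
    simp only [Scheme.Opens.range_ι, Set.mem_range, Scheme.Hom.comp_apply]
    constructor
    · rintro ⟨z, rfl⟩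
      exact z.2
    · intro hy
      exact ⟨⟨⟨y, h01 hy⟩, hy⟩, rfl⟩
  obtain ⟨α, hα⟩ : ∃ α : ((S₁.ι ⁻¹ᵁ S₀ : (S₁ : Scheme.{u}).Opens) : Scheme.{u}) ≅ (S₀ : Scheme.{u}),
      α.hom ≫ S₀.ι = (S₁.ι ⁻¹ᵁ S₀).ι ≫ S₁.ι :=
    ⟨IsOpenImmersion.isoOfRangeEq ((S₁.ι ⁻¹ᵁ S₀).ι ≫ S₁.ι) S₀.ι hr,
      IsOpenImmersion.isoOfRangeEq_hom_fac _ _ hr⟩
  haveI : (Over.pullback α.hom).IsEquivalence :=
    (Over.mapPullbackAdj α.hom).isEquivalence_right_of_isEquivalence_left
  have hFα : ∀ A B : Over (S₀ : Scheme.{u}),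
      Function.Bijective (fun k : A ⟶ B => (Over.pullback α.hom).map k) := fun A B =>
    ⟨(Over.pullback α.hom).map_injective, (Over.pullback α.hom).map_surjective⟩
  have e₁ := Over.pullbackComp (S₁.ι ⁻¹ᵁ S₀).ι S₁.ι
  have e₂ := Over.pullbackComp α.hom S₀.ι
  constructor
  · intro h0
    have h1 : Function.Bijective
        (fun g : Z ⟶ N => (Over.pullback S₀.ι ⋙ Over.pullback α.hom).map g) :=
      (hFα _ _).comp h0
    have h2 := map_bijective_of_iso e₂.symm Z N h1
    have h3 := map_bijective_congr hα Z N h2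
    exact map_bijective_of_iso e₁ Z N h3
  · intro h
    have h3 : Function.Bijective
        (fun g : Z ⟶ N => (Over.pullback S₁.ι ⋙ Over.pullback (S₁.ι ⁻¹ᵁ S₀).ι).map g) := h
    have h2 := map_bijective_of_iso e₁.symm Z N h3
    have h1 := map_bijective_congr hα.symm Z N h2
    have h0 : Function.Bijective
        (fun g : Z ⟶ N => (Over.pullback S₀.ι ⋙ Over.pullback α.hom).map g) :=
      map_bijective_of_iso e₂ Z N h1
    exact (Function.Bijective.of_comp_iff' (hFα _ _) _).mp h0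

end Groth.Agent.Helper9.NeronFormal
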