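import Mathlib

set_option autoImplicit false

open CategoryTheory AlgebraicGeometry CategoryTheory.Limits MonoidalCategory
  CartesianMonoidalCategory

universe u

namespace Groth.Agent.Helper9.NeronProd

theorem pb_map_fst {T T' : Scheme.{u}} (h : T' ⟶ T) {A B : Over T} (a : A ⟶ B) :
    ((Over.pullback h).map a).left ≫ pullback.fst B.hom h = pullback.fst A.hom h ≫ a.left := by
  simp only [Over.pullback_map_left]
  exact pullback.lift_fst _ _ _

theorem pb_hom_ext {T T' : Scheme.{u}} (h : T' ⟶ T) {A' : Over T'} {B : Over T}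
    (φ ψ : A' ⟶ (Over.pullback h).obj B)
    (hfst : φ.left ≫ pullback.fst B.hom h = ψ.left ≫ pullback.fst B.hom h) : φ = ψ := by
  apply Over.OverMorphism.ext
  apply pullback.hom_ext hfst
  have h1 := Over.w φ
  have h2 := Over.w ψ
  simp at h1 h2
  rw [h1, h2]

theorem pb_prod_hom_ext {S S' : Scheme.{u}} (h : S' ⟶ S) {A B : Over S} {W : Over S'}
    (φ φ' : W ⟶ (Over.pullback h).obj (A ⊗ B))
    (h1 : φ ≫ (Over.pullback h).map (fst A B) = φ' ≫ (Over.pullback h).map (fst A B))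
    (h2 : φ ≫ (Over.pullback h).map (snd A B) = φ' ≫ (Over.pullback h).map (snd A B)) :
    φ = φ' := by
  apply pb_hom_ext
  refine pullback.hom_ext (f := A.hom) (g := B.hom) ?_ ?_
  · have := congrArg (fun t => Over.Hom.left t ≫ pullback.fst A.hom h) h1
    simp only [Over.comp_left, Category.assoc, pb_map_fst] at this
    rw [Category.assoc, Category.assoc]
    exact this
  · have := congrArg (fun t => Over.Hom.left t ≫ pullback.fst B.hom h) h2
    simp only [Over.comp_left, Category.assoc, pb_map_fst] at this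
    rw [Category.assoc, Category.assoc]
    exact this

/-- The Néron mapping property (smooth test objects) is stable under products. -/
theorem nmp_prod {S : Scheme.{u}} (S₀ : S.Opens) (A B : Over S)
    (hA : ∀ Z : Over S, Smooth Z.hom →
      Function.Bijective (fun g : Z ⟶ A => (Over.pullback S₀.ι).map g))
    (hB : ∀ Z : Over S, Smooth Z.hom →
      Function.Bijective (fun g : Z ⟶ B => (Over.pullback S₀.ι).map g)) :
    ∀ Z : Over S, Smooth Z.hom →
      Function.Bijective (fun g : Z ⟶ A ⊗ B => (Over.pullback S₀.ι).map g) := by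
  intro Z hZ
  constructor
  · intro f f' hff
    have hff' : (Over.pullback S₀.ι).map f = (Over.pullback S₀.ι).map f' := hff
    apply CartesianMonoidalCategory.hom_ext
    · apply (hA Z hZ).1
      show (Over.pullback S₀.ι).map (f ≫ fst A B) = (Over.pullback S₀.ι).map (f' ≫ fst A B)
      rw [Functor.map_comp, Functor.map_comp, hff']
    · apply (hB Z hZ).1
      show (Over.pullback S₀.ι).map (f ≫ snd A B) = (Over.pullback S₀.ι).map (f' ≫ snd A B)
      rw [Functor.map_comp, Functor.map_comp, hff']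
  · intro φ
    obtain ⟨α, hα⟩ := (hA Z hZ).2 (φ ≫ (Over.pullback S₀.ι).map (fst A B))
    obtain ⟨β, hβ⟩ := (hB Z hZ).2 (φ ≫ (Over.pullback S₀.ι).map (snd A B))
    refine ⟨lift α β, ?_⟩
    show (Over.pullback S₀.ι).map (lift α β) = φ
    apply pb_prod_hom_ext
    · rw [← Functor.map_comp, lift_fst]; exact hα
    · rw [← Functor.map_comp, lift_snd]; exact hβ

/-- A morphism between smooth objects with the Néron mapping property which is an isomorphism
over `S₀` is an isomorphism. -/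
theorem isIso_of_nmp {S : Scheme.{u}} (S₀ : S.Opens) (A B : Over S)
    (hAs : Smooth A.hom) (hBs : Smooth B.hom)
    (hA : ∀ Z : Over S, Smooth Z.hom →
      Function.Bijective (fun g : Z ⟶ A => (Over.pullback S₀.ι).map g))
    (hB : ∀ Z : Over S, Smooth Z.hom →
      Function.Bijective (fun g : Z ⟶ B => (Over.pullback S₀.ι).map g))
    (τ : A ⟶ B) [IsIso ((Over.pullback S₀.ι).map τ)] : IsIso τ := by
  obtain ⟨σ, hσ⟩ := (hA B hBs).2 (inv ((Over.pullback S₀.ι).map τ))
  have hσ' : (Over.pullback S₀.ι).map σ = inv ((Over.pullback S₀.ι).map τ) := hσ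
  refine ⟨σ, ?_, ?_⟩
  · apply (hA A hAs).1
    show (Over.pullback S₀.ι).map (τ ≫ σ) = (Over.pullback S₀.ι).map (𝟙 A)
    rw [Functor.map_comp, hσ', IsIso.hom_inv_id, CategoryTheory.Functor.map_id]
  · apply (hB B hBs).1
    show (Over.pullback S₀.ι).map (σ ≫ τ) = (Over.pullback S₀.ι).map (𝟙 B)
    rw [Functor.map_comp, hσ', IsIso.inv_hom_id, CategoryTheory.Functor.map_id]

theorem smooth_tensor {S : Scheme.{u}} (A B : Over S) [Smooth A.hom] [Smooth B.hom] :
    Smooth (A ⊗ B).hom := by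
  show Smooth (pullback.fst A.hom B.hom ≫ A.hom)
  infer_instance


section PLift

variable {S S' : Scheme.{u}} (h : S' ⟶ S)

/-- Pairing of morphisms into the pullback of a product. -/
noncomputable def plift {A B : Over S} {W : Over S'} (x : W ⟶ (Over.pullback h).obj A)
    (y : W ⟶ (Over.pullback h).obj B) : W ⟶ (Over.pullback h).obj (A ⊗ B) :=
  lift x y ≫ (prodComparisonIso (Over.pullback h) A B).inv

theorem plift_fst {A B : Over S} {W : Over S'} (x : W ⟶ (Over.pullback h).obj A)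
    (y : W ⟶ (Over.pullback h).obj B) :
    plift h x y ≫ (Over.pullback h).map (fst A B) = x := by
  have e : (prodComparisonIso (Over.pullback h) A B).inv ≫ (Over.pullback h).map (fst A B) =
      fst _ _ := by
    rw [Iso.inv_comp_eq, prodComparisonIso_hom, CartesianMonoidalCategory.prodComparison_fst]
  rw [plift, Category.assoc, e, lift_fst]

theorem plift_snd {A B : Over S} {W : Over S'} (x : W ⟶ (Over.pullback h).obj A)
    (y : W ⟶ (Over.pullback h).obj B) :
    plift h x y ≫ (Over.pullback h).map (snd A B) = y := by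
  have e : (prodComparisonIso (Over.pullback h) A B).inv ≫ (Over.pullback h).map (snd A B) =
      snd _ _ := by
    rw [Iso.inv_comp_eq, prodComparisonIso_hom, CartesianMonoidalCategory.prodComparison_snd]
  rw [plift, Category.assoc, e, lift_snd]

theorem epi_fst_of_flat_surj {T : Scheme.{u}} (Z N : Over T) [Flat N.hom] [Surjective N.hom] :
    Epi (fst Z N) := by
  haveI : Epi (fst Z N).left := by
    show Epi (pullback.fst Z.hom N.hom)
    exact Flat.epi_of_flat_of_surjective _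
  exact Over.epi_of_epi_left _

theorem epi_map_fst (Z N : Over S) [Flat N.hom] [Surjective N.hom] :
    Epi ((Over.pullback h).map (fst Z N)) := by
  rw [← CartesianMonoidalCategory.prodComparison_fst]
  haveI : Flat ((Over.pullback h).obj N).hom := by
    show Flat (pullback.snd N.hom h); infer_instance
  haveI : Surjective ((Over.pullback h).obj N).hom := by
    show Surjective (pullback.snd N.hom h); infer_instance
  haveI := epi_fst_of_flat_surj ((Over.pullback h).obj Z) ((Over.pullback h).obj N)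
  infer_instance

end PLift

/-- Descent of a morphism `Z ⊗ N ⟶ A` along the smooth surjective projection `Z ⊗ N ⟶ Z`,
when it is known over `S₀` to factor through the projection and `A` has the uniqueness
half of the Néron mapping property. -/
theorem descend {S : Scheme.{u}} (S₀ : S.Opens) (Z N A : Over S) [Smooth Z.hom] [Smooth N.hom]
    [Surjective N.hom]
    (hAinj : ∀ W : Over S, Smooth W.hom →
      Function.Injective (fun g : W ⟶ A => (Over.pullback S₀.ι).map g))
    (m : Z ⊗ N ⟶ A) (φ₀ : (Over.pullback S₀.ι).obj Z ⟶ (Over.pullback S₀.ι).obj A)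
    (hm : (Over.pullback S₀.ι).map m = (Over.pullback S₀.ι).map (fst Z N) ≫ φ₀) :
    ∃ φ : Z ⟶ A, (Over.pullback S₀.ι).map φ = φ₀ := by
  obtain ⟨l₁, hl₁⟩ : ∃ l₁ : Z ⊗ (N ⊗ N) ⟶ Z ⊗ N,
      l₁ = lift (fst Z (N ⊗ N)) (snd Z (N ⊗ N) ≫ fst N N) := ⟨_, rfl⟩
  obtain ⟨l₂, hl₂⟩ : ∃ l₂ : Z ⊗ (N ⊗ N) ⟶ Z ⊗ N,
      l₂ = lift (fst Z (N ⊗ N)) (snd Z (N ⊗ N) ≫ snd N N) := ⟨_, rfl⟩
  have hl₁f : l₁ ≫ fst Z N = fst Z (N ⊗ N) := by rw [hl₁, lift_fst]
  have hl₂f : l₂ ≫ fst Z N = fst Z (N ⊗ N) := by rw [hl₂, lift_fst]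
  have hker : l₁ ≫ m = l₂ ≫ m := by
    haveI : Smooth (N ⊗ N).hom := smooth_tensor N N
    haveI : Smooth (Z ⊗ (N ⊗ N)).hom := smooth_tensor Z (N ⊗ N)
    apply hAinj (Z ⊗ (N ⊗ N)) inferInstance
    show (Over.pullback S₀.ι).map (l₁ ≫ m) = (Over.pullback S₀.ι).map (l₂ ≫ m)
    rw [CategoryTheory.Functor.map_comp, CategoryTheory.Functor.map_comp, hm, ← Category.assoc,
      ← Category.assoc, ← CategoryTheory.Functor.map_comp, ← CategoryTheory.Functor.map_comp,
      hl₁f, hl₂f]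
  have hgen : ∀ (W : Over S) (g₁ g₂ : W ⟶ Z ⊗ N), g₁ ≫ fst Z N = g₂ ≫ fst Z N →
      g₁ ≫ m = g₂ ≫ m := by
    intro W g₁ g₂ hg
    obtain ⟨w, hw⟩ : ∃ w : W ⟶ Z ⊗ (N ⊗ N),
        w = lift (g₁ ≫ fst Z N) (lift (g₁ ≫ snd Z N) (g₂ ≫ snd Z N)) := ⟨_, rfl⟩
    have e1 : g₁ = w ≫ l₁ := by
      apply CartesianMonoidalCategory.hom_ext
      · rw [Category.assoc, hl₁f, hw, lift_fst]
      · rw [hl₁, hw, Category.assoc, lift_snd, ← Category.assoc, lift_snd, lift_fst]
    have e2 : g₂ = w ≫ l₂ := by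
      apply CartesianMonoidalCategory.hom_ext
      · rw [Category.assoc, hl₂f, hw, lift_fst, hg]
      · rw [hl₂, hw, Category.assoc, lift_snd, ← Category.assoc, lift_snd, lift_snd]
    calc g₁ ≫ m = (w ≫ l₁) ≫ m := by rw [← e1]
      _ = w ≫ l₁ ≫ m := Category.assoc _ _ _
      _ = w ≫ l₂ ≫ m := by rw [hker]
      _ = (w ≫ l₂) ≫ m := (Category.assoc _ _ _).symm
      _ = g₂ ≫ m := by rw [← e2]
  obtain ⟨p, hp⟩ : ∃ p : pullback Z.hom N.hom ⟶ Z.left, p = pullback.fst Z.hom N.hom := ⟨_, rfl⟩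
  haveI : Smooth p := by rw [hp]; infer_instance
  haveI : Surjective p := by rw [hp]; infer_instance
  haveI : EffectiveEpi p := inferInstance
  have hcond : ∀ {W : Scheme.{u}} (g₁ g₂ : W ⟶ pullback Z.hom N.hom), g₁ ≫ p = g₂ ≫ p →
      g₁ ≫ m.left = g₂ ≫ m.left := by
    intro W g₁ g₂ hg
    obtain ⟨g₁', hg₁'⟩ : ∃ g₁' : Over.mk (g₁ ≫ p ≫ Z.hom) ⟶ Z ⊗ N, g₁'.left = g₁ :=
      ⟨Over.homMk g₁ (by rw [hp]; rfl), rfl⟩
    obtain ⟨g₂', hg₂'⟩ : ∃ g₂' : Over.mk (g₁ ≫ p ≫ Z.hom) ⟶ Z ⊗ N, g₂'.left = g₂ :=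
      ⟨Over.homMk g₂ (by
        show g₂ ≫ pullback.fst Z.hom N.hom ≫ Z.hom = g₁ ≫ p ≫ Z.hom
        rw [← hp, ← Category.assoc, ← hg, Category.assoc]), rfl⟩
    have h1 : g₁' ≫ fst Z N = g₂' ≫ fst Z N := by
      apply Over.OverMorphism.ext
      show g₁'.left ≫ pullback.fst Z.hom N.hom = g₂'.left ≫ pullback.fst Z.hom N.hom
      rw [hg₁', hg₂', ← hp]; exact hg
    have h2 := congrArg (fun t => Over.Hom.left t) (hgen _ g₁' g₂' h1)
    simp only [Over.comp_left, hg₁', hg₂'] at h2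
    exact h2
  obtain ⟨d, hd⟩ : ∃ d : Z.left ⟶ A.left, p ≫ d = m.left :=
    ⟨EffectiveEpi.desc p m.left hcond, EffectiveEpi.fac p m.left hcond⟩
  have hdA : d ≫ A.hom = Z.hom := by
    haveI : Epi p := inferInstance
    rw [← cancel_epi p, ← Category.assoc, hd, hp]
    exact Over.w m
  refine ⟨Over.homMk d hdA, ?_⟩
  haveI := epi_map_fst S₀.ι Z N
  rw [← cancel_epi ((Over.pullback S₀.ι).map (fst Z N)), ← hm, ← CategoryTheory.Functor.map_comp]
  congr 1
  apply Over.OverMorphism.ext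
  show pullback.fst Z.hom N.hom ≫ d = m.left
  rw [← hp]; exact hd

end Groth.Agent.Helper9.NeronProd
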