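import Mathlib

/-!
Connected components of Noetherian spaces.
-/

set_option autoImplicit false

open TopologicalSpace

namespace Groth.Agent.Helper9

variable {α : Type*} [TopologicalSpace α]

theorem connectedComponent_eq_of_mem_irreducibleComponent {x y : α}
    (hy : y ∈ irreducibleComponent x) : connectedComponent y = connectedComponent x := by
  have hconn : IsPreconnected (irreducibleComponent x) :=
    (isIrreducible_irreducibleComponent (x := x)).isConnected.isPreconnected
  have : y ∈ connectedComponent x :=
    hconn.subset_connectedComponent mem_irreducibleComponent hy
  exact (connectedComponent_eq this).symm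

/-- A Noetherian space has finitely many connected components. -/
theorem finite_range_connectedComponent [NoetherianSpace α] :
    (Set.range (connectedComponent : α → Set α)).Finite := by
  have hfin : (irreducibleComponents α).Finite := NoetherianSpace.finite_irreducibleComponents
  refine (hfin.image (fun Z : Set α => ⋃ x ∈ Z, connectedComponent x)).subset ?_
  rintro _ ⟨x, rfl⟩
  refine ⟨irreducibleComponent x, irreducibleComponent_mem_irreducibleComponents x, ?_⟩
  apply subset_antisymm
  · refine Set.iUnion₂_subset fun y hy => ?_
    rw [connectedComponent_eq_of_mem_irreducibleComponent hy]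
  · intro z hz
    exact Set.mem_iUnion₂.2 ⟨x, mem_irreducibleComponent, hz⟩

/-- In a Noetherian space connected components are open. -/
theorem isOpen_connectedComponent_of_noetherianSpace [NoetherianSpace α] (x : α) :
    IsOpen (connectedComponent x) := by
  rw [← isClosed_compl_iff]
  have hfin := finite_range_connectedComponent (α := α)
  have : (connectedComponent x)ᶜ =
      ⋃ C ∈ (Set.range (connectedComponent : α → Set α)) \ {connectedComponent x}, C := by
    ext y
    simp only [Set.mem_compl_iff, Set.mem_iUnion, Set.mem_sdiff, Set.mem_range,
      Set.mem_singleton_iff, exists_prop]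
    constructor
    · intro hy
      refine ⟨connectedComponent y, ⟨⟨y, rfl⟩, ?_⟩, mem_connectedComponent⟩
      intro h
      apply hy
      rw [← h]
      exact mem_connectedComponent
    · rintro ⟨C, ⟨⟨z, rfl⟩, hne⟩, hyC⟩ hyx
      apply hne
      rw [connectedComponent_eq hyC, connectedComponent_eq hyx]
  rw [this]
  refine Set.Finite.isClosed_biUnion (hfin.subset Set.sdiff_subset) ?_
  rintro _ ⟨⟨z, rfl⟩, -⟩
  exact isClosed_connectedComponent

end Groth.Agent.Helper9
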