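import Mathlib
import Groth.Agent.Lib.Helper9.GenStalk

/-!
# Normalization of an integral scheme in a field extension of its function field (helper9)
-/

set_option autoImplicit false
universe u
open CategoryTheory CategoryTheory.Limits AlgebraicGeometry TopologicalSpace

namespace Groth.Agent.Helper9.NormLib

/-- integral closure in a field is an integrally closed domain -/
lemma integralClosure_isIntegrallyClosed {A L : Type*} [CommRing A] [CommRing L] [Algebra A L]
    (hL : IsField L) :
    IsDomain (integralClosure A L) ∧ IsIntegrallyClosed (integralClosure A L) := by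
  letI := hL.toField
  haveI : IsDomain (integralClosure A L) := inferInstance
  refine ⟨inferInstance, ?_⟩
  have hinj : Function.Injective (Algebra.ofId (integralClosure A L) L) := Subtype.val_injective
  exact (IsFractionRing.liftAlgHom (K := FractionRing (integralClosure A L))
    hinj).isIntegrallyClosedIn (RingHom.injective _) inferInstance

lemma exists_affine_nhd {X : Scheme.{u}} (x : X) : ∃ U : X.Opens, IsAffineOpen U ∧ x ∈ U := by
  obtain ⟨_, ⟨A, hA, rfl⟩, hxA, -⟩ := X.isBasis_affineOpens.exists_subset_of_mem_open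
    (Set.mem_univ x) isOpen_univ
  exact ⟨A, hA, hxA⟩

lemma genericPoint_mem {X : Scheme.{u}} [IrreducibleSpace X] (U : X.Opens) (x : X) (hx : x ∈ U) :
    genericPoint X ∈ U :=
  ((genericPoint_spec X).mem_open_set_iff U.isOpen).mpr ⟨x, trivial, hx⟩

/-- the fibre over the generic point of an integral morphism of integral schemes. -/
lemma preimage_genericPoint {X' X : Scheme.{u}} [IsIntegral X'] [IsIntegral X] (ι : X' ⟶ X)
    [IsIntegralHom ι] (hgen : ι.base (genericPoint X') = genericPoint X) :
    ι.base ⁻¹' {genericPoint X} = {genericPoint X'} := by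
  ext x'
  simp only [Set.mem_preimage, Set.mem_singleton_iff]
  constructor
  · intro hx
    obtain ⟨U, hU, hxU⟩ := exists_affine_nhd (ι.base x')
    have hW : IsAffineOpen (ι ⁻¹ᵁ U) := hU.preimage ι
    haveI : Nonempty (ι ⁻¹ᵁ U) := ⟨⟨x', hxU⟩⟩
    haveI : Nonempty U := ⟨⟨ι.base x', hxU⟩⟩
    obtain ⟨P, hP⟩ : ∃ P, hW.fromSpec.base P = x' := by
      have : x' ∈ Set.range hW.fromSpec.base := by rw [hW.range_fromSpec]; exact hxU
      exact this
    have hsq := IsAffineOpen.SpecMap_appLE_fromSpec ι hU hW le_rfl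
    have h1 : hU.fromSpec.base ((Spec.map (ι.app U)).base P) = genericPoint X := by
      rw [← hx, ← hP]
      have := congrArg (fun f => f.base P) hsq
      simpa [Scheme.Hom.app_eq_appLE] using this
    have h2 : hU.fromSpec.base (genericPoint (Spec Γ(X, U))) = genericPoint X :=
      genericPoint_eq_of_isOpenImmersion hU.fromSpec
    have h3 : (Spec.map (ι.app U)).base P = genericPoint (Spec Γ(X, U)) :=
      hU.fromSpec.isOpenEmbedding.injective (h1.trans h2.symm)
    rw [genericPoint_eq_bot_of_affine] at h3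
    have h4 : P.asIdeal.comap (ι.app U).hom = ⊥ := congrArg PrimeSpectrum.asIdeal h3
    letI := (ι.app U).hom.toAlgebra
    haveI : Algebra.IsIntegral Γ(X, U) Γ(X', ι ⁻¹ᵁ U) := ⟨ι.isIntegral_app U hU⟩
    have h5 : P.asIdeal = ⊥ := Ideal.eq_bot_of_comap_eq_bot h4
    have h6 : P = genericPoint (Spec Γ(X', ι ⁻¹ᵁ U)) := by
      rw [genericPoint_eq_bot_of_affine]; exact PrimeSpectrum.ext h5
    rw [← hP, h6]; exact genericPoint_eq_of_isOpenImmersion hW.fromSpec
  · rintro rfl; exact hgen

lemma isIntegrallyClosed_stalk {X' : Scheme.{u}} [IsIntegral X'] {W : X'.Opens}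
    (hW : IsAffineOpen W) (hic : IsIntegrallyClosed Γ(X', W)) (x' : X') (hx : x' ∈ W) :
    IsIntegrallyClosed (X'.presheaf.stalk x') := by
  haveI : Nonempty W := ⟨⟨x', hx⟩⟩
  letI := TopCat.Presheaf.algebra_section_stalk X'.presheaf (⟨x', hx⟩ : W)
  haveI := hW.isLocalization_stalk ⟨x', hx⟩
  exact isIntegrallyClosed_of_isLocalization (X'.presheaf.stalk x')
    (hW.primeIdealOf ⟨x', hx⟩).asIdeal.primeCompl (Ideal.primeCompl_le_nonZeroDivisors _)

lemma germ_sCPT_congr {X : Scheme.{u}} {R : CommRingCat.{u}} [IsLocalRing R] {f₁ f₂ : Spec R ⟶ X}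
    (h : f₁ = f₂) (U : X.Opens) (h1 : f₁.base (IsLocalRing.closedPoint R) ∈ U) :
    X.presheaf.germ U _ h1 ≫ Scheme.stalkClosedPointTo f₁ =
      X.presheaf.germ U _ (h ▸ h1) ≫ Scheme.stalkClosedPointTo f₂ := by
  subst h; rfl

section main
variable {X : Scheme.{u}} [IsIntegral X] {K : Type u} [Field K]
  (φ : X.functionField →+* K) (g : Spec (CommRingCat.of K) ⟶ X)
  (hg : g = Spec.map (CommRingCat.ofHom φ) ≫ X.fromSpecStalk (genericPoint X))

include hg in
lemma g_closedPoint : g.base (IsLocalRing.closedPoint K) = genericPoint X := by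
  subst hg
  have : IsLocalHom (CommRingCat.ofHom φ).hom := inferInstance
  rw [Scheme.Hom.comp_apply, Spec_closedPoint, Scheme.fromSpecStalk_closedPoint]

set_option backward.isDefEq.respectTransparency false in
include hg in
lemma germ_sCPT_g (U : X.Opens) (hU : g.base (IsLocalRing.closedPoint K) ∈ U)
    (hξ : genericPoint X ∈ U) :
    X.presheaf.germ U _ hU ≫ Scheme.stalkClosedPointTo g =
      X.presheaf.germ U (genericPoint X) hξ ≫ CommRingCat.ofHom φ := by
  subst hg
  exact Scheme.germ_stalkClosedPointTo_Spec_fromSpecStalk (CommRingCat.ofHom φ) U hU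

variable [QuasiCompact g] [QuasiSeparated g]

lemma toNorm_closedPoint :
    g.toNormalization.base (IsLocalRing.closedPoint K) = genericPoint g.normalization := by
  have := GenStalk.map_genericPoint g.toNormalization
  rw [← this]; congr 1; exact @Subsingleton.elim (PrimeSpectrum K) inferInstance _ _

include hg in
lemma fromNorm_genericPoint :
    g.fromNormalization.base (genericPoint g.normalization) = genericPoint X := by
  rw [← toNorm_closedPoint g, ← g_closedPoint φ g hg]
  exact congrArg (fun f => f.base (IsLocalRing.closedPoint K)) g.toNormalization_fromNormalization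

set_option backward.isDefEq.respectTransparency false in
include hg in
lemma compat (U : X.Opens) (hξ : genericPoint X ∈ U)
    (hW : g.toNormalization.base (IsLocalRing.closedPoint K) ∈ g.fromNormalization ⁻¹ᵁ U) :
    X.presheaf.germ U (genericPoint X) hξ ≫ CommRingCat.ofHom φ =
      g.fromNormalization.app U ≫ g.normalization.presheaf.germ (g.fromNormalization ⁻¹ᵁ U) _ hW ≫
        Scheme.stalkClosedPointTo g.toNormalization := by
  rw [← Scheme.Hom.germ_stalkMap_assoc, ← Scheme.stalkClosedPointTo_comp]
  exact ((germ_sCPT_congr g.toNormalization_fromNormalization U hW).trans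
    (germ_sCPT_g φ g hg U _ hξ)).symm

lemma isField_stalk_toNorm : IsField (g.normalization.presheaf.stalk
    (g.toNormalization.base (IsLocalRing.closedPoint K))) := by
  rw [toNorm_closedPoint g]; exact Field.toIsField g.normalization.functionField

include hg in
lemma toNorm_mem (U : X.Opens) (hξ : genericPoint X ∈ U) :
    g.toNormalization.base (IsLocalRing.closedPoint K) ∈ g.fromNormalization ⁻¹ᵁ U := by
  show g.fromNormalization.base (g.toNormalization.base (IsLocalRing.closedPoint K)) ∈ U
  rw [toNorm_closedPoint, fromNorm_genericPoint φ g hg]; exact hξ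

set_option backward.isDefEq.respectTransparency false in
include hg in
lemma range_subset (z : g.normalization.presheaf.stalk
      (g.toNormalization.base (IsLocalRing.closedPoint K))) :
    ∃ q : Polynomial X.functionField, q.Monic ∧
      Polynomial.eval₂ φ ((Scheme.stalkClosedPointTo g.toNormalization).hom z) q = 0 := by
  obtain ⟨U, hU, hξU⟩ := exists_affine_nhd (genericPoint X)
  have hcp := toNorm_mem φ g hg U hξU
  have hW : IsAffineOpen (g.fromNormalization ⁻¹ᵁ U) := hU.preimage _
  letI := TopCat.Presheaf.algebra_section_stalk g.normalization.presheaf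
    (⟨g.toNormalization.base (IsLocalRing.closedPoint K), hcp⟩ : (g.fromNormalization ⁻¹ᵁ U : _))
  haveI := hW.isLocalization_stalk ⟨g.toNormalization.base (IsLocalRing.closedPoint K), hcp⟩
  obtain ⟨⟨b, m⟩, hbm⟩ := IsLocalization.surj (hW.primeIdealOf ⟨_, hcp⟩).asIdeal.primeCompl z
  have hunit : IsUnit ((g.normalization.presheaf.germ (g.fromNormalization ⁻¹ᵁ U) _ hcp).hom m.1) :=
    IsLocalization.map_units _ m
  have hbm' : z * (g.normalization.presheaf.germ (g.fromNormalization ⁻¹ᵁ U) _ hcp).hom m.1 =
      (g.normalization.presheaf.germ (g.fromNormalization ⁻¹ᵁ U) _ hcp).hom b := hbm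
  let gB : Γ(g.normalization, g.fromNormalization ⁻¹ᵁ U) →+* K :=
    (Scheme.stalkClosedPointTo g.toNormalization).hom.comp
      (g.normalization.presheaf.germ (g.fromNormalization ⁻¹ᵁ U) _ hcp).hom
  have hcompat : φ.comp (X.presheaf.germ U (genericPoint X) hξU).hom =
      gB.comp (g.fromNormalization.app U).hom := by
    have := compat φ g hg U hξU hcp
    exact congrArg CommRingCat.Hom.hom this
  have key := GenStalk.isIntegralElem_frac (g.fromNormalization.app U).hom
    (X.presheaf.germ U (genericPoint X) hξU).hom gB φ hcompat (Field.toIsField _)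
    (g.fromNormalization.isIntegral_app U hU) b m.1
  have hΦ : (Scheme.stalkClosedPointTo g.toNormalization).hom z * gB m.1 = gB b := by
    have := congrArg (Scheme.stalkClosedPointTo g.toNormalization).hom hbm'
    rw [map_mul] at this
    exact this
  have hne : gB m.1 ≠ 0 := (hunit.map (Scheme.stalkClosedPointTo g.toNormalization).hom).ne_zero
  have : (Scheme.stalkClosedPointTo g.toNormalization).hom z = gB b * (gB m.1)⁻¹ :=
    (eq_mul_inv_iff_mul_eq₀ hne).mpr hΦ
  rw [this]; exact key

/-- iso `Γ(Spec K, V) ≅ K` for `V = ⊤`. -/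
noncomputable def lam (V : (Spec (CommRingCat.of K)).Opens) (h : V = ⊤) :
    Γ(Spec (CommRingCat.of K), V) ≅ CommRingCat.of K :=
  (Spec (CommRingCat.of K)).presheaf.mapIso (eqToIso h.symm).op ≪≫
    Scheme.ΓSpecIso (CommRingCat.of K)

omit [IsIntegral X] in
lemma lam_res (V V' : (Spec (CommRingCat.of K)).Opens) (h : V = ⊤) (h' : V' = ⊤) (le : V ≤ V') :
    (Spec (CommRingCat.of K)).presheaf.map (homOfLE le).op ≫ (lam V h).hom = (lam V' h').hom := by
  subst h h'
  have : homOfLE le = 𝟙 _ := Subsingleton.elim _ _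
  rw [this]
  simp [lam]

set_option backward.isDefEq.respectTransparency false in
include hg in
lemma normal (x' : g.normalization) :
    IsDomain (g.normalization.presheaf.stalk x') ∧
      IsIntegrallyClosed (g.normalization.presheaf.stalk x') := by
  refine ⟨inferInstance, ?_⟩
  obtain ⟨U, hU, hxU⟩ := exists_affine_nhd (g.fromNormalization.base x')
  have hξU : genericPoint X ∈ U := genericPoint_mem U _ hxU
  have hgU : g.base (IsLocalRing.closedPoint K) ∈ U := by rw [g_closedPoint φ g hg]; exact hξU
  have hW : IsAffineOpen (g.fromNormalization ⁻¹ᵁ U) := hU.preimage _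
  letI : Algebra Γ(X, U) Γ(Spec (CommRingCat.of K), g ⁻¹ᵁ U) := (g.app U).hom.toAlgebra
  let lamU := lam (g ⁻¹ᵁ U) (Scheme.preimage_eq_top_of_closedPoint_mem g hgU)
  have hL : IsField Γ(Spec (CommRingCat.of K), g ⁻¹ᵁ U) :=
    lamU.commRingCatIsoToRingEquiv.toMulEquiv.isField (Field.toIsField K)
  obtain ⟨hdom, hic⟩ := integralClosure_isIntegrallyClosed (A := Γ(X, U)) hL
  let e := g.normalizationObjIso hU
  have : IsIntegrallyClosed Γ(g.normalization, g.fromNormalization ⁻¹ᵁ U) :=
    IsIntegrallyClosed.of_equiv e.symm.commRingCatIsoToRingEquiv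
  exact isIntegrallyClosed_stalk hW this x' hxU

set_option backward.isDefEq.respectTransparency false in
include hg in
lemma range_supset (y : K) (q : Polynomial X.functionField) (hq : q.Monic)
    (hy : Polynomial.eval₂ φ y q = 0) :
    ∃ z, (Scheme.stalkClosedPointTo g.toNormalization).hom z = y := by
  obtain ⟨U, hU, hξU⟩ := exists_affine_nhd (genericPoint X)
  have hcp := toNorm_mem φ g hg U hξU
  have hgU : g.base (IsLocalRing.closedPoint K) ∈ U := by rw [g_closedPoint φ g hg]; exact hξU
  haveI : Nonempty U := ⟨⟨_, hξU⟩⟩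
  haveI := functionField_isFractionRing_of_isAffineOpen X U hU
  letI : Algebra X.functionField K := φ.toAlgebra
  letI : Algebra Γ(X, U) K := (φ.comp (algebraMap Γ(X, U) X.functionField)).toAlgebra
  haveI : IsScalarTower Γ(X, U) X.functionField K := IsScalarTower.of_algebraMap_eq' rfl
  have hyint : IsIntegral X.functionField y := ⟨q, hq, hy⟩
  obtain ⟨⟨m, hm⟩, hmy⟩ := IsIntegral.exists_multiple_integral_of_isLocalization
    (nonZeroDivisors Γ(X, U)) y hyint
  have hmy' : IsIntegral Γ(X, U) (φ ((X.presheaf.germ U (genericPoint X) hξU).hom m) * y) := hmy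
  letI : Algebra Γ(X, U) Γ(Spec (CommRingCat.of K), g ⁻¹ᵁ U) := (g.app U).hom.toAlgebra
  let lamU := lam (g ⁻¹ᵁ U) (Scheme.preimage_eq_top_of_closedPoint_mem g hgU)
  have hlam : g.app U ≫ lamU.hom =
      X.presheaf.germ U (genericPoint X) hξU ≫ CommRingCat.ofHom φ := by
    rw [← germ_sCPT_g φ g hg U hgU hξU]; exact (Scheme.germ_stalkClosedPointTo g U hgU).symm
  have hlam' : ∀ a : Γ(X, U), lamU.hom.hom ((g.app U).hom a) =
      φ ((X.presheaf.germ U (genericPoint X) hξU).hom a) := fun a =>
    congrArg (fun f => f.hom a) hlam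
  let ℓ : Γ(Spec (CommRingCat.of K), g ⁻¹ᵁ U) :=
    lamU.inv.hom (φ ((X.presheaf.germ U (genericPoint X) hξU).hom m) * y)
  have hlℓ : lamU.hom.hom ℓ = φ ((X.presheaf.germ U (genericPoint X) hξU).hom m) * y := by
    simp [ℓ]
  have hℓ : IsIntegral Γ(X, U) ℓ := by
    obtain ⟨p, hp, hpe⟩ := hmy'
    refine ⟨p, hp, ?_⟩
    have hinj : Function.Injective lamU.hom.hom :=
      (ConcreteCategory.bijective_of_isIso lamU.hom).1
    apply hinj
    rw [map_zero, Polynomial.hom_eval₂, hlℓ]
    have hring : lamU.hom.hom.comp (algebraMap Γ(X, U) Γ(Spec (CommRingCat.of K), g ⁻¹ᵁ U)) =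
        algebraMap Γ(X, U) K := RingHom.ext hlam'
    rw [hring]; exact hpe
  let e := g.normalizationObjIso hU
  let b : Γ(g.normalization, g.fromNormalization ⁻¹ᵁ U) := e.inv.hom ⟨ℓ, hℓ⟩
  let gB : Γ(g.normalization, g.fromNormalization ⁻¹ᵁ U) →+* K :=
    (Scheme.stalkClosedPointTo g.toNormalization).hom.comp
      (g.normalization.presheaf.germ (g.fromNormalization ⁻¹ᵁ U) _ hcp).hom
  have hle : g ⁻¹ᵁ U ≤ g.toNormalization ⁻¹ᵁ (g.fromNormalization ⁻¹ᵁ U) := by
    simp [← Scheme.Hom.comp_preimage]
  have hgB : ∀ s, gB s = lamU.hom.hom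
      ((g.toNormalization.appLE (g.fromNormalization ⁻¹ᵁ U) (g ⁻¹ᵁ U) hle).hom s) := by
    intro s
    have h1 := Scheme.germ_stalkClosedPointTo g.toNormalization (g.fromNormalization ⁻¹ᵁ U) hcp
    have h2 := lam_res (g ⁻¹ᵁ U) (g.toNormalization ⁻¹ᵁ (g.fromNormalization ⁻¹ᵁ U))
      (Scheme.preimage_eq_top_of_closedPoint_mem g hgU)
      (Scheme.preimage_eq_top_of_closedPoint_mem g.toNormalization hcp) hle
    have h3 : g.normalization.presheaf.germ (g.fromNormalization ⁻¹ᵁ U) _ hcp ≫
        Scheme.stalkClosedPointTo g.toNormalization =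
        g.toNormalization.appLE (g.fromNormalization ⁻¹ᵁ U) (g ⁻¹ᵁ U) hle ≫ lamU.hom := by
      rw [h1, Scheme.Hom.appLE, Category.assoc, h2]; rfl
    exact congrArg (fun f => f.hom s) h3
  have hval := g.normalizationObjIso_hom_val hU
  have hgBb : gB b = φ ((X.presheaf.germ U (genericPoint X) hξU).hom m) * y := by
    rw [hgB b, ← hlℓ]
    congr 1
    have := congrArg (fun f => f.hom (e.inv.hom ⟨ℓ, hℓ⟩)) hval
    simp only [CommRingCat.hom_comp, RingHom.comp_apply] at this
    rw [← this]
    simp [e]
  have hcompat := compat φ g hg U hξU hcp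
  have hgBm : gB ((g.fromNormalization.app U).hom m) =
      φ ((X.presheaf.germ U (genericPoint X) hξU).hom m) :=
    (congrArg (fun f => f.hom m) hcompat).symm
  have hm0 : m ≠ 0 := nonZeroDivisors.ne_zero hm
  have hφm : φ ((X.presheaf.germ U (genericPoint X) hξU).hom m) ≠ 0 := by
    rw [Ne, map_eq_zero φ]
    intro h0
    exact hm0 (germ_injective_of_isIntegral X _ hξU (h0.trans (map_zero _).symm))
  have hF := isField_stalk_toNorm g
  have hgerm_ne : (g.normalization.presheaf.germ (g.fromNormalization ⁻¹ᵁ U) _ hcp).hom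
      ((g.fromNormalization.app U).hom m) ≠ 0 := by
    intro h0
    apply hφm
    rw [← hgBm]
    show (Scheme.stalkClosedPointTo g.toNormalization).hom _ = 0
    rw [h0, map_zero]
  obtain ⟨u, hu⟩ := hF.mul_inv_cancel hgerm_ne
  refine ⟨(g.normalization.presheaf.germ (g.fromNormalization ⁻¹ᵁ U) _ hcp).hom b * u, ?_⟩
  have h1 : gB ((g.fromNormalization.app U).hom m) *
      (Scheme.stalkClosedPointTo g.toNormalization).hom u = 1 := by
    show (Scheme.stalkClosedPointTo g.toNormalization).hom _ * _ = 1
    rw [← map_mul, hu, map_one]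
  rw [hgBm] at h1
  rw [map_mul]
  show gB b * _ = y
  rw [hgBb]
  calc φ ((X.presheaf.germ U (genericPoint X) hξU).hom m) * y *
        (Scheme.stalkClosedPointTo g.toNormalization).hom u
      = y * (φ ((X.presheaf.germ U (genericPoint X) hξU).hom m) *
        (Scheme.stalkClosedPointTo g.toNormalization).hom u) := by ring
    _ = y := by rw [h1, mul_one]

set_option backward.isDefEq.respectTransparency false in
include hg in
lemma surj_stalkMap (hφ : Function.Surjective φ) :
    Function.Surjective (g.fromNormalization.stalkMap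
      (g.toNormalization.base (IsLocalRing.closedPoint K))).hom := by
  intro s
  have hinj : Function.Injective (Scheme.stalkClosedPointTo g.toNormalization).hom := by
    letI := (isField_stalk_toNorm g).toField
    exact RingHom.injective _
  obtain ⟨y0, hy0⟩ := hφ ((Scheme.stalkClosedPointTo g.toNormalization).hom s)
  obtain ⟨U, hU, a, rfl⟩ := TopCat.Presheaf.exists_germ_eq X.presheaf y0
  have hcp := toNorm_mem φ g hg U hU
  refine ⟨(X.presheaf.germ U _ hcp).hom a, ?_⟩
  apply hinj
  rw [← hy0]
  have h1 := congrArg (fun f => f.hom a) (compat φ g hg U hU hcp)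
  have h2 := congrArg (fun f => f.hom a) (Scheme.Hom.germ_stalkMap g.fromNormalization U _ hcp)
  simp only [CommRingCat.hom_comp, RingHom.comp_apply] at h1 h2
  rw [h2]; exact h1.symm

include hg in
lemma surj_stalkMap_generic (hφ : Function.Surjective φ) :
    Function.Surjective (g.fromNormalization.stalkMap (genericPoint g.normalization)).hom := by
  have h := surj_stalkMap φ g hg hφ
  rw [toNorm_closedPoint g] at h
  exact h

end main

lemma bij_residue {X' X : Scheme.{u}} (ι : X' ⟶ X) (x : X')
    (h : Function.Surjective (ι.stalkMap x).hom) :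
    Function.Bijective (ι.residueFieldMap x).hom := by
  refine ⟨RingHom.injective _, fun z => ?_⟩
  obtain ⟨s, rfl⟩ := X'.residue_surjective x z
  obtain ⟨r, rfl⟩ := h s
  refine ⟨(X.residue _).hom r, ?_⟩
  exact congrArg (fun f => f.hom r) (Scheme.residue_residueFieldMap ι x)

lemma surjective_of_integral {X' X : Scheme.{u}} [IrreducibleSpace X] (ι : X' ⟶ X)
    [IsIntegralHom ι] (x' : X') (h : ι.base x' = genericPoint X) : Surjective ι := by
  constructor
  intro x
  have hcl : IsClosed (Set.range ι.base) := ι.isClosedMap.isClosed_range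
  have hξ : genericPoint X ∈ Set.range ι.base := ⟨_, h⟩
  exact hcl.closure_subset_iff.mpr (Set.singleton_subset_iff.mpr hξ)
    (genericPoint_specializes x).mem_closure

end Groth.Agent.Helper9.NormLib
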