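import Mathlib
import Groth.Prelude.Def_Frob
import Groth.Prelude.Def_Flat
import Groth.Agent.Lib.Helper9.FrobHomeo

/-!
Perfections of schemes of characteristic `p`: structure theory from the universal property.
-/

set_option autoImplicit false
universe u

open CategoryTheory AlgebraicGeometry Limits FrobSch

namespace Groth.Agent.Helper9.Perf

variable (p : ℕ) [Fact p.Prime]

/-- An affine scheme of characteristic `p` whose ring of global sections has bijective `p`-th power
map is perfect. -/
theorem isPerfect_of_isAffine (X : Scheme.{u}) [IsCharP X p] [IsAffine X]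
    (h : Function.Bijective (fun s : Γ(X, ⊤) => s ^ p)) : IsPerfect X p := by
  have h1 : IsIso (frob X p).appTop := by
    rw [ConcreteCategory.isIso_iff_bijective]
    exact h
  exact (HasAffineProperty.iff_of_isAffine (P := MorphismProperty.isomorphisms Scheme)).mpr
    ⟨inferInstance, h1⟩

/-- On a perfect scheme, the `p`-th power map on global sections is bijective. -/
theorem bijective_pow_of_isPerfect (Y : Scheme.{u}) [IsCharP Y p] (hY : IsPerfect Y p) :
    Function.Bijective (fun s : Γ(Y, ⊤) => s ^ p) := by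
  have : IsIso (frob Y p) := hY
  have h1 : IsIso (frob Y p).appTop := inferInstanceAs (IsIso ((frob Y p).app ⊤))
  rw [ConcreteCategory.isIso_iff_bijective] at h1
  exact h1

/-- The spectrum of a perfect ring is a perfect scheme. -/
theorem isPerfect_Spec (R : Type u) [CommRing R] [CharP R p] [PerfectRing R p] :
    IsPerfect (Spec (CommRingCat.of R)) p := by
  apply isPerfect_of_isAffine
  let e := (Scheme.ΓSpecIso (CommRingCat.of R)).commRingCatIsoToRingEquiv
  have hb : Function.Bijective (fun x : R => x ^ p) := PerfectRing.bijective_frobenius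
  constructor
  · intro s t hst
    apply e.injective
    apply hb.1
    simp only [← map_pow]
    exact congrArg e hst
  · intro t
    obtain ⟨r, hr⟩ := hb.2 (e t)
    refine ⟨e.symm r, ?_⟩
    apply e.injective
    simp only [map_pow, RingEquiv.apply_symm_apply]
    exact hr

omit [Fact p.Prime] in
/-- If composition with `ι` is bijective on ring maps into `Γ(Y, ⊤)`, then composition with `Spec ι`
is bijective on morphisms from `Y`. -/
theorem bijective_comp_SpecMap {A B : CommRingCat.{u}} (ι : A ⟶ B) (Y : Scheme.{u})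
    (h : Function.Bijective (fun ψ : B ⟶ Γ(Y, ⊤) => ι ≫ ψ)) :
    Function.Bijective (fun g : Y ⟶ Spec B => g ≫ Spec.map ι) := by
  have key : ∀ g : Y ⟶ Spec B, ι ≫ ((Scheme.ΓSpecIso B).inv ≫ g.appTop) =
      (Scheme.ΓSpecIso A).inv ≫ (g ≫ Spec.map ι).appTop := by
    intro g
    rw [Scheme.Hom.comp_appTop, ← Category.assoc, Scheme.ΓSpecIso_inv_naturality, Category.assoc]
  constructor
  · intro g1 g2 hg
    apply ext_of_isAffine
    have h1 : ι ≫ ((Scheme.ΓSpecIso B).inv ≫ g1.appTop) =
        ι ≫ ((Scheme.ΓSpecIso B).inv ≫ g2.appTop) := by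
      rw [key, key]
      exact congrArg (fun t => (Scheme.ΓSpecIso A).inv ≫ Scheme.Hom.appTop t) hg
    exact (cancel_epi (Scheme.ΓSpecIso B).inv).mp (h.1 h1)
  · intro g
    obtain ⟨ψ, hψ⟩ := h.2 ((Scheme.ΓSpecIso A).inv ≫ g.appTop)
    refine ⟨Y.toSpecΓ ≫ Spec.map ψ, ?_⟩
    change (Y.toSpecΓ ≫ Spec.map ψ) ≫ Spec.map ι = g
    have hψ' : ι ≫ ψ = (Scheme.ΓSpecIso A).inv ≫ g.appTop := hψ
    rw [Category.assoc, ← Spec.map_comp, hψ', Spec.map_comp, ← Scheme.toSpecΓ_naturality_assoc,
      ← SpecMap_ΓSpecIso_hom, ← Spec.map_comp, Iso.inv_hom_id, Spec.map_id, Category.comp_id]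

/-- Composition with a `p`-radical ring map is bijective on ring maps into a ring with `p = 0` and
bijective `p`-th power map (possibly the zero ring). -/
theorem bijective_comp_of_isPRadical {A B C : Type u} [CommRing A] [CommRing B] [CommRing C]
    [CharP A p] [CharP B p] (ι : A →+* B) [IsPRadical ι p] (hC : (p : C) = 0)
    (hbij : Function.Bijective (fun c : C => c ^ p)) :
    Function.Bijective (fun ψ : B →+* C => ψ.comp ι) := by
  rcases subsingleton_or_nontrivial C with hs | hn
  · constructor
    · intro ψ1 ψ2 _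
      ext x
      exact Subsingleton.elim _ _
    · intro φ
      refine ⟨{ toFun := fun _ => 0
                map_one' := Subsingleton.elim _ _
                map_mul' := fun _ _ => Subsingleton.elim _ _
                map_zero' := rfl
                map_add' := fun _ _ => Subsingleton.elim _ _ }, ?_⟩
      ext x
      exact Subsingleton.elim _ _
  · have : CharP C p := (CharP.charP_iff_prime_eq_zero Fact.out).2 hC
    have : ExpChar C p := ExpChar.prime Fact.out
    have : ExpChar A p := ExpChar.prime Fact.out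
    have : ExpChar B p := ExpChar.prime Fact.out
    have : PerfectRing C p := ⟨hbij⟩
    exact (PerfectRing.liftEquiv C ι p).symm.bijective

/-- `Spec` of the perfect closure of a ring of characteristic `p` is a perfection of its
spectrum. -/
theorem isPerfection_Spec (A : Type u) [CommRing A] [CharP A p] :
    IsPerfection (Spec.map (CommRingCat.ofHom (PerfectClosure.of A p))) p := by
  refine ⟨isPerfect_Spec p (PerfectClosure A p), fun Y _ hY => ?_⟩
  apply bijective_comp_SpecMap
  have hb := bijective_comp_of_isPRadical p (PerfectClosure.of A p) (C := Γ(Y, ⊤))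
    (IsCharP.natCast_eq_zero) (bijective_pow_of_isPerfect p Y hY)
  constructor
  · intro ψ1 ψ2 h12
    apply CommRingCat.hom_ext
    apply hb.1
    exact congrArg CommRingCat.Hom.hom h12
  · intro φ
    obtain ⟨ψ, hψ⟩ := hb.2 φ.hom
    exact ⟨CommRingCat.ofHom ψ, CommRingCat.hom_ext hψ⟩

/-- Open subschemes of schemes of characteristic `p` have characteristic `p`. -/
instance isCharP_opens (X : Scheme.{u}) [IsCharP X p] (U : X.Opens) : IsCharP (U : Scheme.{u}) p :=
  IsCharP.of_hom U.ι p

/-- An open subscheme of a perfect scheme is perfect. -/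
theorem isPerfect_opens (X : Scheme.{u}) [IsCharP X p] (hX : IsPerfect X p) (U : X.Opens) :
    IsPerfect (U : Scheme.{u}) p := by
  have : IsIso (frob X p) := hX
  have h1 : frob (U : Scheme.{u}) p ≫ U.ι = U.ι ≫ frob X p := frob_comp p U.ι
  have h2 : IsOpenImmersion (frob (U : Scheme.{u}) p ≫ U.ι) := by rw [h1]; infer_instance
  have h3 : IsOpenImmersion (frob (U : Scheme.{u}) p) := IsOpenImmersion.of_comp _ U.ι
  exact (isIso_iff_isOpenImmersion_and_surjective _).mpr ⟨h3, inferInstance⟩

/-- Composing a perfection with an isomorphism of the base gives a perfection. -/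
theorem isPerfection_comp_iso {XP X X' : Scheme.{u}} [IsCharP XP p] (π : XP ⟶ X)
    (hπ : IsPerfection π p) (e : X ⟶ X') [IsIso e] : IsPerfection (π ≫ e) p := by
  refine ⟨hπ.1, fun Y _ hY => ?_⟩
  have h1 := hπ.2 Y hY
  have h2 : Function.Bijective (fun g : Y ⟶ X => g ≫ e) :=
    ⟨fun a b hab => (cancel_mono e).mp hab, fun g => ⟨g ≫ inv e, by simp⟩⟩
  have := h2.comp h1
  convert this using 2
  simp

/-- Precomposing a perfection with an isomorphism gives a perfection. -/
theorem isPerfection_iso_comp {XP XP' X : Scheme.{u}} [IsCharP XP p] [IsCharP XP' p] (π : XP ⟶ X)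
    (hπ : IsPerfection π p) (e : XP' ⟶ XP) [IsIso e] : IsPerfection (e ≫ π) p := by
  have hP : IsPerfect XP p := hπ.1
  have : IsIso (frob XP p) := hP
  refine ⟨?_, fun Y _ hY => ?_⟩
  · have h1 : frob XP' p ≫ e = e ≫ frob XP p := frob_comp p e
    have h2 : frob XP' p = e ≫ frob XP p ≫ inv e := by
      rw [← Category.assoc, ← h1, Category.assoc, IsIso.hom_inv_id, Category.comp_id]
    change IsIso (frob XP' p)
    rw [h2]; infer_instance
  · have h1 := hπ.2 Y hY
    have h2 : Function.Bijective (fun g : Y ⟶ XP' => g ≫ e) :=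
      ⟨fun a b hab => (cancel_mono e).mp hab, fun g => ⟨g ≫ inv e, by simp⟩⟩
    have := h1.comp h2
    convert this using 2
    simp

/-- Two perfections of the same scheme are isomorphic over it. -/
theorem exists_iso_of_isPerfection {XP XP' X : Scheme.{u}} [IsCharP XP p] [IsCharP XP' p]
    (π : XP ⟶ X) (π' : XP' ⟶ X) (hπ : IsPerfection π p) (hπ' : IsPerfection π' p) :
    ∃ e : XP ≅ XP', e.hom ≫ π' = π := by
  obtain ⟨a, ha⟩ := (hπ'.2 XP hπ.1).2 π
  obtain ⟨b, hb⟩ := (hπ.2 XP' hπ'.1).2 π'
  simp only at ha hb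
  refine ⟨⟨a, b, ?_, ?_⟩, ha⟩
  · apply (hπ.2 XP hπ.1).1
    simp only [Category.assoc, hb, ha, Category.id_comp]
  · apply (hπ'.2 XP' hπ'.1).1
    simp only [Category.assoc, hb, ha, Category.id_comp]

/-- The restriction of a perfection to an open subscheme of the base is a perfection. -/
theorem isPerfection_restrict {XP X : Scheme.{u}} [IsCharP XP p] (π : XP ⟶ X)
    (hπ : IsPerfection π p) (U : X.Opens) : IsPerfection (π ∣_ U) p := by
  refine ⟨isPerfect_opens p XP hπ.1 _, fun Y _ hY => ?_⟩
  constructor
  · intro g1 g2 h12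
    simp only at h12
    rw [← cancel_mono (π ⁻¹ᵁ U).ι]
    apply (hπ.2 Y hY).1
    simp only [Category.assoc]
    rw [← morphismRestrict_ι, ← Category.assoc, h12, Category.assoc]
  · intro g
    obtain ⟨h, hh⟩ := (hπ.2 Y hY).2 (g ≫ U.ι)
    simp only at hh
    have hrange : Set.range h ⊆ Set.range (π ⁻¹ᵁ U).ι := by
      rintro _ ⟨y, rfl⟩
      rw [Scheme.Opens.range_ι]
      change π (h y) ∈ U
      rw [← Scheme.Hom.comp_apply, hh, Scheme.Hom.comp_apply]
      exact (g y).2
    refine ⟨IsOpenImmersion.lift (π ⁻¹ᵁ U).ι h hrange, ?_⟩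
    simp only
    rw [← cancel_mono U.ι, Category.assoc, morphismRestrict_ι, IsOpenImmersion.lift_fac_assoc, hh]

/-- Local structure of a perfection over a nonempty affine open: it is `Spec` of the perfect
closure of the ring of sections. -/
theorem exists_iso_Spec_perfectClosure {XP X : Scheme.{u}} [IsCharP XP p] [IsCharP X p]
    (π : XP ⟶ X) (hπ : IsPerfection π p) (U : X.Opens) (hU : IsAffineOpen U) [Nonempty U] :
    ∃ (_ : CharP Γ(X, U) p)
      (e : (π ⁻¹ᵁ U : Scheme.{u}) ≅ Spec (CommRingCat.of (PerfectClosure Γ(X, U) p))),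
      e.hom ≫ Spec.map (CommRingCat.ofHom (PerfectClosure.of Γ(X, U) p)) ≫ hU.isoSpec.inv =
        π ∣_ U := by
  have hc : CharP Γ(X, U) p :=
    (CharP.charP_iff_prime_eq_zero Fact.out).2 (natCast_eq_zero_app X p U)
  refine ⟨hc, ?_⟩
  have h1 := isPerfection_restrict p π hπ U
  have h2 := isPerfection_comp_iso p _ (isPerfection_Spec p Γ(X, U)) hU.isoSpec.inv
  exact exists_iso_of_isPerfection p (π ∣_ U) _ h1 h2

/-- The perfect closure map is integral. -/
theorem isIntegral_perfectClosure_of (A : Type u) [CommRing A] [CharP A p] :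
    (PerfectClosure.of A p).IsIntegral := by
  intro b
  obtain ⟨n, a, ha⟩ := IsPRadical.pow_mem (PerfectClosure.of A p) p b
  have hpos : 0 < p ^ n := pow_pos (Fact.out : p.Prime).pos n
  let _ : Algebra A (PerfectClosure A p) := (PerfectClosure.of A p).toAlgebra
  change IsIntegral A b
  refine IsIntegral.of_pow hpos ?_
  rw [← ha]
  exact isIntegral_algebraMap

/-- A perfection is an integral morphism. -/
theorem isIntegralHom_of_isPerfection {XP X : Scheme.{u}} [IsCharP XP p] [IsCharP X p]
    (π : XP ⟶ X) (hπ : IsPerfection π p) : IsIntegralHom π := by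
  let 𝒰 := X.affineCover
  have hsup : (⨆ x : X, (𝒰.f (𝒰.idx x)).opensRange) = ⊤ := by
    rw [eq_top_iff]
    intro x _
    exact TopologicalSpace.Opens.mem_iSup.mpr ⟨x, 𝒰.covers x⟩
  rw [IsZariskiLocalAtTarget.iff_of_iSup_eq_top (P := @IsIntegralHom) _ hsup]
  intro x
  have hU : IsAffineOpen (𝒰.f (𝒰.idx x)).opensRange := isAffineOpen_opensRange _
  have : Nonempty ((𝒰.f (𝒰.idx x)).opensRange) := ⟨⟨x, 𝒰.covers x⟩⟩
  obtain ⟨_, e, he⟩ := exists_iso_Spec_perfectClosure p π hπ _ hU
  rw [← he]
  have : IsIntegralHom (Spec.map (CommRingCat.ofHom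
      (PerfectClosure.of Γ(X, (𝒰.f (𝒰.idx x)).opensRange) p))) := by
    rw [IsIntegralHom.SpecMap_iff]
    exact isIntegral_perfectClosure_of p _
  infer_instance

omit [Fact p.Prime] in
/-- For a field extension `K → L`, `Spec L ⟶ Spec K` is right-cancellable against morphisms to any
scheme. -/
theorem SpecMap_field_cancel {K L : Type u} [Field K] [Field L] (ι : K →+* L) {X : Scheme.{u}}
    (g1 g2 : Spec (CommRingCat.of K) ⟶ X)
    (h : Spec.map (CommRingCat.ofHom ι) ≫ g1 = Spec.map (CommRingCat.ofHom ι) ≫ g2) :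
    g1 = g2 := by
  have key : ∀ a : (Σ x, X.residueField x ⟶ CommRingCat.of K),
      Scheme.SpecToEquivOfField L X
        (Spec.map (CommRingCat.ofHom ι) ≫ (Scheme.SpecToEquivOfField K X).symm a) =
      ⟨a.1, a.2 ≫ CommRingCat.ofHom ι⟩ := by
    intro a
    rw [← Equiv.eq_symm_apply]
    simp only [Scheme.SpecToEquivOfField_symm_apply, Spec.map_comp, Category.assoc]
  apply (Scheme.SpecToEquivOfField K X).injective
  have e1 : g1 = (Scheme.SpecToEquivOfField K X).symm (Scheme.SpecToEquivOfField K X g1) :=
    (Equiv.symm_apply_apply _ _).symm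
  have e2 : g2 = (Scheme.SpecToEquivOfField K X).symm (Scheme.SpecToEquivOfField K X g2) :=
    (Equiv.symm_apply_apply _ _).symm
  have h' := congrArg (Scheme.SpecToEquivOfField L X) h
  rw [e1, e2, key, key] at h'
  rw [Scheme.SpecToEquivOfField_eq_iff] at h' ⊢
  obtain ⟨e, he⟩ := h'
  refine ⟨e, ?_⟩
  simp only at he
  apply CommRingCat.hom_ext
  apply RingHom.ext
  intro z
  have := congrArg (fun φ => φ.hom z) he
  simp only [CommRingCat.hom_comp, CommRingCat.hom_ofHom, RingHom.comp_apply] at this
  exact ι.injective this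

/-- A field over which `Spec` has characteristic `p` has characteristic `p`. -/
theorem charP_of_isCharP_Spec (K : Type u) [Field K] [IsCharP (Spec (CommRingCat.of K)) p] :
    CharP K p := by
  rw [CharP.charP_iff_prime_eq_zero Fact.out]
  have h := IsCharP.natCast_eq_zero (X := Spec (CommRingCat.of K)) (p := p)
  have h2 := congrArg (Scheme.ΓSpecIso (CommRingCat.of K)).commRingCatIsoToRingEquiv h
  rw [map_natCast, map_zero] at h2
  exact h2

/-- A perfection is universally injective. -/
theorem universallyInjective_of_isPerfection {XP X : Scheme.{u}} [IsCharP XP p]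
    (π : XP ⟶ X) (hπ : IsPerfection π p) : UniversallyInjective π := by
  have e := (tfae_universallyInjective π).out 0 1
  rw [e]
  intro K _ g1 g2 h12
  simp only at h12
  have : IsCharP (Spec (CommRingCat.of K)) p := IsCharP.of_hom g1 p
  have : CharP K p := charP_of_isCharP_Spec p K
  apply SpecMap_field_cancel (PerfectClosure.of K p)
  apply (hπ.2 _ (isPerfect_Spec p (PerfectClosure K p))).1
  simp only [Category.assoc, h12]

/-- A perfection of a scheme of characteristic `p` is surjective. -/
theorem surjective_of_isPerfection {XP X : Scheme.{u}} [IsCharP XP p] [IsCharP X p]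
    (π : XP ⟶ X) (hπ : IsPerfection π p) : Surjective π := by
  refine ⟨fun x => ?_⟩
  have : CharP (X.residueField x) p := charP_residueField p X x
  obtain ⟨h, hh⟩ := (hπ.2 _ (isPerfect_Spec p (PerfectClosure (X.residueField x) p))).2
    (Spec.map (CommRingCat.ofHom (PerfectClosure.of (X.residueField x) p)) ≫
      X.fromSpecResidueField x)
  simp only at hh
  let pt : Spec (CommRingCat.of (PerfectClosure (X.residueField x) p)) :=
    IsLocalRing.closedPoint (PerfectClosure (X.residueField x) p)
  refine ⟨h pt, ?_⟩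
  rw [← Scheme.Hom.comp_apply, hh, Scheme.Hom.comp_apply, Scheme.fromSpecResidueField_apply]

/-- A perfection of a scheme of characteristic `p` is a universal homeomorphism. -/
theorem isUnivHomeo_of_isPerfection {XP X : Scheme.{u}} [IsCharP XP p] [IsCharP X p]
    (π : XP ⟶ X) (hπ : IsPerfection π p) : FlatMor.IsUnivHomeo π := by
  have := isIntegralHom_of_isPerfection p π hπ
  have := universallyInjective_of_isPerfection p π hπ
  have := surjective_of_isPerfection p π hπ
  exact isUnivHomeo_of_integral_of_universallyInjective_of_surjective π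

/-- A perfection of a scheme of characteristic `p` is a homeomorphism on underlying spaces. -/
theorem isHomeomorph_of_isPerfection {XP X : Scheme.{u}} [IsCharP XP p] [IsCharP X p]
    (π : XP ⟶ X) (hπ : IsPerfection π p) : IsHomeomorph π :=
  MorphismProperty.universally_le (P := topologically (fun f => IsHomeomorph f)) _
    (isUnivHomeo_of_isPerfection p π hπ)

omit [Fact p.Prime] in
/-- Compatibility of the induced map on points. -/
theorem comp_apply_eq {X Y XP YP : Scheme.{u}} (πX : XP ⟶ X) (πY : YP ⟶ Y) (f : X ⟶ Y)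
    (fP : XP ⟶ YP) (w : fP ≫ πY = πX ≫ f) (x : XP) : πY (fP x) = f (πX x) := by
  rw [← Scheme.Hom.comp_apply, w, Scheme.Hom.comp_apply]

end Groth.Agent.Helper9.Perf
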