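import Mathlib
import Groth.Agent.Lib.Helper9.Perf

/-!
Universal homeomorphisms: composition, base change, cancellation.
-/

set_option autoImplicit false
universe u

open CategoryTheory AlgebraicGeometry Limits FrobSch

namespace Groth.Agent.Helper9.Perf

instance : (topologically (fun f => IsHomeomorph f)).IsStableUnderComposition :=
  topologically_isStableUnderComposition _ (fun _ _ hf hg => hg.comp hf)

instance isUnivHomeo_isStableUnderComposition :
    (FlatMor.IsUnivHomeo.{u}).IsStableUnderComposition := by
  unfold FlatMor.IsUnivHomeo; infer_instance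

instance isUnivHomeo_isStableUnderBaseChange :
    (FlatMor.IsUnivHomeo.{u}).IsStableUnderBaseChange := by
  unfold FlatMor.IsUnivHomeo; infer_instance

instance isUnivHomeo_respectsIso : (FlatMor.IsUnivHomeo.{u}).RespectsIso := by
  unfold FlatMor.IsUnivHomeo; infer_instance

/-- If `h` and `h ≫ g` are universal homeomorphisms, so is `g`. -/
theorem isUnivHomeo_of_comp_left {X Y Z : Scheme.{u}} (h : X ⟶ Y) (g : Y ⟶ Z)
    (hh : FlatMor.IsUnivHomeo h) (hhg : FlatMor.IsUnivHomeo (h ≫ g)) : FlatMor.IsUnivHomeo g := by
  intro Y' Z' i₁ i₂ g' H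
  have H1 : IsPullback (pullback.fst i₁ h) (pullback.snd i₁ h) i₁ h :=
    IsPullback.of_hasPullback i₁ h
  have H2 := H1.paste_horiz H
  have a : IsHomeomorph (pullback.fst i₁ h) := hh _ _ _ H1
  have b : IsHomeomorph (pullback.fst i₁ h ≫ g') := hhg _ _ _ H2
  change IsHomeomorph g'
  have hfun : (g' : Y' → Z') = (a.homeomorph.symm.trans b.homeomorph) := by
    funext y
    obtain ⟨x, rfl⟩ := a.surjective y
    have : a.homeomorph.symm (pullback.fst i₁ h x) = x :=
      a.homeomorph.symm_apply_apply x
    simp only [Homeomorph.trans_apply, this]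
    rfl
  rw [hfun]
  exact Homeomorph.isHomeomorph _

/-- If `h ≫ g` is a universal homeomorphism and `g` is separated and universally injective, then
`h` is a universal homeomorphism. -/
theorem isUnivHomeo_of_comp_right {X Y Z : Scheme.{u}} (h : X ⟶ Y) (g : Y ⟶ Z) [IsSeparated g]
    [UniversallyInjective g] (hhg : FlatMor.IsUnivHomeo (h ≫ g)) : FlatMor.IsUnivHomeo h := by
  have hΔ : FlatMor.IsUnivHomeo (pullback.diagonal g) := by
    have : Surjective (pullback.diagonal g) :=
      (UniversallyInjective.iff_diagonal g).mp inferInstance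
    exact isUnivHomeo_of_integral_of_universallyInjective_of_surjective _
  set gr : X ⟶ pullback (h ≫ g) g := pullback.lift (𝟙 X) h (by simp) with hgr
  have e : h = gr ≫ pullback.snd _ _ := by rw [hgr, pullback.lift_snd]
  rw [e]
  apply MorphismProperty.comp_mem
  · exact MorphismProperty.of_isPullback (pullback_lift_diagonal_isPullback h g) hΔ
  · exact MorphismProperty.pullback_snd _ _ hhg

/-- If `h` is surjective and universally closed and `h ≫ g` is separated, then `g` is separated. -/
theorem isSeparated_of_comp_of_surjective_of_universallyClosed {X Y Z : Scheme.{u}} (h : X ⟶ Y)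
    (g : Y ⟶ Z) [Surjective h] [UniversallyClosed h] [IsSeparated (h ≫ g)] : IsSeparated g := by
  constructor
  apply IsClosedImmersion.of_isPreimmersion
  let hh := pullback.map (h ≫ g) (h ≫ g) g g h h (𝟙 Z) ((Category.comp_id _).trans rfl)
    ((Category.comp_id _).trans rfl)
  have hhUC : UniversallyClosed hh :=
    MorphismProperty.pullbackMap (P := @UniversallyClosed) inferInstance inferInstance rfl rfl
  have comm : pullback.diagonal (h ≫ g) ≫ hh = h ≫ pullback.diagonal g := by
    apply pullback.hom_ext
    · simp only [hh, Category.assoc, pullback.map, pullback.lift_fst, pullback.diagonal_fst_assoc,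
        pullback.diagonal_fst, Category.comp_id]
    · simp only [hh, Category.assoc, pullback.map, pullback.lift_snd, pullback.diagonal_snd_assoc,
        pullback.diagonal_snd, Category.comp_id]
  have hr : Set.range (pullback.diagonal g) = hh '' (Set.range (pullback.diagonal (h ≫ g))) := by
    ext z
    constructor
    · rintro ⟨y, rfl⟩
      obtain ⟨x, rfl⟩ := h.surjective y
      refine ⟨pullback.diagonal (h ≫ g) x, ⟨x, rfl⟩, ?_⟩
      rw [← Scheme.Hom.comp_apply, comm, Scheme.Hom.comp_apply]
    · rintro ⟨_, ⟨x, rfl⟩, rfl⟩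
      refine ⟨h x, ?_⟩
      rw [← Scheme.Hom.comp_apply, ← comm, Scheme.Hom.comp_apply]
  rw [hr]
  exact hh.isClosedMap _ (pullback.diagonal (h ≫ g)).isClosedEmbedding.isClosed_range

end Groth.Agent.Helper9.Perf
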