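import Mathlib
import Groth.Agent.Lib.Helper9.PerfMor

/-!
Sections of a perfection over affine opens: `p`-radical property, perfectness of rings of sections.
-/

set_option autoImplicit false
universe u

open CategoryTheory AlgebraicGeometry Limits FrobSch

namespace Groth.Agent.Helper9.Perf

/-- Every element of the target has a `p`-power power in the image. -/
def PRad (p : ℕ) {R S : Type*} [CommRing R] [CommRing S] (φ : R →+* S) : Prop :=
  ∀ x : S, ∃ (n : ℕ) (a : R), φ a = x ^ p ^ n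

section PRad

variable {p : ℕ} {R S T : Type*} [CommRing R] [CommRing S] [CommRing T]

lemma PRad.comp_right (φ : R →+* S) (ψ : S →+* T) (h : PRad p φ) (hψ : Function.Bijective ψ) :
    PRad p (ψ.comp φ) := by
  intro x
  obtain ⟨y, rfl⟩ := hψ.2 x
  obtain ⟨n, a, ha⟩ := h y
  exact ⟨n, a, by rw [RingHom.comp_apply, ha, map_pow]⟩

lemma PRad.comp_left (ψ : R →+* S) (φ : S →+* T) (h : PRad p φ) (hψ : Function.Surjective ψ) :
    PRad p (φ.comp ψ) := by
  intro x
  obtain ⟨n, a, ha⟩ := h x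
  obtain ⟨b, rfl⟩ := hψ a
  exact ⟨n, b, ha⟩

lemma PRad.of_comp (φ : R →+* S) (ψ : S →+* T) (h : PRad p (ψ.comp φ)) (hψ : Function.Injective ψ) :
    PRad p φ := by
  intro x
  obtain ⟨n, a, ha⟩ := h (ψ x)
  refine ⟨n, a, hψ ?_⟩
  rw [map_pow]; exact ha

end PRad

variable (p : ℕ) [Fact p.Prime]

/-- The ring of sections of a perfect scheme over any open has bijective `p`-th power map. -/
theorem bijective_pow_app (Y : Scheme.{u}) [IsCharP Y p] (hY : IsPerfect Y p) (W : Y.Opens) :
    Function.Bijective (fun s : Γ(Y, W) => s ^ p) := by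
  have : IsIso (frob Y p) := hY
  have h1 : IsIso ((frob Y p).app W) := inferInstance
  rw [ConcreteCategory.isIso_iff_bijective] at h1
  exact h1

/-- Iterated `p`-th power map is injective on sections of a perfect scheme. -/
theorem pow_pow_injective (Y : Scheme.{u}) [IsCharP Y p] (hY : IsPerfect Y p) (W : Y.Opens)
    (n : ℕ) : Function.Injective (fun s : Γ(Y, W) => s ^ p ^ n) := by
  induction n with
  | zero => intro a b h; simpa using h
  | succ n ih =>
    intro a b h
    simp only [pow_succ, pow_mul] at h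
    exact ih ((bijective_pow_app p Y hY W).1 h)

/-- Iterated `p`-th power map is surjective on sections of a perfect scheme. -/
theorem pow_pow_surjective (Y : Scheme.{u}) [IsCharP Y p] (hY : IsPerfect Y p) (W : Y.Opens)
    (n : ℕ) : Function.Surjective (fun s : Γ(Y, W) => s ^ p ^ n) := by
  induction n with
  | zero => intro a; exact ⟨a, by simp⟩
  | succ n ih =>
    intro a
    obtain ⟨b, hb⟩ := (bijective_pow_app p Y hY W).2 a
    obtain ⟨c, hc⟩ := ih b
    refine ⟨c, ?_⟩
    simp only [pow_succ, pow_mul] at hc ⊢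
    rw [hc]; exact hb

/-- Sections of a perfection over a nonempty affine open are `p`-radical over the sections of the
base. -/
theorem pRad_app {XP X : Scheme.{u}} [IsCharP XP p] [IsCharP X p] (π : XP ⟶ X)
    (hπ : IsPerfection π p) (V : X.Opens) (hV : IsAffineOpen V) [Nonempty V] :
    PRad p (π.app V).hom := by
  obtain ⟨hc, e, he⟩ := exists_iso_Spec_perfectClosure p π hπ V hV
  set ι := CommRingCat.ofHom (PerfectClosure.of Γ(X, V) p) with hι
  have h1 : (π ∣_ V).appTop = hV.isoSpec.inv.appTop ≫ (Spec.map ι).appTop ≫ e.hom.appTop := by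
    rw [← he]; rfl
  have h2 : (Spec.map ι).appTop = (Scheme.ΓSpecIso _).hom ≫ ι ≫ (Scheme.ΓSpecIso _).inv := by
    rw [← Category.assoc, Iso.eq_comp_inv]
    exact Scheme.ΓSpecIso_naturality ι
  have hι' : PRad p ι.hom := fun x => IsPRadical.pow_mem (PerfectClosure.of Γ(X, V) p) p x
  have bij : ∀ {A B : Scheme.{u}} (g : A ⟶ B) [IsIso g], Function.Bijective g.appTop := by
    intro A B g _
    have : IsIso g.appTop := inferInstanceAs (IsIso (g.app ⊤))
    exact ConcreteCategory.bijective_of_isIso g.appTop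
  have hA : PRad p (ι.hom.comp (Scheme.ΓSpecIso (CommRingCat.of Γ(X, V))).hom.hom) :=
    PRad.comp_left _ _ hι' (ConcreteCategory.bijective_of_isIso (Scheme.ΓSpecIso _).hom).2
  have hB : PRad p ((Scheme.ΓSpecIso (CommRingCat.of (PerfectClosure Γ(X, V) p))).inv.hom.comp
      (ι.hom.comp (Scheme.ΓSpecIso (CommRingCat.of Γ(X, V))).hom.hom)) :=
    PRad.comp_right _ _ hA (ConcreteCategory.bijective_of_isIso (Scheme.ΓSpecIso _).inv)
  have hB' : PRad p (Spec.map ι).appTop.hom := by rw [h2]; exact hB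
  have hC : PRad p ((Spec.map ι).appTop.hom.comp hV.isoSpec.inv.appTop.hom) :=
    PRad.comp_left _ _ hB' (bij hV.isoSpec.inv).2
  have hD : PRad p (e.hom.appTop.hom.comp
      ((Spec.map ι).appTop.hom.comp hV.isoSpec.inv.appTop.hom)) :=
    PRad.comp_right _ _ hC (bij e.hom)
  have h3 : PRad p ((π ∣_ V).appTop).hom := by rw [h1]; exact hD
  have h4 : PRad p (π.app (V.ι ''ᵁ ⊤)).hom := by
    have h5 := morphismRestrict_appTop π V
    refine PRad.of_comp _
      ((XP.presheaf.map (eqToHom (image_morphismRestrict_preimage π V ⊤)).op).hom) ?_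
      (ConcreteCategory.bijective_of_isIso _).1
    intro x
    obtain ⟨n, a, ha⟩ := h3 x
    refine ⟨n, a, Eq.trans ?_ ha⟩
    rw [h5]
    rfl
  have key : ∀ V' : X.Opens, V' = V → PRad p (π.app V').hom → PRad p (π.app V).hom := by
    intro V' h; subst h; exact id
  exact key _ V.ι_image_top h4

omit [Fact p.Prime] in
/-- Restriction maps between equal opens are bijective. -/
theorem bijective_map_homOfLE (X : Scheme.{u}) {U₁ U₂ : X.Opens} (h : U₁ = U₂) :
    Function.Bijective (X.presheaf.map (homOfLE (le_of_eq h)).op) := by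
  subst h
  have : (homOfLE (le_of_eq (rfl : U₁ = U₁))) = 𝟙 U₁ := rfl
  rw [this, op_id, X.presheaf.map_id]
  exact Function.bijective_id

omit [Fact p.Prime] in
theorem appLE_congr_hom {X Y : Scheme.{u}} {g₁ g₂ : X ⟶ Y} (h : g₁ = g₂) (V : Y.Opens)
    (U : X.Opens) (e : U ≤ g₁ ⁻¹ᵁ V) : g₁.appLE V U e = g₂.appLE V U (h ▸ e) := by
  subst h; rfl

/-- For the perfection `fP` of a closed immersion `f`, sections over the preimage of an affine open
of the base lift. -/
theorem surjective_app_of_isClosedImmersion {X Y XP YP : Scheme.{u}}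
    [IsCharP X p] [IsCharP Y p] [IsCharP XP p] [IsCharP YP p]
    (πX : XP ⟶ X) (πY : YP ⟶ Y) (hX : IsPerfection πX p) (hY : IsPerfection πY p)
    (f : X ⟶ Y) (fP : XP ⟶ YP) (w : fP ≫ πY = πX ≫ f) [IsClosedImmersion f]
    (V : Y.Opens) (hV : IsAffineOpen V) : Function.Surjective (fP.app (πY ⁻¹ᵁ V)) := by
  have hop : fP ⁻¹ᵁ (πY ⁻¹ᵁ V) = πX ⁻¹ᵁ (f ⁻¹ᵁ V) := by
    change (fP ≫ πY) ⁻¹ᵁ V = (πX ≫ f) ⁻¹ᵁ V
    rw [w]
  intro x
  by_cases hne : Nonempty (f ⁻¹ᵁ V)
  · have hU : IsAffineOpen (f ⁻¹ᵁ V) := hV.preimage f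
    set ψ := πX.appLE (f ⁻¹ᵁ V) (fP ⁻¹ᵁ (πY ⁻¹ᵁ V)) (le_of_eq hop) with hψ
    have hψrad : PRad p ψ.hom := by
      have h0 := pRad_app p πX hX (f ⁻¹ᵁ V) hU
      have := PRad.comp_right _ _ h0 (bijective_map_homOfLE XP hop)
      exact this
    have rel : f.app V ≫ ψ = πY.app V ≫ fP.app (πY ⁻¹ᵁ V) := by
      rw [hψ, ← Scheme.Hom.comp_appLE, ← Scheme.Hom.appLE_eq_app fP, ← Scheme.Hom.comp_appLE]
      exact (appLE_congr_hom w V _ _).symm
    obtain ⟨n, b, hb⟩ := hψrad x
    obtain ⟨a, rfl⟩ := f.app_surjective V hV b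
    obtain ⟨a'', ha''⟩ := pow_pow_surjective p YP hY.1 (πY ⁻¹ᵁ V) n (πY.app V a)
    refine ⟨a'', ?_⟩
    apply pow_pow_injective p XP hX.1 _ n
    simp only at ha'' ⊢
    rw [← map_pow, ha'', ← hb]
    exact (congrArg (fun φ => φ.hom a) rel).symm
  · have hempty : fP ⁻¹ᵁ (πY ⁻¹ᵁ V) = ⊥ := by
      rw [hop]
      ext y
      simp only [TopologicalSpace.Opens.coe_bot, Set.mem_empty_iff_false, iff_false]
      intro hy
      exact hne ⟨⟨πX y, hy⟩⟩
    have hs : Subsingleton Γ(XP, fP ⁻¹ᵁ (πY ⁻¹ᵁ V)) := by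
      rw [hempty]; infer_instance
    exact ⟨0, Subsingleton.elim _ _⟩

omit [Fact p.Prime] in
/-- Surjectivity of `f.app U` gives surjectivity of global sections of the restriction. -/
theorem surjective_morphismRestrict_appTop {X Y : Scheme.{u}} (f : X ⟶ Y) (U : Y.Opens)
    (h : Function.Surjective (f.app U)) : Function.Surjective (f ∣_ U).appTop := by
  have key : ∀ U' : Y.Opens, U' = U → Function.Surjective (f.app U') := by
    intro U' h'; subst h'; exact h
  have hU' := key _ U.ι_image_top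
  have h5 := morphismRestrict_appTop f U
  intro x
  obtain ⟨y, hy⟩ := (ConcreteCategory.bijective_of_isIso
    (X.presheaf.map (eqToHom (image_morphismRestrict_preimage f U ⊤)).op)).2 x
  obtain ⟨a, ha⟩ := hU' y
  refine ⟨a, ?_⟩
  rw [h5, ← hy, ← ha]
  rfl

/-- Elements of the kernel are `p`-power nilpotent. -/
def KNil (p : ℕ) {R S : Type*} [CommRing R] [CommRing S] (φ : R →+* S) : Prop :=
  ∀ a : R, φ a = 0 → ∃ n : ℕ, a ^ p ^ n = 0

section KNil

variable {q : ℕ} {R S T : Type*} [CommRing R] [CommRing S] [CommRing T]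

lemma KNil.comp_right (φ : R →+* S) (ψ : S →+* T) (h : KNil q φ) (hψ : Function.Injective ψ) :
    KNil q (ψ.comp φ) := by
  intro a ha
  apply h a
  apply hψ
  rw [map_zero]; exact ha

lemma KNil.comp_left (ψ : R →+* S) (φ : S →+* T) (h : KNil q φ) (hψ : Function.Injective ψ) :
    KNil q (φ.comp ψ) := by
  intro a ha
  obtain ⟨n, hn⟩ := h (ψ a) ha
  refine ⟨n, hψ ?_⟩
  rw [map_pow, hn, map_zero]

lemma KNil.of_comp (φ : R →+* S) (ψ : S →+* T) (h : KNil q (ψ.comp φ)) : KNil q φ := by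
  intro a ha
  apply h a
  rw [RingHom.comp_apply, ha, map_zero]

end KNil

/-- The kernel of the map on sections of a perfection over a nonempty affine open consists of
`p`-power nilpotent elements. -/
theorem kNil_app {XP X : Scheme.{u}} [IsCharP XP p] [IsCharP X p] (π : XP ⟶ X)
    (hπ : IsPerfection π p) (V : X.Opens) (hV : IsAffineOpen V) [Nonempty V] :
    KNil p (π.app V).hom := by
  obtain ⟨hc, e, he⟩ := exists_iso_Spec_perfectClosure p π hπ V hV
  set ι := CommRingCat.ofHom (PerfectClosure.of Γ(X, V) p) with hι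
  have h1 : (π ∣_ V).appTop = hV.isoSpec.inv.appTop ≫ (Spec.map ι).appTop ≫ e.hom.appTop := by
    rw [← he]; rfl
  have h2 : (Spec.map ι).appTop = (Scheme.ΓSpecIso _).hom ≫ ι ≫ (Scheme.ΓSpecIso _).inv := by
    rw [← Category.assoc, Iso.eq_comp_inv]
    exact Scheme.ΓSpecIso_naturality ι
  have hι' : KNil p ι.hom := by
    intro a ha
    have hmem : a ∈ RingHom.ker (PerfectClosure.of Γ(X, V) p) := ha
    have := IsPRadical.ker_le (PerfectClosure.of Γ(X, V) p) p hmem
    exact mem_pNilradical.mp this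
  have bij : ∀ {A B : Scheme.{u}} (g : A ⟶ B) [IsIso g], Function.Bijective g.appTop := by
    intro A B g _
    have : IsIso g.appTop := inferInstanceAs (IsIso (g.app ⊤))
    exact ConcreteCategory.bijective_of_isIso g.appTop
  have hA : KNil p (ι.hom.comp (Scheme.ΓSpecIso (CommRingCat.of Γ(X, V))).hom.hom) :=
    KNil.comp_left _ _ hι' (ConcreteCategory.bijective_of_isIso (Scheme.ΓSpecIso _).hom).1
  have hB : KNil p ((Scheme.ΓSpecIso (CommRingCat.of (PerfectClosure Γ(X, V) p))).inv.hom.comp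
      (ι.hom.comp (Scheme.ΓSpecIso (CommRingCat.of Γ(X, V))).hom.hom)) :=
    KNil.comp_right _ _ hA (ConcreteCategory.bijective_of_isIso (Scheme.ΓSpecIso _).inv).1
  have hB' : KNil p (Spec.map ι).appTop.hom := by rw [h2]; exact hB
  have hC : KNil p ((Spec.map ι).appTop.hom.comp hV.isoSpec.inv.appTop.hom) :=
    KNil.comp_left _ _ hB' (bij hV.isoSpec.inv).1
  have hD : KNil p (e.hom.appTop.hom.comp
      ((Spec.map ι).appTop.hom.comp hV.isoSpec.inv.appTop.hom)) :=
    KNil.comp_right _ _ hC (bij e.hom).1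
  have h3 : KNil p ((π ∣_ V).appTop).hom := by rw [h1]; exact hD
  have h4 : KNil p (π.app (V.ι ''ᵁ ⊤)).hom := by
    have h5 := morphismRestrict_appTop π V
    refine KNil.of_comp _
      ((XP.presheaf.map (eqToHom (image_morphismRestrict_preimage π V ⊤)).op).hom) ?_
    intro a ha
    refine h3 a (Eq.trans ?_ ha)
    rw [h5]
    rfl
  have key : ∀ V' : X.Opens, V' = V → KNil p (π.app V').hom → KNil p (π.app V).hom := by
    intro V' h; subst h; exact id
  exact key _ V.ι_image_top h4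

end Groth.Agent.Helper9.Perf
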