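import Mathlib
import Groth.Prelude.Def_Frob
import Groth.Agent.Lib.Helper9.PerfLocal
import Groth.Agent.Lib.Helper9.Perf

/-!
# A scheme whose perfection is affine is affine
-/

set_option autoImplicit false
universe u

open CategoryTheory AlgebraicGeometry Limits FrobSch TopologicalSpace Opposite

namespace Groth.Agent.Helper9.Perf

variable (p : ℕ) [Fact p.Prime]

theorem kNil_app' {XP X : Scheme.{u}} [IsCharP XP p] [IsCharP X p] (π : XP ⟶ X)
    (hπ : IsPerfection π p) (V : X.Opens) (hV : IsAffineOpen V) : KNil p (π.app V).hom := by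
  rcases isEmpty_or_nonempty V with h | h
  · intro a _
    have hV' : V = ⊥ := by
      ext x
      simp only [Opens.coe_bot, Set.mem_empty_iff_false, iff_false]
      exact fun hx => h.false ⟨x, hx⟩
    subst hV'
    exact ⟨0, Subsingleton.elim _ _⟩
  · exact kNil_app p π hπ V hV

theorem pRad_app' {XP X : Scheme.{u}} [IsCharP XP p] [IsCharP X p] (π : XP ⟶ X)
    (hπ : IsPerfection π p) (V : X.Opens) (hV : IsAffineOpen V) : PRad p (π.app V).hom := by
  rcases isEmpty_or_nonempty V with h | h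
  · intro x
    have hV' : V = ⊥ := by
      ext x
      simp only [Opens.coe_bot, Set.mem_empty_iff_false, iff_false]
      exact fun hx => h.false ⟨x, hx⟩
    subst hV'
    have : Subsingleton Γ(XP, π ⁻¹ᵁ ⊥) := inferInstanceAs (Subsingleton Γ(XP, ⊥))
    exact ⟨0, 0, Subsingleton.elim _ _⟩
  · exact pRad_app p π hπ V hV

omit [Fact p.Prime] in
theorem app_map_apply {XP X : Scheme.{u}} (π : XP ⟶ X) {U U' : X.Opens} (i : U' ⟶ U)
    (a : Γ(X, U)) :
    (π.app U').hom ((X.presheaf.map i.op).hom a) =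
      (XP.presheaf.map ((Opens.map π.base).map i).op).hom ((π.app U).hom a) := by
  have := π.naturality i.op
  exact congrArg (fun φ => φ.hom a) this

theorem kNil_app_of_isCompact {XP X : Scheme.{u}} [IsCharP XP p] [IsCharP X p] (π : XP ⟶ X)
    (hπ : IsPerfection π p) (W : X.Opens) (hW : IsCompact (W : Set X)) :
    KNil p (π.app W).hom := by
  intro a ha
  have hcov : ∀ x : W, ∃ V : X.Opens, IsAffineOpen V ∧ x.1 ∈ V ∧ V ≤ W := fun x => by
    obtain ⟨V, hV, hx, hVW⟩ := exists_isAffineOpen_mem_and_subset (x := x.1) (U := W) x.2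
    exact ⟨V, hV, hx, hVW⟩
  choose V hV hxV hVW using hcov
  obtain ⟨t, ht⟩ := hW.elim_finite_subcover (fun x : W => (V x : Set X)) (fun x => (V x).2)
    (fun y hy => Set.mem_iUnion.2 ⟨⟨y, hy⟩, hxV _⟩)
  have h1 : ∀ x : W, ∃ n : ℕ, ((X.presheaf.map (homOfLE (hVW x)).op).hom a) ^ p ^ n = 0 := by
    intro x
    apply kNil_app' p π hπ (V x) (hV x)
    rw [app_map_apply, ha, map_zero]
  choose n hn using h1
  refine ⟨t.sup n, ?_⟩
  refine X.sheaf.eq_of_locally_eq' (fun x : t => V x.1) W (fun x => homOfLE (hVW x.1)) ?_ _ _ ?_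
  · intro y hy
    have := ht hy
    simp only [Set.mem_iUnion] at this
    obtain ⟨x, hxt, hyx⟩ := this
    exact Opens.mem_iSup.2 ⟨⟨x, hxt⟩, hyx⟩
  · intro x
    change (X.presheaf.map (homOfLE (hVW x.1)).op).hom (a ^ p ^ t.sup n) =
      (X.presheaf.map (homOfLE (hVW x.1)).op).hom 0
    rw [map_pow, map_zero]
    exact pow_eq_zero_of_le (Nat.pow_le_pow_right (Fact.out : p.Prime).pos
      (Finset.le_sup x.2)) (hn x.1)

lemma pow_eq_pow_of_sub_pow_eq_zero {R : Type*} [CommRing R] (hp : (p : R) = 0) {x y : R}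
    {M : ℕ} (h : (x - y) ^ p ^ M = 0) : x ^ p ^ M = y ^ p ^ M := by
  rcases subsingleton_or_nontrivial R with h' | h'
  · exact Subsingleton.elim _ _
  · haveI : CharP R p := (CharP.charP_iff_prime_eq_zero Fact.out).2 hp
    rw [sub_pow_char_pow] at h
    exact sub_eq_zero.mp h


theorem pRad_appTop {XP X : Scheme.{u}} [IsCharP XP p] [IsCharP X p] (π : XP ⟶ X)
    (hπ : IsPerfection π p) [CompactSpace X] [QuasiSeparatedSpace X] :
    PRad p (π.app ⊤).hom := by
  intro t
  let 𝒰 := X.affineCover.finiteSubcover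
  let U : 𝒰.I₀ → X.Opens := fun i => (𝒰.f i).opensRange
  have hU : ∀ i, IsAffineOpen (U i) := fun i => isAffineOpen_opensRange _
  have hsup : ⨆ i, U i = ⊤ := 𝒰.iSup_opensRange
  let tU : ∀ i, Γ(XP, π ⁻¹ᵁ U i) := fun i =>
    (XP.presheaf.map ((Opens.map π.base).map (homOfLE (le_top : U i ≤ ⊤))).op).hom t
  have h1 : ∀ i, ∃ (n : ℕ) (a : Γ(X, U i)), (π.app (U i)).hom a = (tU i) ^ p ^ n :=
    fun i => pRad_app' p π hπ (U i) (hU i) _
  choose n a ha using h1
  let N := Finset.univ.sup n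
  let a' : ∀ i, Γ(X, U i) := fun i => a i ^ p ^ (N - n i)
  have ha' : ∀ i, (π.app (U i)).hom (a' i) = (tU i) ^ p ^ N := by
    intro i
    have hle : n i ≤ N := Finset.le_sup (Finset.mem_univ i)
    rw [map_pow, ha, ← pow_mul, ← pow_add, Nat.add_sub_cancel' hle]
  -- differences on overlaps
  have h2 : ∀ i j, ∃ m : ℕ,
      ((X.presheaf.map (Opens.infLELeft (U i) (U j)).op).hom (a' i) -
        (X.presheaf.map (Opens.infLERight (U i) (U j)).op).hom (a' j)) ^ p ^ m = 0 := by
    intro i j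
    have hc : IsCompact ((U i ⊓ U j : X.Opens) : Set X) :=
      QuasiSeparatedSpace.inter_isCompact _ _ (U i).2 (hU i).isCompact (U j).2 (hU j).isCompact
    apply kNil_app_of_isCompact p π hπ (U i ⊓ U j) hc
    rw [map_sub, app_map_apply, app_map_apply, ha', ha', map_pow, map_pow, sub_eq_zero]
    congr 1
    change (XP.presheaf.map _ ≫ XP.presheaf.map _).hom t = (XP.presheaf.map _ ≫ XP.presheaf.map _).hom t
    rw [← XP.presheaf.map_comp, ← XP.presheaf.map_comp]
    rfl
  choose m hm using h2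
  let M := Finset.univ.sup (fun ij : 𝒰.I₀ × 𝒰.I₀ => m ij.1 ij.2)
  let b : ∀ i, Γ(X, U i) := fun i => a' i ^ p ^ M
  have hb : TopCat.Presheaf.IsCompatible X.presheaf U b := by
    intro i j
    change (X.presheaf.map (Opens.infLELeft (U i) (U j)).op).hom (a' i ^ p ^ M) =
      (X.presheaf.map (Opens.infLERight (U i) (U j)).op).hom (a' j ^ p ^ M)
    have e1 : (X.presheaf.map (Opens.infLELeft (U i) (U j)).op).hom (a' i ^ p ^ M) =
        ((X.presheaf.map (Opens.infLELeft (U i) (U j)).op).hom (a' i)) ^ p ^ M := map_pow _ _ _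
    have e2 : (X.presheaf.map (Opens.infLERight (U i) (U j)).op).hom (a' j ^ p ^ M) =
        ((X.presheaf.map (Opens.infLERight (U i) (U j)).op).hom (a' j)) ^ p ^ M := map_pow _ _ _
    rw [e1, e2]
    apply pow_eq_pow_of_sub_pow_eq_zero p (natCast_eq_zero_app X p _)
    exact pow_eq_zero_of_le (Nat.pow_le_pow_right (Fact.out : p.Prime).pos
      (Finset.le_sup (f := fun ij : 𝒰.I₀ × 𝒰.I₀ => m ij.1 ij.2) (Finset.mem_univ (i, j)))) (hm i j)
  obtain ⟨s, hs, -⟩ := X.sheaf.existsUnique_gluing' U ⊤ (fun i => homOfLE le_top)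
    (by rw [hsup]) b hb
  refine ⟨N + M, s, ?_⟩
  refine XP.sheaf.eq_of_locally_eq' (fun i => π ⁻¹ᵁ U i) (π ⁻¹ᵁ ⊤)
    (fun i => (Opens.map π.base).map (homOfLE (le_top : U i ≤ ⊤))) ?_ _ _ ?_
  · intro y _
    have hy : π y ∈ ⨆ i, U i := by rw [hsup]; trivial
    obtain ⟨i, hi⟩ := Opens.mem_iSup.1 hy
    exact Opens.mem_iSup.2 ⟨i, hi⟩
  · intro i
    change (XP.presheaf.map ((Opens.map π.base).map (homOfLE (le_top : U i ≤ ⊤))).op).hom
        ((π.app ⊤).hom s) =
      (XP.presheaf.map ((Opens.map π.base).map (homOfLE (le_top : U i ≤ ⊤))).op).hom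
        (t ^ p ^ (N + M))
    rw [← app_map_apply, map_pow]
    have hsi : (X.presheaf.map (homOfLE (le_top : U i ≤ ⊤)).op).hom s = b i := hs i
    rw [hsi]
    change (π.app (U i)).hom (a' i ^ p ^ M) = (tU i) ^ p ^ (N + M)
    rw [map_pow, ha', ← pow_mul, ← pow_add]


/-- A scheme of characteristic `p` whose perfection is affine is affine. -/
theorem isAffine_of_isPerfection {XP X : Scheme.{u}} [IsCharP XP p] [IsCharP X p] (π : XP ⟶ X)
    (hπ : IsPerfection π p) [IsAffine XP] : IsAffine X := by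
  have hhomeo := isHomeomorph_of_isPerfection p π hπ
  let e : XP ≃ₜ X := hhomeo.homeomorph
  haveI : CompactSpace X := e.compactSpace
  haveI : QuasiSeparatedSpace X := QuasiSeparatedSpace.of_isOpenEmbedding e.symm.isOpenEmbedding
  have hP : PRad p π.appTop.hom := pRad_appTop p π hπ
  have hK : KNil p π.appTop.hom := kNil_app_of_isCompact p π hπ ⊤ (by
    rw [Opens.coe_top]; exact isCompact_univ)
  let s : Set Γ(X, ⊤) := {h | IsAffineOpen (X.basicOpen h)}
  have hpre : ∀ h : Γ(X, ⊤), π ⁻¹ᵁ X.basicOpen h = XP.basicOpen (π.appTop.hom h) :=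
    fun h => Scheme.preimage_basicOpen_top π h
  have hcov : ∀ x' : XP, ∃ h ∈ s, x' ∈ XP.basicOpen (π.appTop.hom h) := by
    intro x'
    obtain ⟨U, hU, hxU, -⟩ := exists_isAffineOpen_mem_and_subset (x := π x') (U := ⊤) trivial
    obtain ⟨g, hg1, hg2⟩ := (isAffineOpen_top XP).exists_basicOpen_le (V := π ⁻¹ᵁ U)
      ⟨x', hxU⟩ trivial
    obtain ⟨n, h, hh⟩ := hP g
    have e1 : π ⁻¹ᵁ X.basicOpen h = XP.basicOpen g := by
      rw [hpre, hh, Scheme.basicOpen_pow _ _ (pow_pos (Fact.out : p.Prime).pos n)]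
    have hle : X.basicOpen h ≤ U := by
      intro y hy
      obtain ⟨y', rfl⟩ := hhomeo.surjective y
      have : y' ∈ π ⁻¹ᵁ X.basicOpen h := hy
      rw [e1] at this
      exact hg1 this
    refine ⟨h, ?_, ?_⟩
    · have e2 : X.basicOpen ((X.presheaf.map (homOfLE (le_top : U ≤ ⊤)).op).hom h) =
          X.basicOpen h := by
        rw [Scheme.basicOpen_res]; exact inf_eq_right.mpr hle
      change IsAffineOpen (X.basicOpen h)
      rw [← e2]
      exact hU.basicOpen _
    · rw [← hpre, e1]; exact hg2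
  have hs : Ideal.span s = ⊤ := by
    by_contra hne
    obtain ⟨m, hm, hsm⟩ := Ideal.exists_le_maximal _ hne
    have hspan : Ideal.span (π.appTop.hom '' s) = ⊤ := by
      rw [← (isAffineOpen_top XP).self_le_iSup_basicOpen_iff]
      intro x' _
      obtain ⟨h, hhs, hx'⟩ := hcov x'
      exact Opens.mem_iSup.2 ⟨⟨_, h, hhs, rfl⟩, hx'⟩
    algebraize [π.appTop.hom]
    haveI : Algebra.IsIntegral Γ(X, ⊤) Γ(XP, ⊤) := ⟨fun b => by
      obtain ⟨n, a, ha⟩ := hP b
      refine IsIntegral.of_pow (pow_pos (Fact.out : p.Prime).pos n) ?_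
      rw [← ha]
      exact isIntegral_algebraMap⟩
    have hker : (⊥ : Ideal Γ(XP, ⊤)).comap (algebraMap Γ(X, ⊤) Γ(XP, ⊤)) ≤ m := by
      intro a ha
      have ha' : π.appTop.hom a = 0 := by
        have h0 : (algebraMap Γ(X, ⊤) Γ(XP, ⊤)) a = 0 := by simpa using ha
        exact h0
      obtain ⟨n, hn⟩ := hK a ha'
      exact hm.isPrime.mem_of_pow_mem _ (hn ▸ m.zero_mem)
    obtain ⟨Q, -, hQ, hQm⟩ := Ideal.exists_ideal_over_prime_of_isIntegral m (⊥ : Ideal Γ(XP, ⊤)) hker
    have h1 : Ideal.map π.appTop.hom (Ideal.span s) ≤ Q := by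
      rw [Ideal.map_le_iff_le_comap]
      exact hsm.trans (le_of_eq hQm.symm)
    rw [Ideal.map_span, hspan] at h1
    exact hQ.ne_top (top_le_iff.mp h1)
  exact isAffine_of_isAffineOpen_basicOpen s hs (fun h hh => hh)

end Groth.Agent.Helper9.Perf
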