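import Mathlib
import Groth.Agent.Lib.Helper9.PerfLocal

/-!
Flatness passes to perfections (ring-level equational-criterion argument).
-/

set_option autoImplicit false
universe u

open CategoryTheory AlgebraicGeometry Limits FrobSch

namespace Groth.Agent.Helper9.Perf

section Ring

variable (p : ℕ) [Fact p.Prime]
variable {A B A' B' : Type*} [CommRing A] [CommRing B] [CommRing A'] [CommRing B']
variable [CharP A p] [CharP B p] [CharP A' p] [CharP B' p]

omit [Fact p.Prime] in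
/-- Uniform exponent for finitely many elements. -/
lemma PRad.exists_uniform {R S : Type*} [CommRing R] [CommRing S] {φ : R →+* S} (h : PRad p φ)
    {l : ℕ} (x : Fin l → S) : ∃ N : ℕ, ∀ N', N ≤ N' → ∀ i, ∃ a : R, φ a = x i ^ p ^ N' := by
  choose n a ha using fun i => h (x i)
  refine ⟨∑ i, n i, fun N' hN' i => ?_⟩
  have hle : n i ≤ N' :=
    (Finset.single_le_sum (f := n) (fun _ _ => Nat.zero_le _) (Finset.mem_univ i)).trans hN'
  refine ⟨a i ^ p ^ (N' - n i), ?_⟩
  rw [map_pow, ha, ← pow_mul, ← pow_add, Nat.add_sub_cancel' hle]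

/-- Flatness of `A → B` passes to perfect `p`-radical extensions `A' → B'`. -/
theorem flat_of_pRad_square (φ : A →+* B) (u : A →+* A') (v : B →+* B') (φ' : A' →+* B')
    (comm : φ'.comp u = v.comp φ) (hφ : φ.Flat) (hu : PRad p u) (hv : PRad p v)
    (hvker : ∀ b, v b = 0 → ∃ n : ℕ, b ^ p ^ n = 0)
    (hA' : Function.Bijective (fun x : A' => x ^ p)) (hB' : Function.Bijective (fun x : B' => x ^ p)) :
    φ'.Flat := by
  have : ExpChar A p := ExpChar.prime Fact.out
  have : ExpChar B p := ExpChar.prime Fact.out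
  have : ExpChar A' p := ExpChar.prime Fact.out
  have : ExpChar B' p := ExpChar.prime Fact.out
  have : PerfectRing A' p := ⟨hA'⟩
  have : PerfectRing B' p := ⟨hB'⟩
  have comm' : ∀ a, φ' (u a) = v (φ a) := fun a => congrArg (fun g => g a) comm
  rw [RingHom.Flat]
  let _ := φ'.toAlgebra
  let _ := φ.toAlgebra
  have hφ' : Module.Flat A B := hφ
  apply Module.Flat.of_forall_isTrivialRelation
  intro l a b hab
  have hab' : ∑ i, φ' (a i) * b i = 0 := by
    simpa [Algebra.smul_def, RingHom.algebraMap_toAlgebra] using hab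
  obtain ⟨N₁, hN₁⟩ := PRad.exists_uniform p hu a
  obtain ⟨N₂, hN₂⟩ := PRad.exists_uniform p hv b
  set N := N₁ + N₂ with hN
  choose α hα using hN₁ N (Nat.le_add_right _ _)
  choose β hβ using hN₂ N (Nat.le_add_left _ _)
  -- the relation holds in `B` up to nilpotents
  have hs : v (∑ i, φ (α i) * β i) = 0 := by
    rw [map_sum]
    have : ∀ i, v (φ (α i) * β i) = (φ' (a i) * b i) ^ p ^ N := by
      intro i
      rw [map_mul, ← comm', hα, hβ, map_pow, mul_pow]
    simp only [this]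
    have h2 : (∑ i, φ' (a i) * b i) ^ p ^ N = ∑ i, (φ' (a i) * b i) ^ p ^ N :=
      sum_pow_char_pow p N _ _
    rw [← h2, hab', zero_pow (pow_pos (Fact.out : p.Prime).pos N).ne']
  obtain ⟨M, hM⟩ := hvker _ hs
  have hM' : ∑ i, φ (α i ^ p ^ M) * (β i ^ p ^ M) = 0 := by
    rw [← hM, sum_pow_char_pow]
    refine Finset.sum_congr rfl fun i _ => ?_
    rw [map_pow, mul_pow]
  have hα' : ∀ i, u (α i ^ p ^ M) = a i ^ p ^ (N + M) := by
    intro i; rw [map_pow, hα, ← pow_mul, ← pow_add]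
  have hβ' : ∀ i, v (β i ^ p ^ M) = b i ^ p ^ (N + M) := by
    intro i; rw [map_pow, hβ, ← pow_mul, ← pow_add]
  have hrel : ∑ i, (α i ^ p ^ M) • (β i ^ p ^ M) = 0 := by
    simpa [Algebra.smul_def, RingHom.algebraMap_toAlgebra] using hM'
  obtain ⟨k, c, y, hy, hc⟩ := Module.Flat.isTrivialRelation_of_sum_smul_eq_zero (R := A) (M := B) hrel
  have hy' : ∀ i, β i ^ p ^ M = ∑ j, φ (c i j) * y j := by
    intro i
    simpa [Algebra.smul_def, RingHom.algebraMap_toAlgebra] using hy i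
  set ρA := (iterateFrobeniusEquiv A' p (N + M)).symm with hρA
  set ρB := (iterateFrobeniusEquiv B' p (N + M)).symm with hρB
  have hρA' : ∀ z : A', ρA (z ^ p ^ (N + M)) = z := fun z =>
    (iterateFrobeniusEquiv A' p (N + M)).symm_apply_apply z
  have hρB' : ∀ z : B', ρB (z ^ p ^ (N + M)) = z := fun z =>
    (iterateFrobeniusEquiv B' p (N + M)).symm_apply_apply z
  have hcommρ : ∀ z : A', φ' (ρA z) = ρB (φ' z) := by
    intro z
    apply (iterateFrobeniusEquiv B' p (N + M)).injective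
    rw [hρB, RingEquiv.apply_symm_apply, iterateFrobeniusEquiv_def, ← map_pow]
    congr 1
    exact (iterateFrobeniusEquiv A' p (N + M)).apply_symm_apply z
  refine ⟨k, fun i j => ρA (u (c i j)), fun j => ρB (v (y j)), fun i => ?_, fun j => ?_⟩
  · have h1 : b i = ρB (v (β i ^ p ^ M)) := by rw [hβ', hρB']
    rw [h1, hy', map_sum, map_sum]
    refine Finset.sum_congr rfl fun j _ => ?_
    rw [map_mul, map_mul, Algebra.smul_def, RingHom.algebraMap_toAlgebra, hcommρ, comm']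
  · have h1 : ∀ i, a i = ρA (u (α i ^ p ^ M)) := fun i => by rw [hα', hρA']
    have h2 : ∑ i, a i * ρA (u (c i j)) = ρA (u (∑ i, α i ^ p ^ M * c i j)) := by
      rw [map_sum, map_sum]
      refine Finset.sum_congr rfl fun i _ => ?_
      rw [map_mul, map_mul, ← h1]
    rw [h2, hc, map_zero, map_zero]

end Ring

variable (p : ℕ) [Fact p.Prime]

/-- Rings of sections over nonempty opens of a scheme of characteristic `p` have
characteristic `p`. -/
theorem charP_sections (Z : Scheme.{u}) [IsCharP Z p] (W : Z.Opens) [Nonempty W] :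
    CharP Γ(Z, W) p :=
  (CharP.charP_iff_prime_eq_zero Fact.out).2 (natCast_eq_zero_app Z p W)

/-- The perfection of a flat morphism is flat. -/
theorem flat_perfection {X Y XP YP : Scheme.{u}}
    [IsCharP X p] [IsCharP Y p] [IsCharP XP p] [IsCharP YP p]
    (πX : XP ⟶ X) (πY : YP ⟶ Y) (hX : IsPerfection πX p) (hY : IsPerfection πY p)
    (f : X ⟶ Y) (fP : XP ⟶ YP) (w : fP ≫ πY = πX ≫ f) [Flat f] : Flat fP := by
  have iX := isIntegralHom_of_isPerfection p πX hX
  have iY := isIntegralHom_of_isPerfection p πY hY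
  have hw := comp_apply_eq πX πY f fP w
  rw [HasRingHomProperty.iff_exists_appLE (P := @Flat)
    (RingHom.Flat.stableUnderComposition.stableUnderCompositionWithLocalizationAway
      RingHom.Flat.holdsForLocalizationAway).left]
  intro x
  obtain ⟨VY, hVY, hyV, -⟩ := (TopologicalSpace.Opens.isBasis_iff_nbhd.mp Y.isBasis_affineOpens)
    (show f (πX x) ∈ (⊤ : Y.Opens) from trivial)
  obtain ⟨UX, hUX, hxU, hle⟩ := (TopologicalSpace.Opens.isBasis_iff_nbhd.mp X.isBasis_affineOpens)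
    (show πX x ∈ f ⁻¹ᵁ VY from hyV)
  have e : πX ⁻¹ᵁ UX ≤ fP ⁻¹ᵁ (πY ⁻¹ᵁ VY) := by
    intro z hz
    change πY (fP z) ∈ VY
    rw [hw]
    exact hle hz
  refine ⟨⟨πY ⁻¹ᵁ VY, hVY.preimage πY⟩, ⟨πX ⁻¹ᵁ UX, hUX.preimage πX⟩, hxU, e, ?_⟩
  have : Nonempty VY := ⟨⟨_, hyV⟩⟩
  have : Nonempty UX := ⟨⟨_, hxU⟩⟩
  have : Nonempty (πY ⁻¹ᵁ VY) := ⟨⟨fP x, by change πY (fP x) ∈ VY; rw [hw]; exact hyV⟩⟩
  have : Nonempty (πX ⁻¹ᵁ UX) := ⟨⟨x, hxU⟩⟩
  have := charP_sections p Y VY
  have := charP_sections p X UX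
  have := charP_sections p YP (πY ⁻¹ᵁ VY)
  have := charP_sections p XP (πX ⁻¹ᵁ UX)
  have comm : πY.app VY ≫ fP.appLE (πY ⁻¹ᵁ VY) (πX ⁻¹ᵁ UX) e =
      f.appLE VY UX hle ≫ πX.app UX := by
    rw [← Scheme.Hom.comp_appLE, Scheme.Hom.app_eq_appLE πX, Scheme.Hom.appLE_comp_appLE]
    exact appLE_congr_hom w VY _ _
  refine flat_of_pRad_square p (f.appLE VY UX hle).hom (πY.app VY).hom (πX.app UX).hom
    (fP.appLE (πY ⁻¹ᵁ VY) (πX ⁻¹ᵁ UX) e).hom ?_ (f.flat_appLE hVY hUX hle)
    (pRad_app p πY hY VY hVY) (pRad_app p πX hX UX hUX) (kNil_app p πX hX UX hUX)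
    (bijective_pow_app p YP hY.1 _) (bijective_pow_app p XP hX.1 _)
  rw [← CommRingCat.hom_comp, ← CommRingCat.hom_comp, comm]

end Groth.Agent.Helper9.Perf
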