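import Mathlib
import Groth.Prelude.Def_SGA1

set_option autoImplicit false
universe u
open CategoryTheory AlgebraicGeometry

namespace Groth.Agent.Helper9.QuotAct

variable {X Y : Scheme.{u}} {G : Type u} [Group G] (ρ : G →* Aut X) (p : X ⟶ Y)
  (hinv : ∀ g : G, (ρ g).hom ≫ p = p)

theorem appLE_of_eq {X Y : Scheme.{u}} {f g : X ⟶ Y} (h : f = g) (U : Y.Opens) (V : X.Opens)
    (e : V ≤ f ⁻¹ᵁ U) : f.appLE U V e = g.appLE U V (h ▸ e) := by subst h; rfl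

/-- the ring endomorphism of `Γ(X, p⁻¹U)` induced by `g`. -/
noncomputable def σ (U : Y.Opens) (g : G) : Γ(X, p ⁻¹ᵁ U) →+* Γ(X, p ⁻¹ᵁ U) :=
  ((ρ g).hom.appLE (p ⁻¹ᵁ U) (p ⁻¹ᵁ U) (SGA1.preimage_le_of_inv ρ p hinv g U)).hom

theorem σ_one (U : Y.Opens) (s : Γ(X, p ⁻¹ᵁ U)) : σ ρ p hinv U 1 s = s := by
  have h1 : (ρ 1).hom = 𝟙 X := by rw [map_one]; rfl
  unfold σ
  rw [appLE_of_eq h1]
  have h3 : X.presheaf.map (homOfLE (show p ⁻¹ᵁ U ≤ p ⁻¹ᵁ U from le_rfl)).op = 𝟙 _ := by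
    rw [show homOfLE (show p ⁻¹ᵁ U ≤ p ⁻¹ᵁ U from le_rfl) = 𝟙 _ from Subsingleton.elim _ _,
      op_id, X.presheaf.map_id]
  simp only [Scheme.Hom.appLE, Scheme.Hom.id_app, Category.id_comp]
  exact congrArg (fun φ => φ.hom s) h3

theorem σ_mul (U : Y.Opens) (g h : G) (s : Γ(X, p ⁻¹ᵁ U)) :
    σ ρ p hinv U (g * h) s = σ ρ p hinv U h (σ ρ p hinv U g s) := by
  have h1 : (ρ (g * h)).hom = (ρ h).hom ≫ (ρ g).hom := by rw [map_mul]; rfl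
  have h2 := Scheme.Hom.appLE_comp_appLE (ρ h).hom (ρ g).hom (p ⁻¹ᵁ U) (p ⁻¹ᵁ U) (p ⁻¹ᵁ U)
    (SGA1.preimage_le_of_inv ρ p hinv g U) (SGA1.preimage_le_of_inv ρ p hinv h U)
  unfold σ
  rw [appLE_of_eq h1]
  exact (congrArg (fun φ => φ.hom s) h2).symm

/-- the left action of `G` on `Γ(X, p⁻¹U)`: `g • s = σ g⁻¹ s`. -/
noncomputable def act (U : Y.Opens) : MulSemiringAction G Γ(X, p ⁻¹ᵁ U) where
  smul g s := σ ρ p hinv U g⁻¹ s
  one_smul s := by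
    change σ ρ p hinv U (1 : G)⁻¹ s = s
    rw [inv_one]; exact σ_one ρ p hinv U s
  mul_smul g h s := by
    change σ ρ p hinv U (g * h)⁻¹ s = σ ρ p hinv U g⁻¹ (σ ρ p hinv U h⁻¹ s)
    rw [mul_inv_rev, σ_mul]
  smul_zero g := map_zero _
  smul_add g a b := map_add _ _ _
  smul_one g := map_one _
  smul_mul g a b := map_mul _ _ _

theorem smul_def (U : Y.Opens) (g : G) (s : Γ(X, p ⁻¹ᵁ U)) :
    letI := act ρ p hinv U
    g • s = σ ρ p hinv U g⁻¹ s := rfl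

theorem σ_app (hp : SGA1.IsQuot ρ p) (U : Y.Opens) (g : G) (a : Γ(Y, U)) :
    σ ρ p hp.inv U g ((p.app U).hom a) = (p.app U).hom a :=
  (hp.range_iff U _).mp ⟨a, rfl⟩ g

theorem isInvariant (hp : SGA1.IsQuot ρ p) (U : Y.Opens) :
    letI := act ρ p hp.inv U
    letI := (p.app U).hom.toAlgebra
    Algebra.IsInvariant Γ(Y, U) Γ(X, p ⁻¹ᵁ U) G := by
  letI := act ρ p hp.inv U
  letI := (p.app U).hom.toAlgebra
  refine ⟨fun b hb => ?_⟩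
  have : b ∈ Set.range (p.app U).hom := (hp.range_iff U b).mpr (fun g => by
    have h := hb g⁻¹
    change σ ρ p hp.inv U (g⁻¹)⁻¹ b = b at h
    rwa [inv_inv] at h)
  exact this

theorem smulCommClass (hp : SGA1.IsQuot ρ p) (U : Y.Opens) :
    letI := act ρ p hp.inv U
    letI := (p.app U).hom.toAlgebra
    SMulCommClass G Γ(Y, U) Γ(X, p ⁻¹ᵁ U) := by
  letI := act ρ p hp.inv U
  letI := (p.app U).hom.toAlgebra
  refine ⟨fun g a s => ?_⟩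
  change σ ρ p hp.inv U g⁻¹ ((p.app U).hom a * s) = (p.app U).hom a * σ ρ p hp.inv U g⁻¹ s
  rw [map_mul, σ_app ρ p hp]

theorem isIntegral_app [Finite G] (hp : SGA1.IsQuot ρ p) (U : Y.Opens) :
    (p.app U).hom.IsIntegral := by
  letI := act ρ p hp.inv U
  letI := (p.app U).hom.toAlgebra
  haveI := isInvariant ρ p hp U
  have h := Algebra.IsInvariant.isIntegral Γ(Y, U) Γ(X, p ⁻¹ᵁ U) G
  exact fun b => h.isIntegral b

theorem isIntegralHom [Finite G] (hp : SGA1.IsQuot ρ p) : IsIntegralHom p := by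
  haveI := hp.affine
  exact ⟨fun U _ => isIntegral_app ρ p hp U⟩

theorem fromSpec_comap (U : Y.Opens) (hW : IsAffineOpen (p ⁻¹ᵁ U)) (g : G)
    (P : PrimeSpectrum Γ(X, p ⁻¹ᵁ U)) :
    (ρ g).hom (hW.fromSpec P) = hW.fromSpec (PrimeSpectrum.comap (σ ρ p hinv U g) P) := by
  have h := IsAffineOpen.SpecMap_appLE_fromSpec (ρ g).hom hW hW
    (SGA1.preimage_le_of_inv ρ p hinv g U)
  have h2 : (hW.fromSpec ≫ (ρ g).hom) P = (Spec.map ((ρ g).hom.appLE (p ⁻¹ᵁ U) (p ⁻¹ᵁ U)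
      (SGA1.preimage_le_of_inv ρ p hinv g U)) ≫ hW.fromSpec) P := by rw [h]
  rw [Scheme.Hom.comp_apply, Scheme.Hom.comp_apply] at h2
  exact h2

omit [Group G] in
theorem map_fromSpec (U : Y.Opens) (hU : IsAffineOpen U) (hW : IsAffineOpen (p ⁻¹ᵁ U))
    (P : PrimeSpectrum Γ(X, p ⁻¹ᵁ U)) :
    p (hW.fromSpec P) = hU.fromSpec (PrimeSpectrum.comap (p.app U).hom P) := by
  have h := IsAffineOpen.SpecMap_appLE_fromSpec p hU hW le_rfl
  have h2 : (hW.fromSpec ≫ p) P = (Spec.map (p.appLE U (p ⁻¹ᵁ U) le_rfl) ≫ hU.fromSpec) P := by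
    rw [h]
  rw [Scheme.Hom.comp_apply, Scheme.Hom.comp_apply, Scheme.Hom.appLE_eq_app] at h2
  exact h2

omit [Group G] in
theorem appLE_injective (hinj : ∀ U : Y.Opens, Function.Injective (p.app U).hom)
    (V₀ : Y.Opens) (O : X.Opens) (hO : O = p ⁻¹ᵁ V₀) :
    Function.Injective (p.appLE V₀ O hO.le).hom := by
  subst hO
  have h1 : p.appLE V₀ (p ⁻¹ᵁ V₀) le_rfl = p.app V₀ := Scheme.Hom.appLE_eq_app p
  rw [h1]
  exact hinj V₀

theorem range_iff' (hp : SGA1.IsQuot ρ p) (V₀ : Y.Opens) (O : X.Opens) (hO : O = p ⁻¹ᵁ V₀)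
    (e : ∀ g : G, O ≤ (ρ g).hom ⁻¹ᵁ O) (s : Γ(X, O)) :
    s ∈ Set.range (p.appLE V₀ O hO.le).hom ↔
      ∀ g : G, ((ρ g).hom.appLE O O (e g)).hom s = s := by
  subst hO
  have h1 : p.appLE V₀ (p ⁻¹ᵁ V₀) le_rfl = p.app V₀ := Scheme.Hom.appLE_eq_app p
  rw [h1]
  exact hp.range_iff V₀ s

section Epi
open Limits
variable {X Y Z T : Scheme.{u}}

theorem ι_comp_eq (f : T ⟶ Z) (W : Z.Opens) (hW : IsAffineOpen W) (V : T.Opens)
    (e : V ≤ f ⁻¹ᵁ W) :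
    V.ι ≫ f = V.toSpecΓ ≫ Spec.map (f.appLE W V e) ≫ hW.fromSpec := by
  rw [Scheme.Opens.toSpecΓ_SpecMap_appLE_assoc, hW.toSpecΓ_fromSpec, Scheme.Hom.resLE_comp_ι]

theorem app_snd_injective (p : X ⟶ Y) (hinj : ∀ U : Y.Opens, Function.Injective (p.app U).hom)
    (j : T ⟶ Y) [IsOpenImmersion j] (U : T.Opens) :
    Function.Injective ((pullback.snd p j).app U).hom := by
  have hO : (pullback.fst p j) ''ᵁ ((pullback.snd p j) ⁻¹ᵁ U) = p ⁻¹ᵁ (j ''ᵁ U) := by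
    ext x
    constructor
    · rintro ⟨z, hz, rfl⟩
      refine ⟨(pullback.snd p j) z, hz, ?_⟩
      have hc : (pullback.fst p j ≫ p) z = (pullback.snd p j ≫ j) z := by rw [pullback.condition]
      rw [Scheme.Hom.comp_apply, Scheme.Hom.comp_apply] at hc
      exact hc.symm
    · rintro ⟨u, hu, hux⟩
      obtain ⟨z, hz1, hz2⟩ := Scheme.Pullback.exists_preimage_pullback (f := p) (g := j) x u
        hux.symm
      exact ⟨z, by rw [← hz2] at hu; exact hu, hz1⟩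
  have hpinj : ∀ (O : X.Opens) (hO : O = p ⁻¹ᵁ (j ''ᵁ U)),
      Function.Injective (p.appLE (j ''ᵁ U) O hO.le).hom := by
    intro O hO; subst hO; rw [Scheme.Hom.appLE_eq_app]; exact hinj _
  have heq : j.appLE (j ''ᵁ U) U (j.preimage_image_eq U).ge ≫
      (pullback.snd p j).appLE U ((pullback.snd p j) ⁻¹ᵁ U) le_rfl =
      p.appLE (j ''ᵁ U) ((pullback.fst p j) ''ᵁ ((pullback.snd p j) ⁻¹ᵁ U)) hO.le ≫
      (pullback.fst p j).appLE _ ((pullback.snd p j) ⁻¹ᵁ U)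
        ((pullback.fst p j).preimage_image_eq _).ge := by
    rw [Scheme.Hom.appLE_comp_appLE, Scheme.Hom.appLE_comp_appLE]
    exact (appLE_of_eq pullback.condition _ _ _).symm
  have key : ∀ s, ((pullback.snd p j).app U).hom ((j.appIso U).hom.hom s) =
      ((pullback.fst p j).appIso ((pullback.snd p j) ⁻¹ᵁ U)).hom.hom
        ((p.appLE (j ''ᵁ U) _ hO.le).hom s) := by
    intro s
    have := congrArg (fun φ => φ.hom s) heq
    rw [Scheme.Hom.appIso_hom', Scheme.Hom.appIso_hom', Scheme.Hom.app_eq_appLE]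
    exact this
  intro s₁ s₂ hs
  have e1 : (j.appIso U).hom.hom ((j.appIso U).inv.hom s₁) = s₁ := by
    rw [← CommRingCat.comp_apply, Iso.inv_hom_id]; rfl
  have e2 : (j.appIso U).hom.hom ((j.appIso U).inv.hom s₂) = s₂ := by
    rw [← CommRingCat.comp_apply, Iso.inv_hom_id]; rfl
  have hs' : ((pullback.snd p j).app U).hom ((j.appIso U).hom.hom ((j.appIso U).inv.hom s₁)) =
      ((pullback.snd p j).app U).hom ((j.appIso U).hom.hom ((j.appIso U).inv.hom s₂)) := by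
    rw [e1, e2]; exact hs
  rw [key, key] at hs'
  have hinj2 : Function.Injective
      ((pullback.fst p j).appIso ((pullback.snd p j) ⁻¹ᵁ U)).hom.hom :=
    (ConcreteCategory.bijective_of_isIso _).1
  have h3 := hpinj _ hO (hinj2 hs')
  calc s₁ = _ := e1.symm
    _ = _ := by rw [h3]
    _ = s₂ := e2

theorem hom_ext_snd (p : X ⟶ Y) [Surjective p]
    (hinj : ∀ U : Y.Opens, Function.Injective (p.app U).hom)
    (j : T ⟶ Y) [IsOpenImmersion j] (f₁ f₂ : T ⟶ Z)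
    (h : pullback.snd p j ≫ f₁ = pullback.snd p j ≫ f₂) : f₁ = f₂ := by
  have hpt : ∀ t : T, f₁ t = f₂ t := by
    intro t
    obtain ⟨z, rfl⟩ := (pullback.snd p j).surjective t
    rw [← Scheme.Hom.comp_apply, ← Scheme.Hom.comp_apply, h]
  apply Scheme.hom_ext_of_forall
  intro t
  obtain ⟨_, ⟨W, hW, rfl⟩, htW, -⟩ := Z.isBasis_affineOpens.exists_subset_of_mem_open
    (Set.mem_univ (f₁ t)) isOpen_univ
  refine ⟨f₁ ⁻¹ᵁ W ⊓ f₂ ⁻¹ᵁ W, ⟨htW, by show f₂ t ∈ W; rw [← hpt]; exact htW⟩, ?_⟩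
  rw [ι_comp_eq f₁ W hW _ inf_le_left, ι_comp_eq f₂ W hW _ inf_le_right]
  have : f₁.appLE W (f₁ ⁻¹ᵁ W ⊓ f₂ ⁻¹ᵁ W) inf_le_left =
      f₂.appLE W (f₁ ⁻¹ᵁ W ⊓ f₂ ⁻¹ᵁ W) inf_le_right := by
    apply CommRingCat.hom_ext
    apply RingHom.ext
    intro c
    apply app_snd_injective p hinj j (f₁ ⁻¹ᵁ W ⊓ f₂ ⁻¹ᵁ W)
    have h1 := Scheme.Hom.appLE_comp_appLE (pullback.snd p j) f₁ W (f₁ ⁻¹ᵁ W ⊓ f₂ ⁻¹ᵁ W)
      ((pullback.snd p j) ⁻¹ᵁ (f₁ ⁻¹ᵁ W ⊓ f₂ ⁻¹ᵁ W)) inf_le_left le_rfl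
    have h2 := Scheme.Hom.appLE_comp_appLE (pullback.snd p j) f₂ W (f₁ ⁻¹ᵁ W ⊓ f₂ ⁻¹ᵁ W)
      ((pullback.snd p j) ⁻¹ᵁ (f₁ ⁻¹ᵁ W ⊓ f₂ ⁻¹ᵁ W)) inf_le_right le_rfl
    have h3 := appLE_of_eq h W ((pullback.snd p j) ⁻¹ᵁ (f₁ ⁻¹ᵁ W ⊓ f₂ ⁻¹ᵁ W))
      (show _ ≤ (pullback.snd p j ≫ f₁) ⁻¹ᵁ W from fun x hx => hx.1)
    have h4 := congrArg (fun φ => φ.hom c) (h1.trans (h3.trans h2.symm))
    rw [Scheme.Hom.app_eq_appLE]
    exact h4
  rw [this]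

end Epi

end Groth.Agent.Helper9.QuotAct
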