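import Mathlib
import Groth.Prelude.Def_SGA1
import Groth.Agent.Lib.Helper9.QuotAct

set_option autoImplicit false
universe u
open CategoryTheory AlgebraicGeometry TopologicalSpace

namespace Groth.Agent.Helper9.QuotBasis

open Groth.Agent.Helper9.QuotAct

section General

theorem res_res (Z : Scheme.{u}) (U V W : Z.Opens) (h1 : V ≤ U) (h2 : W ≤ V) (s : Γ(Z, U)) :
    (Z.presheaf.map (homOfLE h2).op).hom ((Z.presheaf.map (homOfLE h1).op).hom s) =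
      (Z.presheaf.map (homOfLE (h2.trans h1)).op).hom s := by
  rw [← CommRingCat.comp_apply, ← Functor.map_comp]
  rfl

theorem fact1 (Z : Scheme.{u}) (W : Z.Opens) (hW : IsAffineOpen W) (a : Γ(Z, W)) (O : Z.Opens)
    (hO : O = Z.basicOpen a) (hOW : O ≤ W) (s : Γ(Z, O)) :
    ∃ (n : ℕ) (α : Γ(Z, W)), (Z.presheaf.map (homOfLE hOW).op).hom α =
      ((Z.presheaf.map (homOfLE hOW).op).hom a) ^ n * s := by
  subst hO
  exact exists_eq_pow_mul_of_isAffineOpen Z W hW a s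

theorem fact2 (Z : Scheme.{u}) (W : Z.Opens) (hW : IsAffineOpen W) (a α : Γ(Z, W)) (O : Z.Opens)
    (hO : O = Z.basicOpen a) (hOW : O ≤ W)
    (h : (Z.presheaf.map (homOfLE hOW).op).hom α = 0) : ∃ n : ℕ, a ^ n * α = 0 := by
  subst hO
  exact exists_pow_mul_eq_zero_of_res_basicOpen_eq_zero_of_isAffineOpen Z hW α a h

theorem fact3 (Z : Scheme.{u}) (W : Z.Opens) (a : Γ(Z, W)) (O : Z.Opens)
    (hO : O = Z.basicOpen a) (hOW : O ≤ W) :
    IsUnit ((Z.presheaf.map (homOfLE hOW).op).hom a) := by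
  subst hO
  exact RingedSpace.isUnit_res_basicOpen Z.toRingedSpace a

end General

variable {X Y : Scheme.{u}} {G : Type u} [Group G] (ρ : G →* Aut X) (p : X ⟶ Y)
  (hinv : ∀ g : G, (ρ g).hom ≫ p = p)

omit [Group G] in
theorem pre_le {U V : Y.Opens} (h : V ≤ U) : p ⁻¹ᵁ V ≤ p ⁻¹ᵁ U := fun _ hx => h hx

omit [Group G] in
theorem app_res (U V : Y.Opens) (h : V ≤ U) (t : Γ(Y, U)) :
    (p.app V).hom ((Y.presheaf.map (homOfLE h).op).hom t) =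
      (X.presheaf.map (homOfLE (pre_le p h)).op).hom ((p.app U).hom t) :=
  congrArg (fun φ => φ.hom t) (p.naturality (homOfLE h).op)

theorem σ_app' (U : Y.Opens) (g : G) (a : Γ(Y, U)) :
    σ ρ p hinv U g ((p.app U).hom a) = (p.app U).hom a := by
  have h2 := Scheme.Hom.appLE_comp_appLE (ρ g).hom p U (p ⁻¹ᵁ U) (p ⁻¹ᵁ U) le_rfl
    (SGA1.preimage_le_of_inv ρ p hinv g U)
  rw [appLE_of_eq (hinv g)] at h2
  have h3 := congrArg (fun φ => φ.hom a) h2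
  have h4 : p.appLE U (p ⁻¹ᵁ U) le_rfl = p.app U := Scheme.Hom.appLE_eq_app p
  simp only [h4] at h3
  exact h3

theorem σ_res (U V : Y.Opens) (hVU : V ≤ U) (g : G) (s : Γ(X, p ⁻¹ᵁ U)) :
    σ ρ p hinv V g ((X.presheaf.map (homOfLE (pre_le p hVU)).op).hom s) =
      (X.presheaf.map (homOfLE (pre_le p hVU)).op).hom (σ ρ p hinv U g s) := by
  have h1 := Scheme.Hom.map_appLE (ρ g).hom (SGA1.preimage_le_of_inv ρ p hinv g V)
    (homOfLE (pre_le p hVU)).op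
  have h2 := Scheme.Hom.appLE_map (ρ g).hom (SGA1.preimage_le_of_inv ρ p hinv g U)
    (homOfLE (pre_le p hVU)).op
  exact (congrArg (fun φ => φ.hom s) h1).trans (congrArg (fun φ => φ.hom s) h2).symm

omit [Group G] in
theorem injective_of_basis (𝓑 : Set Y.Opens) (hB : Opens.IsBasis 𝓑)
    (hinj : ∀ V ∈ 𝓑, Function.Injective (p.app V).hom) (U : Y.Opens) :
    Function.Injective (p.app U).hom := by
  intro s t hst
  fapply TopCat.Sheaf.eq_of_locally_eq' Y.sheaf (fun i : {V : Y.Opens // V ∈ 𝓑 ∧ V ≤ U} => i.1) U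
    (fun i => homOfLE i.2.2)
  · intro y hy
    obtain ⟨V, hVB, hyV, hVU⟩ := Opens.isBasis_iff_nbhd.mp hB hy
    exact Opens.mem_iSup.mpr ⟨⟨V, hVB, hVU⟩, hyV⟩
  · intro i
    apply hinj i.1 i.2.1
    have h1 := app_res p U i.1 i.2.2 s
    have h2 := app_res p U i.1 i.2.2 t
    rw [hst] at h1
    exact h1.trans h2.symm

theorem range_of_basis (𝓑 : Set Y.Opens) (hB : Opens.IsBasis 𝓑)
    (hinf : ∀ V ∈ 𝓑, ∀ V' ∈ 𝓑, V ⊓ V' ∈ 𝓑)
    (hinj : ∀ V ∈ 𝓑, Function.Injective (p.app V).hom)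
    (hrange : ∀ V ∈ 𝓑, ∀ s : Γ(X, p ⁻¹ᵁ V), (∀ g, σ ρ p hinv V g s = s) →
      s ∈ Set.range (p.app V).hom)
    (U : Y.Opens) (s : Γ(X, p ⁻¹ᵁ U)) (hs : ∀ g, σ ρ p hinv U g s = s) :
    s ∈ Set.range (p.app U).hom := by
  have hres : ∀ i : {V : Y.Opens // V ∈ 𝓑 ∧ V ≤ U}, ∃ t : Γ(Y, i.1),
      (p.app i.1).hom t = (X.presheaf.map (homOfLE (pre_le p i.2.2)).op).hom s := by
    intro i
    apply hrange i.1 i.2.1
    intro g
    rw [σ_res ρ p hinv U i.1 i.2.2 g s, hs]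
  choose t ht using hres
  have hcover : U ≤ ⨆ i : {V : Y.Opens // V ∈ 𝓑 ∧ V ≤ U}, i.1 := by
    intro y hy
    obtain ⟨V, hVB, hyV, hVU⟩ := Opens.isBasis_iff_nbhd.mp hB hy
    exact Opens.mem_iSup.mpr ⟨⟨V, hVB, hVU⟩, hyV⟩
  have hcompat : TopCat.Presheaf.IsCompatible Y.presheaf
      (fun i : {V : Y.Opens // V ∈ 𝓑 ∧ V ≤ U} => i.1) t := by
    intro i j
    apply hinj (i.1 ⊓ j.1) (hinf _ i.2.1 _ j.2.1)
    have e1 := app_res p i.1 (i.1 ⊓ j.1) inf_le_left (t i)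
    have e2 := app_res p j.1 (i.1 ⊓ j.1) inf_le_right (t j)
    rw [ht i, res_res] at e1
    rw [ht j, res_res] at e2
    exact e1.trans e2.symm
  obtain ⟨t₀, ht₀, -⟩ := TopCat.Sheaf.existsUnique_gluing' Y.sheaf
    (fun i : {V : Y.Opens // V ∈ 𝓑 ∧ V ≤ U} => i.1) U (fun i => homOfLE i.2.2) hcover t hcompat
  refine ⟨t₀, ?_⟩
  fapply TopCat.Sheaf.eq_of_locally_eq' X.sheaf
    (fun i : {V : Y.Opens // V ∈ 𝓑 ∧ V ≤ U} => p ⁻¹ᵁ i.1) (p ⁻¹ᵁ U)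
    (fun i => homOfLE (pre_le p i.2.2))
  · intro x hx
    obtain ⟨i, hi⟩ := Opens.mem_iSup.mp (hcover hx)
    exact Opens.mem_iSup.mpr ⟨i, hi⟩
  · intro i
    have e1 := app_res p U i.1 i.2.2 t₀
    have e3 : (Y.presheaf.map (homOfLE i.2.2).op).hom t₀ = t i := ht₀ i
    rw [e3, ht i] at e1
    exact e1.symm

theorem isQuot_of_basis [IsAffineHom p] (𝓑 : Set Y.Opens) (hB : Opens.IsBasis 𝓑)
    (hinf : ∀ V ∈ 𝓑, ∀ V' ∈ 𝓑, V ⊓ V' ∈ 𝓑)
    (hinj : ∀ V ∈ 𝓑, Function.Injective (p.app V).hom)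
    (hrange : ∀ V ∈ 𝓑, ∀ s : Γ(X, p ⁻¹ᵁ V), (∀ g, σ ρ p hinv V g s = s) →
      s ∈ Set.range (p.app V).hom) :
    SGA1.IsQuot ρ p where
  affine := inferInstance
  inv := hinv
  injective := injective_of_basis p 𝓑 hB hinj
  range_iff U s := ⟨by rintro ⟨a, rfl⟩ g; exact σ_app' ρ p hinv U g a,
    range_of_basis ρ p hinv 𝓑 hB hinf hinj hrange U s⟩

section Affine

variable [IsAffine X] [IsAffine Y]

omit [Group G] in
theorem basic_inj (hinj : Function.Injective (p.app ⊤).hom) (b : Γ(Y, ⊤)) :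
    Function.Injective (p.app (Y.basicOpen b)).hom := by
  rw [injective_iff_map_eq_zero]
  intro t ht
  have hVle : Y.basicOpen b ≤ ⊤ := le_top
  have hOle : p ⁻¹ᵁ (Y.basicOpen b) ≤ p ⁻¹ᵁ ⊤ := pre_le p hVle
  have hO : p ⁻¹ᵁ (Y.basicOpen b) = X.basicOpen ((p.app ⊤).hom b) := Scheme.preimage_basicOpen p b
  have hWX : IsAffineOpen (p ⁻¹ᵁ (⊤ : Y.Opens)) := isAffineOpen_top X
  obtain ⟨n, β, hβ⟩ := fact1 Y ⊤ (isAffineOpen_top Y) b _ rfl hVle t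
  have hu := fact3 Y ⊤ b _ rfl hVle
  have e1 := app_res p ⊤ (Y.basicOpen b) hVle β
  rw [hβ, map_mul, ht, mul_zero] at e1
  obtain ⟨m, hm⟩ := fact2 X (p ⁻¹ᵁ ⊤) hWX ((p.app ⊤).hom b) ((p.app ⊤).hom β) _ hO hOle e1.symm
  rw [← map_pow, ← map_mul] at hm
  have h0 : b ^ m * β = 0 := hinj (hm.trans (map_zero _).symm)
  have h1 := congrArg (Y.presheaf.map (homOfLE hVle).op).hom h0
  rw [map_mul, map_pow, map_zero] at h1
  have h2 : (Y.presheaf.map (homOfLE hVle).op).hom β = 0 := (hu.pow m).mul_right_eq_zero.mp h1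
  rw [h2] at hβ
  exact (hu.pow n).mul_right_eq_zero.mp hβ.symm

theorem basic_range [Finite G]
    (hrange : ∀ s : Γ(X, p ⁻¹ᵁ ⊤), (∀ g, σ ρ p hinv ⊤ g s = s) → s ∈ Set.range (p.app ⊤).hom)
    (b : Γ(Y, ⊤)) (s : Γ(X, p ⁻¹ᵁ (Y.basicOpen b)))
    (hs : ∀ g, σ ρ p hinv (Y.basicOpen b) g s = s) :
    s ∈ Set.range (p.app (Y.basicOpen b)).hom := by
  classical
  have hVle : Y.basicOpen b ≤ ⊤ := le_top
  have hOle : p ⁻¹ᵁ (Y.basicOpen b) ≤ p ⁻¹ᵁ ⊤ := pre_le p hVle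
  have hO : p ⁻¹ᵁ (Y.basicOpen b) = X.basicOpen ((p.app ⊤).hom b) := Scheme.preimage_basicOpen p b
  have hWX : IsAffineOpen (p ⁻¹ᵁ (⊤ : Y.Opens)) := isAffineOpen_top X
  obtain ⟨n, α, hα⟩ := fact1 X (p ⁻¹ᵁ ⊤) hWX ((p.app ⊤).hom b) _ hO hOle s
  have hu := fact3 Y ⊤ b _ rfl hVle
  have e0 := app_res p ⊤ (Y.basicOpen b) hVle b
  have hdiff : ∀ g, ∃ m : ℕ, ((p.app ⊤).hom b) ^ m * (σ ρ p hinv ⊤ g α - α) = 0 := by
    intro g
    apply fact2 X (p ⁻¹ᵁ ⊤) hWX _ _ _ hO hOle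
    rw [map_sub, sub_eq_zero, ← σ_res ρ p hinv ⊤ (Y.basicOpen b) hVle g α, hα, map_mul, map_pow,
      hs g, ← e0, σ_app']
  choose m hm using hdiff
  haveI := Fintype.ofFinite G
  have hM : ∀ g, ((p.app ⊤).hom b) ^ (Finset.univ.sup m) * (σ ρ p hinv ⊤ g α - α) = 0 := by
    intro g
    have hle : m g ≤ Finset.univ.sup m := Finset.le_sup (Finset.mem_univ g)
    obtain ⟨k, hk⟩ := Nat.exists_eq_add_of_le hle
    rw [hk, pow_add, mul_comm (_ ^ m g), mul_assoc, hm g, mul_zero]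
  have hinvα : ∀ g, σ ρ p hinv ⊤ g (((p.app ⊤).hom b) ^ (Finset.univ.sup m) * α) =
      ((p.app ⊤).hom b) ^ (Finset.univ.sup m) * α := by
    intro g
    rw [map_mul, map_pow, σ_app']
    have := hM g
    rw [mul_sub, sub_eq_zero] at this
    exact this
  obtain ⟨β, hβ⟩ := hrange _ hinvα
  obtain ⟨c', hc'⟩ := (hu.pow (n + Finset.univ.sup m)).exists_left_inv
  refine ⟨c' * (Y.presheaf.map (homOfLE hVle).op).hom β, ?_⟩
  have e1 := app_res p ⊤ (Y.basicOpen b) hVle β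
  rw [hβ, map_mul, map_pow, hα, ← e0] at e1
  have h5 := congrArg (p.app (Y.basicOpen b)).hom hc'
  rw [map_mul, map_pow, map_one] at h5
  rw [map_mul, e1]
  calc _ = ((p.app (Y.basicOpen b)).hom c' *
        (p.app (Y.basicOpen b)).hom ((Y.presheaf.map (homOfLE hVle).op).hom b) ^
          (n + Finset.univ.sup m)) * s := by ring
    _ = s := by rw [h5, one_mul]

theorem isQuot_of_isAffine [Finite G]
    (hinj : Function.Injective (p.app ⊤).hom)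
    (hrange : ∀ s : Γ(X, p ⁻¹ᵁ ⊤), (∀ g, σ ρ p hinv ⊤ g s = s) → s ∈ Set.range (p.app ⊤).hom) :
    SGA1.IsQuot ρ p := by
  apply isQuot_of_basis ρ p hinv (Set.range (Y.basicOpen : Γ(Y, ⊤) → Y.Opens))
    (isBasis_basicOpen Y)
  · rintro _ ⟨b, rfl⟩ _ ⟨b', rfl⟩
    exact ⟨b * b', Y.basicOpen_mul b b'⟩
  · rintro _ ⟨b, rfl⟩
    exact basic_inj p hinj b
  · rintro _ ⟨b, rfl⟩ s hs
    exact basic_range ρ p hinv hrange b s hs

end Affine

end Groth.Agent.Helper9.QuotBasis
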