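import Mathlib
import Groth.Prelude.Def_SGA1
import Groth.Agent.Lib.Helper9.QuotAct
import Groth.Agent.Lib.Helper9.QuotBasis
import Groth.Agent.H3.AffineAvoid
import Groth.Agent.S2908

set_option autoImplicit false
universe u
open CategoryTheory AlgebraicGeometry TopologicalSpace

namespace Groth.Agent.Helper9.QuotAff

open Groth.Agent.Helper9.QuotAct Groth.Agent.Helper9.QuotBasis

/-- prime avoidance in an affine open: a finite set of points of an affine open `O` lying in an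
open `N` lies in a basic open of `O` contained in `N`. -/
theorem exists_basicOpen_of_finite' {X : Scheme.{u}} (O : X.Opens) (hO : IsAffineOpen O)
    (N : X.Opens) (F : Set X) (hF : F.Finite) (hFO : F ⊆ O) (hFN : F ⊆ N) :
    ∃ a : Γ(X, O), F ⊆ (X.basicOpen a : Set X) ∧ X.basicOpen a ≤ N := by
  haveI : IsAffine (O : Scheme.{u}) := hO
  obtain ⟨a', h1, h2⟩ := Groth.Agent.H3.AffineAvoid.exists_basicOpen_of_finite (O : Scheme.{u})
    (O.ι ⁻¹ᵁ N) (O.ι.base ⁻¹' F) (hF.preimage (O.ι.isOpenEmbedding.injective.injOn))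
    (fun z hz => hFN hz)
  obtain ⟨a, ha⟩ : ∃ a : Γ(X, O), O.ι ''ᵁ (O : Scheme.{u}).basicOpen a' = X.basicOpen a :=
    ⟨_, Scheme.Opens.ι_image_basicOpen' O a'⟩
  refine ⟨a, ?_, ?_⟩
  · intro z hz
    rw [← ha]
    exact ⟨⟨z, hFO hz⟩, h1 (show O.ι.base ⟨z, hFO hz⟩ ∈ F from hz), rfl⟩
  · rw [← ha]
    rintro _ ⟨w, hw, rfl⟩
    exact h2 hw

variable {X Y : Scheme.{u}} {G : Type u} [Group G] [Finite G] (ρ : G →* Aut X) (p : X ⟶ Y)

/-- For a quotient `p : X ⟶ Y` by a finite group, an open `W'` of `Y` with affine preimage is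
affine. -/
theorem isAffineOpen_of_preimage (hp : SGA1.IsQuot ρ p) (W' : Y.Opens)
    (hO : IsAffineOpen (p ⁻¹ᵁ W')) : IsAffineOpen W' := by
  classical
  haveI := Fintype.ofFinite G
  have hsurj : Function.Surjective p.base := (Groth.Agent.S2908.result ρ p hp).1
  have hφinj := hp.injective W'
  have hφint := isIntegral_app ρ p hp W'
  apply isAffineOpen_of_isAffineOpen_basicOpen W' {b : Γ(Y, W') | IsAffineOpen (Y.basicOpen b)} ?_
    (fun b hb => hb)
  by_contra hne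
  obtain ⟨m, hm, hsm⟩ := Ideal.exists_le_maximal _ hne
  obtain ⟨P, hP⟩ := hφint.comap_surjective hφinj ⟨m, hm.isPrime⟩
  have hPm : ∀ b : Γ(Y, W'), b ∈ m ↔ (p.app W').hom b ∈ P.asIdeal := by
    intro b
    have h0 := congrArg PrimeSpectrum.asIdeal hP
    change Ideal.comap (p.app W').hom P.asIdeal = m at h0
    rw [← h0]
    rfl
  obtain ⟨x, hxdef⟩ : ∃ x, x = hO.fromSpec P := ⟨_, rfl⟩
  have hxO : x ∈ p ⁻¹ᵁ W' := by
    have : x ∈ Set.range hO.fromSpec := ⟨P, hxdef.symm⟩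
    rw [hO.range_fromSpec] at this
    exact this
  have hmemP : ∀ r : Γ(X, p ⁻¹ᵁ W'), x ∈ X.basicOpen r ↔ r ∉ P.asIdeal := by
    intro r
    have h0 : P ∈ hO.fromSpec ⁻¹ᵁ X.basicOpen r ↔ P ∈ PrimeSpectrum.basicOpen r := by
      rw [hO.fromSpec_preimage_basicOpen]
      exact Iff.rfl
    rw [hxdef]
    exact h0
  obtain ⟨N, hN, hyN, hNW⟩ := exists_isAffineOpen_mem_and_subset (x := p.base x) (U := W') hxO
  -- the orbit
  have horb : ∀ g : G, (ρ g).hom.base x ∈ p ⁻¹ᵁ N := by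
    intro g
    have hc : ((ρ g).hom ≫ p).base x = p.base x := by rw [hp.inv g]
    change p.base ((ρ g).hom.base x) ∈ N
    have hc' : p.base ((ρ g).hom.base x) = p.base x := hc
    rw [hc']
    exact hyN
  obtain ⟨a, haT, haN⟩ := exists_basicOpen_of_finite' (p ⁻¹ᵁ W') hO (p ⁻¹ᵁ N)
    (Set.range (fun g : G => (ρ g).hom.base x)) (Set.finite_range _)
    (by rintro _ ⟨g, rfl⟩; exact hNW (horb g))
    (by rintro _ ⟨g, rfl⟩; exact horb g)
  -- the norm
  obtain ⟨c, hcdef⟩ : ∃ c, c = ∏ g : G, σ ρ p hp.inv W' g a := ⟨_, rfl⟩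
  have hcinv : ∀ h : G, σ ρ p hp.inv W' h c = c := by
    intro h
    rw [hcdef, map_prod]
    have h1 : ∀ g : G, σ ρ p hp.inv W' h (σ ρ p hp.inv W' g a) = σ ρ p hp.inv W' (g * h) a :=
      fun g => (σ_mul ρ p hp.inv W' g h a).symm
    simp only [h1]
    exact Fintype.prod_equiv (Equiv.mulRight h) _ _ (fun g => rfl)
  obtain ⟨b, hb⟩ := (hp.range_iff W' c).mpr hcinv
  -- c ∉ P
  have hcP : c ∉ P.asIdeal := by
    rw [hcdef]
    haveI := P.isPrime
    rw [Ideal.IsPrime.prod_mem_iff]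
    rintro ⟨g, -, hg⟩
    have h1 : x ∉ X.basicOpen (σ ρ p hp.inv W' g a) := fun h => (hmemP _).mp h hg
    apply h1
    -- basicOpen of appLE
    have h2 : X.basicOpen (σ ρ p hp.inv W' g a) =
        (p ⁻¹ᵁ W') ⊓ X.basicOpen (((ρ g).hom.app (p ⁻¹ᵁ W')).hom a) :=
      Scheme.basicOpen_res _ _ _
    rw [h2, ← Scheme.preimage_basicOpen]
    exact ⟨hxO, haT ⟨g, rfl⟩⟩
  have hbm : b ∉ m := by
    rw [hPm, hb]
    exact hcP
  apply hbm
  apply hsm
  apply Ideal.subset_span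
  -- Y.basicOpen b is affine
  have hcle : X.basicOpen c ≤ X.basicOpen a := by
    have hdvd : σ ρ p hp.inv W' 1 a ∣ c := by
      rw [hcdef]
      exact Finset.dvd_prod_of_mem _ (Finset.mem_univ 1)
    rw [σ_one] at hdvd
    obtain ⟨r, hr⟩ := hdvd
    rw [hr, Scheme.basicOpen_mul]
    exact inf_le_left
  have hbN : Y.basicOpen b ≤ N := by
    intro y hy
    obtain ⟨z, rfl⟩ := hsurj y
    have hz : z ∈ p ⁻¹ᵁ Y.basicOpen b := hy
    rw [Scheme.preimage_basicOpen, hb] at hz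
    exact haN (hcle hz)
  have h3 : Y.basicOpen ((Y.presheaf.map (homOfLE hNW).op).hom b) = Y.basicOpen b := by
    have := Scheme.basicOpen_res (X := Y) b (homOfLE hNW).op
    rw [inf_eq_right.mpr hbN] at this
    exact this
  change IsAffineOpen (Y.basicOpen b)
  rw [← h3]
  exact hN.basicOpen _

end Groth.Agent.Helper9.QuotAff
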