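import Mathlib
import Groth.Agent.Lib.Helper9.QuotAct

set_option autoImplicit false
universe u
open CategoryTheory AlgebraicGeometry

namespace Groth.Agent.Helper9.QuotAct

theorem mem_primeIdealOf_iff {X : Scheme.{u}} (W : X.Opens) (hW : IsAffineOpen W) (x : X)
    (hxW : x ∈ W) (b : Γ(X, W)) :
    b ∈ (hW.primeIdealOf ⟨x, hxW⟩).asIdeal ↔ (X.evaluation W x hxW).hom b = 0 := by
  rw [hW.primeIdealOf_eq_map_closedPoint]
  change (X.presheaf.germ W x hxW).hom b ∈ IsLocalRing.maximalIdeal _ ↔ _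
  rw [← IsLocalRing.residue_eq_zero_iff]
  rfl

theorem evaluation_frac {X : Scheme.{u}} (W : X.Opens) (hW : IsAffineOpen W) (x : X)
    (hxW : x ∈ W) (z : X.residueField x) :
    ∃ b c : Γ(X, W), (X.evaluation W x hxW).hom c ≠ 0 ∧
      z * (X.evaluation W x hxW).hom c = (X.evaluation W x hxW).hom b := by
  obtain ⟨s, rfl⟩ := IsLocalRing.residue_surjective z
  letI := X.presheaf.algebra_section_stalk ⟨x, hxW⟩
  haveI := hW.isLocalization_stalk ⟨x, hxW⟩
  obtain ⟨⟨b, c⟩, hbc⟩ := IsLocalization.surj (hW.primeIdealOf ⟨x, hxW⟩).asIdeal.primeCompl s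
  refine ⟨b, c, fun h => c.2 ((mem_primeIdealOf_iff W hW x hxW c).mpr h), ?_⟩
  have := congrArg (IsLocalRing.residue _) hbc
  rw [map_mul] at this
  exact this

theorem ringHom_ext_evaluation {X : Scheme.{u}} (W : X.Opens) (hW : IsAffineOpen W) (x : X)
    (hxW : x ∈ W) {L' : Type*} [Field L'] (φ ψ : X.residueField x →+* L')
    (h : ∀ b : Γ(X, W), φ ((X.evaluation W x hxW).hom b) = ψ ((X.evaluation W x hxW).hom b)) :
    φ = ψ := by
  ext z
  obtain ⟨b, c, hc, hz⟩ := evaluation_frac W hW x hxW z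
  have h1 : φ z * φ ((X.evaluation W x hxW).hom c) = φ ((X.evaluation W x hxW).hom b) := by
    rw [← map_mul, hz]
  have h2 : ψ z * ψ ((X.evaluation W x hxW).hom c) = ψ ((X.evaluation W x hxW).hom b) := by
    rw [← map_mul, hz]
  have hc' : ψ ((X.evaluation W x hxW).hom c) ≠ 0 := (map_ne_zero ψ).mpr hc
  rw [h c, h b] at h1
  exact mul_right_cancel₀ hc' (h1.trans h2.symm)

theorem residueFieldCongr_inv_evaluation {X : Scheme.{u}} (W : X.Opens) (x x' : X) (e : x' = x)
    (hx : x ∈ W) (hx' : x' ∈ W) (b : Γ(X, W)) :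
    (X.residueFieldCongr e).inv.hom ((X.evaluation W x hx).hom b) =
      (X.evaluation W x' hx').hom b := by
  subst e; rfl

theorem evaluation_appLE {X Y : Scheme.{u}} (f : X ⟶ Y) (U : Y.Opens) (W : X.Opens)
    (e : W ≤ f ⁻¹ᵁ U) (x : X) (hx : x ∈ W) (s : Γ(Y, U)) :
    (f.residueFieldMap x).hom ((Y.evaluation U (f x) (e hx)).hom s) =
      (X.evaluation W x hx).hom ((f.appLE U W e).hom s) := by
  have h1 := Scheme.evaluation_naturality_apply f x (e hx) s
  refine h1.trans ?_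
  change (X.residue x).hom ((X.presheaf.germ (f ⁻¹ᵁ U) x (e hx)).hom ((f.app U).hom s)) =
    (X.residue x).hom ((X.presheaf.germ W x hx).hom
      ((X.presheaf.map (homOfLE e).op).hom ((f.app U).hom s)))
  congr 1
  exact (TopCat.Presheaf.germ_res_apply X.presheaf (homOfLE e) x hx _).symm

end Groth.Agent.Helper9.QuotAct
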