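import Mathlib
import Groth.Prelude.Def_SGA1
import Groth.Agent.Lib.Helper9.QuotAct
import Groth.Agent.S2908
import Groth.Agent.S13597

set_option autoImplicit false
universe u
open CategoryTheory AlgebraicGeometry Limits

namespace Groth.Agent.Helper9.QuotGeom

/-- a copy of a type, used to carry a second algebra structure. -/
def Copy (L : Type u) : Type u := L

instance (L : Type u) [Field L] : Field (Copy L) := inferInstanceAs (Field L)

/-- normal extension: two embeddings agreeing on the base field differ by an automorphism. -/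
theorem exists_aut_of_emb {F E L : Type u} [Field F] [Field E] [Field L] [Algebra F E] [Normal F E]
    (ι₁ ι₂ : E →+* L) (h : ι₁.comp (algebraMap F E) = ι₂.comp (algebraMap F E)) :
    ∃ τ : E ≃ₐ[F] E, ∀ x, ι₁ (τ x) = ι₂ x := by
  letI algFL : Algebra F L := (ι₁.comp (algebraMap F E)).toAlgebra
  letI algFL' : Algebra F (Copy L) := (show F →+* Copy L from ι₁.comp (algebraMap F E)).toAlgebra
  letI i1 : Algebra E L := ι₁.toAlgebra
  letI i2 : Algebra E (Copy L) := (show E →+* Copy L from ι₂).toAlgebra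
  haveI : IsScalarTower F E L := IsScalarTower.of_algebraMap_eq (fun x => rfl)
  haveI : IsScalarTower F E (Copy L) :=
    IsScalarTower.of_algebraMap_eq (fun x => RingHom.congr_fun h x)
  let χ : Copy L →ₐ[F] L :=
    { toFun := fun x => x
      map_one' := rfl
      map_mul' := fun _ _ => rfl
      map_zero' := rfl
      map_add' := fun _ _ => rfl
      commutes' := fun _ => rfl }
  exact ⟨χ.restrictNormal' E, fun x => χ.restrictNormal_commutes E x⟩

theorem epi_specMap_field (K L : Type u) [Field K] [Field L] (θ : K →+* L) :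
    Epi (Spec.map (CommRingCat.ofHom θ)) := by
  haveI : Flat (Spec.map (CommRingCat.ofHom θ)) := by
    rw [HasRingHomProperty.Spec_iff (P := @Flat)]
    letI := θ.toAlgebra
    exact (inferInstance : Module.Flat K L)
  haveI : Surjective (Spec.map (CommRingCat.ofHom θ)) :=
    ⟨fun y => ⟨IsLocalRing.closedPoint L, (inferInstance : Subsingleton (PrimeSpectrum K)).elim _ _⟩⟩
  exact Flat.epi_of_flat_of_surjective _

theorem exists_lift {X Y : Scheme.{u}} (f : X ⟶ Y) [Surjective f] (K : Type u) [Field K]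
    (a : Spec (.of K) ⟶ Y) :
    ∃ (L : Type u) (_ : Field L) (θ : K →+* L) (b : Spec (.of L) ⟶ X),
      b ≫ f = Spec.map (CommRingCat.ofHom θ) ≫ a := by
  haveI : Surjective (pullback.fst a f) :=
    MorphismProperty.pullback_fst (P := @Surjective) _ _ inferInstance
  obtain ⟨z, -⟩ := (pullback.fst a f).surjective (IsLocalRing.closedPoint K)
  refine ⟨(pullback a f).residueField z, inferInstance,
    (Spec.preimage ((pullback a f).fromSpecResidueField z ≫ pullback.fst a f)).hom,
    (pullback a f).fromSpecResidueField z ≫ pullback.snd a f, ?_⟩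
  rw [Category.assoc, ← pullback.condition, ← Category.assoc]
  congr 1
  exact (Spec.map_preimage _).symm

/-- criterion for universal injectivity through points with values in fields. -/
theorem universallyInjective_of_points {X' Y' P : Scheme.{u}} (r : X' ⟶ Y') [Surjective r]
    (m : Y' ⟶ P)
    (H : ∀ (L : Type u) [Field L] (b₁ b₂ : Spec (.of L) ⟶ X'),
      b₁ ≫ r ≫ m = b₂ ≫ r ≫ m → b₁ ≫ r = b₂ ≫ r) : UniversallyInjective m := by
  have hT : UniversallyInjective m ↔
      ∀ (K : Type u) [Field K], Function.Injective (fun g : Spec (.of K) ⟶ Y' ↦ g ≫ m) :=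
    (tfae_universallyInjective m).out 0 1
  rw [hT]
  intro K _ a₁ a₂ ha
  have ha' : a₁ ≫ m = a₂ ≫ m := ha
  obtain ⟨L₁, _, θ₁, b₁, hb₁⟩ := exists_lift r K a₁
  obtain ⟨L₂, _, θ₂, b₂, hb₂⟩ := exists_lift r L₁ (Spec.map (CommRingCat.ofHom θ₁) ≫ a₂)
  have h12 : (Spec.map (CommRingCat.ofHom θ₂) ≫ b₁) ≫ r = b₂ ≫ r := by
    apply H L₂
    rw [Category.assoc, ← Category.assoc b₁, hb₁, ← Category.assoc b₂, hb₂]
    simp only [Category.assoc, ha']
  rw [Category.assoc, hb₁, hb₂] at h12
  haveI := epi_specMap_field K L₁ θ₁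
  haveI := epi_specMap_field L₁ L₂ θ₂
  exact (cancel_epi _).mp ((cancel_epi _).mp h12)

variable {X Y : Scheme.{u}} {G : Type u} [Group G] [Finite G] (ρ : G →* Aut X) (p : X ⟶ Y)

theorem lemmaA (hp : SGA1.IsQuot ρ p) (L : Type u) [Field L] (x : X)
    (ι₁ ι₂ : X.residueField x ⟶ .of L)
    (h : (Spec.map ι₁ ≫ X.fromSpecResidueField x) ≫ p =
      (Spec.map ι₂ ≫ X.fromSpecResidueField x) ≫ p) :
    ∃ g : G, (Spec.map ι₁ ≫ X.fromSpecResidueField x) ≫ (ρ g).hom =
      Spec.map ι₂ ≫ X.fromSpecResidueField x := by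
  have h1 : p.residueFieldMap x ≫ ι₁ = p.residueFieldMap x ≫ ι₂ := by
    rw [Category.assoc, Category.assoc, ← Scheme.Hom.SpecMap_residueFieldMap_fromSpecResidueField,
      ← Spec.map_comp_assoc, ← Spec.map_comp_assoc, cancel_mono] at h
    exact Spec.map_injective h
  obtain ⟨hnormal, hstab⟩ := Groth.Agent.S13597.result ρ p hp x
  letI := (p.residueFieldMap x).hom.toAlgebra
  haveI := hnormal
  obtain ⟨τ, hτ⟩ := exists_aut_of_emb (F := Y.residueField (p.base x)) (E := X.residueField x)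
    (L := L) ι₁.hom ι₂.hom (by ext a; exact congrArg (fun φ => φ.hom a) h1)
  obtain ⟨τ', hτ'def⟩ : ∃ τ' : X.residueField x ≅ X.residueField x,
      τ' = τ.toRingEquiv.toCommRingCatIso := ⟨_, rfl⟩
  have hτ'app : ∀ a, τ'.hom.hom a = τ a := by
    intro a; rw [hτ'def]; rfl
  have hτ' : p.residueFieldMap x ≫ τ'.hom = p.residueFieldMap x := by
    ext a
    change τ'.hom.hom ((p.residueFieldMap x).hom a) = _
    rw [hτ'app]
    exact τ.commutes a
  obtain ⟨g, e, hg⟩ := hstab τ' hτ'
  refine ⟨g, ?_⟩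
  have h2 : X.fromSpecResidueField ((ρ g).hom.base x) =
      Spec.map (X.residueFieldCongr e).inv ≫ X.fromSpecResidueField x := by
    rw [← Scheme.residueFieldCongr_fromSpecResidueField e, ← Spec.map_comp_assoc,
      Iso.hom_inv_id, Spec.map_id, Category.id_comp]
  have h3 : τ'.hom ≫ ι₁ = ι₂ := by
    ext a
    change ι₁.hom (τ'.hom.hom a) = _
    rw [hτ'app]
    exact hτ a
  rw [Category.assoc, ← Scheme.Hom.SpecMap_residueFieldMap_fromSpecResidueField, h2,
    ← Spec.map_comp_assoc, ← Spec.map_comp_assoc, ← h3, hg]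
  simp only [Category.assoc]

theorem geomOrbit (hp : SGA1.IsQuot ρ p) (L : Type u) [Field L] (c₁ c₂ : Spec (.of L) ⟶ X)
    (h : c₁ ≫ p = c₂ ≫ p) : ∃ g : G, c₁ ≫ (ρ g).hom = c₂ := by
  have hdec : ∀ c : Spec (.of L) ⟶ X, ∃ (x : X) (ι : X.residueField x ⟶ .of L),
      c = Spec.map ι ≫ X.fromSpecResidueField x := fun c =>
    ⟨_, _, ((X.SpecToEquivOfField L).symm_apply_apply c).symm⟩
  have hpt : ∀ (x : X) (ι : X.residueField x ⟶ .of L),
      (Spec.map ι ≫ X.fromSpecResidueField x).base (IsLocalRing.closedPoint L) = x := by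
    intro x ι
    rw [Scheme.Hom.comp_base, TopCat.comp_app]
    exact Scheme.fromSpecResidueField_apply x _
  obtain ⟨x₂, ι₂, hc₂⟩ := hdec c₂
  obtain ⟨x₁, ι₁, hc₁⟩ := hdec c₁
  have hp12 : p.base x₁ = p.base x₂ := by
    have h0 : (c₁ ≫ p).base (IsLocalRing.closedPoint L) =
        (c₂ ≫ p).base (IsLocalRing.closedPoint L) := by rw [h]
    rw [Scheme.Hom.comp_base, Scheme.Hom.comp_base, TopCat.comp_app, TopCat.comp_app, hc₁, hc₂,
      hpt, hpt] at h0
    exact h0
  obtain ⟨g₀, hg₀⟩ := ((Groth.Agent.S2908.result ρ p hp).2.1 x₁ x₂).mp hp12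
  obtain ⟨x', ι', hc'⟩ := hdec (c₁ ≫ (ρ g₀).hom)
  have hx' : x' = x₂ := by
    have h0 : (c₁ ≫ (ρ g₀).hom).base (IsLocalRing.closedPoint L) =
        (Spec.map ι' ≫ X.fromSpecResidueField x').base (IsLocalRing.closedPoint L) := by rw [hc']
    rw [hpt, Scheme.Hom.comp_base, TopCat.comp_app, hc₁, hpt] at h0
    rw [← h0]; exact hg₀
  subst hx'
  have h' : (Spec.map ι' ≫ X.fromSpecResidueField x') ≫ p =
      (Spec.map ι₂ ≫ X.fromSpecResidueField x') ≫ p := by
    rw [← hc', ← hc₂, Category.assoc, hp.inv, h]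
  obtain ⟨g, hg⟩ := lemmaA ρ p hp L x' ι' ι₂ h'
  refine ⟨g * g₀, ?_⟩
  have hmul : (ρ (g * g₀)).hom = (ρ g₀).hom ≫ (ρ g).hom := by rw [map_mul]; rfl
  rw [hmul, ← Category.assoc, hc', hg, hc₂]

end Groth.Agent.Helper9.QuotGeom
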