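import Mathlib

/-!
The reduced locus of a scheme whose nilradical is locally finitely generated is open.
-/

set_option autoImplicit false
universe u

open CategoryTheory AlgebraicGeometry

namespace Groth.Agent.Helper9

/-- If the localization of `A` at `p` is reduced and the nilradical of `A` is finitely generated,
some `g ∉ p` kills the nilradical. -/
theorem exists_mul_nilradical_eq_zero {A : Type*} [CommRing A] (hN : (nilradical A).FG)
    (p : Ideal A) [p.IsPrime] (S : Type*) [CommRing S] [Algebra A S] [IsLocalization.AtPrime S p]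
    [IsReduced S] : ∃ g : A, g ∈ p.primeCompl ∧ ∀ n ∈ nilradical A, g * n = 0 := by
  classical
  obtain ⟨T, hT⟩ := hN
  have h1 : ∀ n ∈ T, ∃ r : p.primeCompl, (r : A) * n = 0 := by
    intro n hn
    have hnil : IsNilpotent n := by
      have : n ∈ nilradical A := by rw [← hT]; exact Ideal.subset_span hn
      exact mem_nilradical.1 this
    have h0 : algebraMap A S n = 0 := (hnil.map (algebraMap A S)).eq_zero
    exact (IsLocalization.map_eq_zero_iff p.primeCompl S n).1 h0
  have h2 : ∃ g : A, g ∈ p.primeCompl ∧ ∀ n ∈ T, g * n = 0 := by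
    revert h1
    refine Finset.induction_on T ?_ ?_
    · intro _
      exact ⟨1, Submonoid.one_mem _, by simp⟩
    · intro a T' _ ih h1
      obtain ⟨g, hg, hgT⟩ := ih (fun n hn => h1 n (Finset.mem_insert_of_mem hn))
      obtain ⟨r, hr⟩ := h1 a (Finset.mem_insert_self a T')
      refine ⟨r * g, Submonoid.mul_mem _ r.2 hg, ?_⟩
      intro n hn
      rcases Finset.mem_insert.1 hn with rfl | hn
      · rw [mul_comm (r : A) g, mul_assoc, hr, mul_zero]
      · rw [mul_assoc, hgT n hn, mul_zero]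
  obtain ⟨g, hg, hgT⟩ := h2
  refine ⟨g, hg, ?_⟩
  intro n hn
  rw [← hT] at hn
  refine Submodule.span_induction (p := fun n _ => g * n = 0) ?_ ?_ ?_ ?_ hn
  · intro x hx; exact hgT x hx
  · simp
  · intro x y _ _ hx hy; rw [mul_add, hx, hy, add_zero]
  · intro a x _ hx
    rw [smul_eq_mul, mul_left_comm, hx, mul_zero]

/-- If `g ∉ q` kills the nilradical of `A`, the localization of `A` at `q` is reduced. -/
theorem isReduced_of_mul_nilradical_eq_zero {A : Type*} [CommRing A] (g : A)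
    (hg : ∀ n ∈ nilradical A, g * n = 0)
    (q : Ideal A) [q.IsPrime] (S : Type*) [CommRing S] [Algebra A S] [IsLocalization.AtPrime S q]
    (hgq : g ∈ q.primeCompl) : IsReduced S := by
  refine ⟨fun z hz => ?_⟩
  obtain ⟨k, hk⟩ := hz
  obtain ⟨a, s, rfl⟩ := IsLocalization.exists_mk'_eq q.primeCompl z
  rw [← IsLocalization.mk'_pow, IsLocalization.mk'_eq_zero_iff] at hk
  obtain ⟨r, hr⟩ := hk
  have hnil : IsNilpotent ((r : A) * a) := by
    refine ⟨k + 1, ?_⟩
    rw [mul_pow, pow_succ, pow_succ]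
    calc (r : A) ^ k * r * (a ^ k * a) = (r : A) ^ k * a * (r * a ^ k) := by ring
      _ = 0 := by rw [hr, mul_zero]
  have h0 := hg _ (mem_nilradical.2 hnil)
  rw [IsLocalization.mk'_eq_zero_iff]
  exact ⟨⟨g, hgq⟩ * r, by simpa [mul_assoc] using h0⟩

/-- The reduced locus of a scheme with locally finitely generated nilradical is open. -/
theorem isOpen_setOf_isReduced_stalk (X : Scheme.{u})
    (hN : ∀ U : X.affineOpens, (nilradical Γ(X, U)).FG) :
    IsOpen {x : X | _root_.IsReduced (X.presheaf.stalk x)} := by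
  rw [isOpen_iff_mem_nhds]
  intro x hx
  obtain ⟨_, ⟨U, hU : IsAffineOpen U, rfl⟩, hxU, -⟩ :=
    X.isBasis_affineOpens.exists_subset_of_mem_open (Set.mem_univ x) isOpen_univ
  let algx : Algebra Γ(X, U) (X.presheaf.stalk (⟨x, hxU⟩ : U).1) :=
    X.presheaf.algebra_section_stalk (⟨x, hxU⟩ : U)
  have hloc := hU.isLocalization_stalk ⟨x, hxU⟩
  have : _root_.IsReduced (X.presheaf.stalk (⟨x, hxU⟩ : U).1) := hx
  obtain ⟨g, hgp, hg⟩ := exists_mul_nilradical_eq_zero (A := Γ(X, U)) (hN ⟨U, hU⟩)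
    (hU.primeIdealOf ⟨x, hxU⟩).asIdeal (X.presheaf.stalk (⟨x, hxU⟩ : U).1)
  have hxg : x ∈ X.basicOpen g := by
    rw [X.mem_basicOpen g x hxU]
    exact (IsLocalization.AtPrime.isUnit_to_map_iff (X.presheaf.stalk (⟨x, hxU⟩ : U).1)
      (hU.primeIdealOf ⟨x, hxU⟩).asIdeal g).2 hgp
  refine Filter.mem_of_superset ((X.basicOpen g).2.mem_nhds hxg) ?_
  intro y hy
  have hyU : y ∈ U := X.basicOpen_le g hy
  let algy : Algebra Γ(X, U) (X.presheaf.stalk (⟨y, hyU⟩ : U).1) :=
    X.presheaf.algebra_section_stalk (⟨y, hyU⟩ : U)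
  have hlocy := hU.isLocalization_stalk ⟨y, hyU⟩
  have hunit : IsUnit (X.presheaf.germ U y hyU g) := (X.mem_basicOpen g y hyU).1 hy
  have hgq : g ∈ (hU.primeIdealOf ⟨y, hyU⟩).asIdeal.primeCompl :=
    (IsLocalization.AtPrime.isUnit_to_map_iff (X.presheaf.stalk (⟨y, hyU⟩ : U).1)
      (hU.primeIdealOf ⟨y, hyU⟩).asIdeal g).1 hunit
  exact isReduced_of_mul_nilradical_eq_zero g hg (hU.primeIdealOf ⟨y, hyU⟩).asIdeal
    (X.presheaf.stalk (⟨y, hyU⟩ : U).1) hgq

end Groth.Agent.Helper9
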