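import Mathlib
import Groth.Agent.Lib.Helper9.SLD1

set_option autoImplicit false
universe u
open CategoryTheory CategoryTheory.Limits AlgebraicGeometry

namespace Groth.Agent.Helper9.SLD2
open Groth.Agent.Helper9.SLD1

variable {K : Type u} [Field K]

/-- powers of an element of the Jacobson radical of a 1-dim'l Noetherian domain `B` eventually
multiply any element of the fraction field into `B`. -/
theorem pow_mul_mem (B : Subring K) [IsNoetherianRing B] [IsFractionRing B K]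
    (hdim : ringKrullDim B = 1) (t : K) (htB : t ∈ B)
    (ht : (⟨t, htB⟩ : B) ∈ (⊥ : Ideal B).jacobson) (k : K) :
    ∃ N : ℕ, ∀ n, N ≤ n → t ^ n * k ∈ B := by
  obtain ⟨p, q, hq, rfl⟩ := IsFractionRing.div_surjective (A := B) k
  have hq0 : q ≠ 0 := nonZeroDivisors.ne_zero hq
  have hmax : ∀ P : Ideal B, P.IsPrime → P ≠ ⊥ → P.IsMaximal := fun P hP hP0 =>
    isMaximal_of_le B hdim B le_rfl P hP0
  obtain ⟨N, hN⟩ := exists_pow_mem_span hmax (⟨t, htB⟩ : B) q ht hq0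
  refine ⟨N, fun n hn => ?_⟩
  obtain ⟨c, hc⟩ := Ideal.mem_span_singleton'.mp (hN n hn)
  have hqK : (q : K) ≠ 0 := fun h => hq0 (Subtype.ext h)
  have hc' : t ^ n = (c : K) * (q : K) := by
    have := congrArg (Subtype.val) hc
    simpa using this.symm
  have : t ^ n * (algebraMap B K p / algebraMap B K q) = ((c * p : B) : K) := by
    show t ^ n * ((p : K) / (q : K)) = (c : K) * (p : K)
    rw [hc']; field_simp
  rw [this]; exact (c * p).2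

theorem isLocalization_away (R A : Subring K) (h : R ≤ A) (t : K) (htR : t ∈ R) (ht0 : t ≠ 0)
    (htA : t⁻¹ ∈ A) (hA : ∀ a ∈ A, ∃ N : ℕ, t ^ N * a ∈ R) :
    @IsLocalization.Away R _ (⟨t, htR⟩ : R) A _ (Subring.inclusion h).toAlgebra := by
  letI : Algebra R A := (Subring.inclusion h).toAlgebra
  refine (isLocalization_iff (Submonoid.powers (⟨t, htR⟩ : R)) A).mpr ⟨?_, ?_, ?_⟩
  · rintro ⟨_, n, rfl⟩
    refine IsUnit.of_mul_eq_one ((⟨t⁻¹, htA⟩ : A) ^ n) (Subtype.ext ?_)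
    show t ^ n * (t⁻¹) ^ n = 1
    rw [← mul_pow, mul_inv_cancel₀ ht0, one_pow]
  · intro a
    obtain ⟨N, hN⟩ := hA a a.2
    refine ⟨(⟨t ^ N * a, hN⟩, ⟨(⟨t, htR⟩ : R) ^ N, N, rfl⟩), Subtype.ext ?_⟩
    show (a : K) * t ^ N = t ^ N * a
    ring
  · intro x y hxy
    refine ⟨1, ?_⟩
    have : x = y := Subtype.ext (congrArg (fun z : A => (z : K)) hxy)
    rw [this]

theorem range_specMap_away {R S : Type u} [CommRing R] [CommRing S] [Algebra R S] (f : R)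
    [IsLocalization.Away f S] :
    Set.range (Spec.map (CommRingCat.ofHom (algebraMap R S))).base =
      {p : PrimeSpectrum R | f ∉ p.asIdeal} := by
  have h := PrimeSpectrum.localization_away_comap_range S f
  ext p
  have : p ∈ Set.range (PrimeSpectrum.comap (algebraMap R S)) ↔ f ∉ p.asIdeal := by
    rw [h]; exact PrimeSpectrum.mem_basicOpen f p
  exact this

theorem jac_helper (A : Subring K) (u : K) (huA : u ∈ A)
    (hu : (⟨u, huA⟩ : A) ∈ (⊥ : Ideal A).jacobson) :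
    1 + u ≠ 0 ∧ (1 + u)⁻¹ ∈ A ∧
      ∃ h : u * (1 + u)⁻¹ ∈ A, (⟨_, h⟩ : A) ∈ (⊥ : Ideal A).jacobson := by
  have h1 := Ideal.mem_jacobson_bot.mp hu 1
  obtain ⟨v, hv⟩ := h1.exists_right_inv
  have hvK : (u * 1 + 1) * (v : K) = 1 := congrArg Subtype.val hv
  have hne : 1 + u ≠ 0 := by
    intro h0
    have : u * 1 + 1 = 0 := by rw [mul_one, add_comm]; exact h0
    rw [this, zero_mul] at hvK
    exact zero_ne_one hvK
  have hinv : (1 + u)⁻¹ = (v : K) := by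
    apply inv_eq_of_mul_eq_one_right
    have : (1 + u) * (v : K) = (u * 1 + 1) * (v : K) := by ring
    rw [this, hvK]
  refine ⟨hne, hinv ▸ v.2, ?_⟩
  have hmem : u * (1 + u)⁻¹ ∈ A := by rw [hinv]; exact A.mul_mem huA v.2
  refine ⟨hmem, ?_⟩
  have : (⟨u * (1 + u)⁻¹, hmem⟩ : A) = ⟨u, huA⟩ * v :=
    Subtype.ext (by show u * (1 + u)⁻¹ = u * (v : K); rw [hinv])
  rw [this]
  exact Ideal.mul_mem_right _ _ hu

theorem exists_partition_of (A B : Subring K) (u : K) (hu0 : u ≠ 0) (huA : u ∈ A)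
    (huJ : (⟨u, huA⟩ : A) ∈ (⊥ : Ideal A).jacobson) (hu'B : u⁻¹ ∈ B)
    (hu'J : (⟨u⁻¹, hu'B⟩ : B) ∈ (⊥ : Ideal B).jacobson) :
    ∃ s t : K, s + t = 1 ∧ t ≠ 0 ∧ s ≠ 0 ∧ t ∈ A ∧ t⁻¹ ∈ A ∧ s ∈ B ∧ s⁻¹ ∈ B ∧
      (∃ h : t ∈ B, (⟨t, h⟩ : B) ∈ (⊥ : Ideal B).jacobson) ∧
      (∃ h : s ∈ A, (⟨s, h⟩ : A) ∈ (⊥ : Ideal A).jacobson) := by
  obtain ⟨h1, h2, h3, h4⟩ := jac_helper A u huA huJ
  obtain ⟨g1, g2, g3, g4⟩ := jac_helper B u⁻¹ hu'B hu'J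
  have h1' : u + 1 ≠ 0 := by rwa [add_comm]
  have e1 : (1 + u⁻¹)⁻¹ = u * (1 + u)⁻¹ := by
    rw [add_comm 1 u]; field_simp
  have e2 : u⁻¹ * (1 + u⁻¹)⁻¹ = (1 + u)⁻¹ := by
    rw [add_comm 1 u]; field_simp
  refine ⟨u * (1 + u)⁻¹, (1 + u)⁻¹, ?_, inv_ne_zero h1, mul_ne_zero hu0 (inv_ne_zero h1), h2, ?_,
    e1 ▸ g2, ?_, ?_, ⟨h3, h4⟩⟩
  · rw [add_comm 1 u]; field_simp
  · rw [inv_inv]; exact A.add_mem A.one_mem huA
  · rw [← e1, inv_inv]; exact B.add_mem B.one_mem hu'B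
  · have hm : (1 + u)⁻¹ ∈ B := e2 ▸ g3
    refine ⟨hm, ?_⟩
    have : (⟨(1 + u)⁻¹, hm⟩ : B) = ⟨_, g3⟩ := Subtype.ext e2.symm
    rw [this]; exact g4

/-- A "partition of unity" adapted to two semilocal one-dimensional subrings generating `K`. -/
theorem exists_partition (A B : Subring K) [IsNoetherianRing A] [IsNoetherianRing B]
    [IsFractionRing A K] [IsFractionRing B K]
    (hdimA : ringKrullDim A = 1) (hdimB : ringKrullDim B = 1)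
    (hslA : Finite (MaximalSpectrum A)) (hslB : Finite (MaximalSpectrum B)) (hgen : A ⊔ B = ⊤) :
    ∃ s t : K, s + t = 1 ∧ t ≠ 0 ∧ s ≠ 0 ∧ t ∈ A ∧ t⁻¹ ∈ A ∧ s ∈ B ∧ s⁻¹ ∈ B ∧
      (∃ h : t ∈ B, (⟨t, h⟩ : B) ∈ (⊥ : Ideal B).jacobson) ∧
      (∃ h : s ∈ A, (⟨s, h⟩ : A) ∈ (⊥ : Ideal A).jacobson) := by
  obtain ⟨x, hxA, hx0, hx⟩ := exists_inv_mem_jacobson (ι := Unit) A (fun _ => B)
    (fun _ => hdimB) (fun _ => hslB) (fun _ => hgen)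
  obtain ⟨hxB, hxJ⟩ := hx ()
  obtain ⟨y, hyB, hy0, hy⟩ := exists_inv_mem_jacobson (ι := Unit) B (fun _ => A)
    (fun _ => hdimA) (fun _ => hslA) (fun _ => by rw [sup_comm]; exact hgen)
  obtain ⟨hyA, hyJ⟩ := hy ()
  have huA : y⁻¹ * x ∈ A := A.mul_mem hyA hxA
  have huJ : (⟨y⁻¹ * x, huA⟩ : A) ∈ (⊥ : Ideal A).jacobson := by
    have : (⟨y⁻¹ * x, huA⟩ : A) = ⟨y⁻¹, hyA⟩ * ⟨x, hxA⟩ := rfl
    rw [this]; exact Ideal.mul_mem_right _ _ hyJ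
  have hu'B : (y⁻¹ * x)⁻¹ ∈ B := by
    rw [mul_inv, inv_inv]; exact B.mul_mem hyB hxB
  have hu'J : (⟨(y⁻¹ * x)⁻¹, hu'B⟩ : B) ∈ (⊥ : Ideal B).jacobson := by
    have : (⟨(y⁻¹ * x)⁻¹, hu'B⟩ : B) = ⟨x⁻¹, hxB⟩ * ⟨y, hyB⟩ :=
      Subtype.ext (by show (y⁻¹ * x)⁻¹ = x⁻¹ * y; rw [mul_inv, inv_inv, mul_comm])
    rw [this]; exact Ideal.mul_mem_right _ _ hxJ
  exact exists_partition_of A B (y⁻¹ * x) (mul_ne_zero (inv_ne_zero hy0) hx0) huA huJ hu'B hu'J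

/-- `K` is the localization of `A` at the image of the powers of `s`. -/
theorem isLocalization_field (R A : Subring K) (h : R ≤ A) [IsNoetherianRing A] [IsFractionRing A K]
    (hdim : ringKrullDim A = 1) (s : K) (hsR : s ∈ R) (hs0 : s ≠ 0)
    (hsJ : (⟨s, h hsR⟩ : A) ∈ (⊥ : Ideal A).jacobson) :
    letI : Algebra R A := (Subring.inclusion h).toAlgebra
    IsLocalization (Algebra.algebraMapSubmonoid A (Submonoid.powers (⟨s, hsR⟩ : R))) K := by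
  letI : Algebra R A := (Subring.inclusion h).toAlgebra
  refine (isLocalization_iff _ K).mpr ⟨?_, ?_, ?_⟩
  · rintro ⟨_, ⟨_, ⟨n, rfl⟩, rfl⟩⟩
    refine IsUnit.mk0 _ ?_
    show s ^ n ≠ 0
    exact pow_ne_zero n hs0
  · intro k
    obtain ⟨N, hN⟩ := pow_mul_mem A hdim s (h hsR) hsJ k
    refine ⟨(⟨s ^ N * k, hN N le_rfl⟩, ⟨algebraMap R A ((⟨s, hsR⟩ : R) ^ N),
      ⟨_, ⟨N, rfl⟩, rfl⟩⟩), ?_⟩
    show k * s ^ N = s ^ N * k
    ring
  · intro x y hxy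
    refine ⟨1, ?_⟩
    have : x = y := Subtype.ext hxy
    rw [this]

/-- the Jacobson radical of a subring `B` of `K`, as an additive submonoid of `K`. -/
def JK (B : Subring K) : AddSubmonoid K where
  carrier := {k | ∃ h : k ∈ B, (⟨k, h⟩ : B) ∈ (⊥ : Ideal B).jacobson}
  zero_mem' := ⟨B.zero_mem, Ideal.zero_mem _⟩
  add_mem' := by
    rintro a b ⟨ha, ha'⟩ ⟨hb, hb'⟩
    exact ⟨B.add_mem ha hb, Ideal.add_mem _ ha' hb'⟩

theorem mem_JK {B : Subring K} {k : K} :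
    k ∈ JK B ↔ ∃ h : k ∈ B, (⟨k, h⟩ : B) ∈ (⊥ : Ideal B).jacobson := Iff.rfl

theorem JK_mul {B : Subring K} {b k : K} (hb : b ∈ B) (hk : k ∈ JK B) : b * k ∈ JK B := by
  obtain ⟨h, hJ⟩ := hk
  exact ⟨B.mul_mem hb h, Ideal.mul_mem_left _ (⟨b, hb⟩ : B) hJ⟩

theorem exists_family {ι : Type*} [Fintype ι] [DecidableEq ι] [Nonempty ι] (A : ι → Subring K)
    [∀ i, IsNoetherianRing (A i)] [∀ i, IsFractionRing (A i) K]
    (hdim : ∀ i, ringKrullDim (A i) = 1) (hsl : ∀ i, Finite (MaximalSpectrum (A i)))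
    (hgen : ∀ i j, i ≠ j → A i ⊔ A j = ⊤) :
    ∃ e : ι → K, ∑ i, e i = 1 ∧ (∀ i, e i ≠ 0) ∧ (∀ i, e i ∈ A i) ∧ (∀ i, (e i)⁻¹ ∈ A i) ∧
      (∀ i j, j ≠ i → e i ∈ JK (A j)) := by
  have hX : ∀ i, ∃ x : K, x ∈ A i ∧ x ≠ 0 ∧ ∀ j : {j // j ≠ i},
      ∃ hx : x⁻¹ ∈ A j.1, (⟨x⁻¹, hx⟩ : A j.1) ∈ (⊥ : Ideal (A j.1)).jacobson := fun i =>
    exists_inv_mem_jacobson (A i) (fun j : {j // j ≠ i} => A j.1) (fun j => hdim j.1)
      (fun j => hsl j.1) (fun j => hgen i j.1 (Ne.symm j.2))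
  choose x hxA hx0 hx using hX
  have hz : ∀ i j, j ≠ i → (x i)⁻¹ ∈ JK (A j) := fun i j hji => hx i ⟨j, hji⟩
  obtain ⟨S, hS⟩ : ∃ S : K, S = ∑ k, (x k)⁻¹ := ⟨_, rfl⟩
  have hc : ∀ i, ∑ k ∈ Finset.univ.erase i, x i * (x k)⁻¹ ∈ JK (A i) := fun i =>
    sum_mem (fun k hk => JK_mul (hxA i) (hz k i (Finset.ne_of_mem_erase hk).symm))
  have hxS : ∀ i, x i * S = 1 + ∑ k ∈ Finset.univ.erase i, x i * (x k)⁻¹ := by
    intro i
    rw [hS, ← Finset.add_sum_erase _ _ (Finset.mem_univ i), mul_add, mul_inv_cancel₀ (hx0 i),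
      Finset.mul_sum]
  have hjac := fun i => jac_helper (A i) _ (hc i).1 (hc i).2
  have hS0 : S ≠ 0 := by
    obtain ⟨i₀⟩ := ‹Nonempty ι›
    intro h0
    have := (hjac i₀).1
    rw [← hxS i₀, h0, mul_zero] at this
    exact this rfl
  have he_eq : ∀ i, (x i)⁻¹ / S = (x i * S)⁻¹ := fun i => by rw [mul_inv, div_eq_mul_inv]
  have heA : ∀ i, (x i)⁻¹ / S ∈ A i := fun i => by
    rw [he_eq, hxS]; exact (hjac i).2.1
  refine ⟨fun i => (x i)⁻¹ / S, ?_, fun i => div_ne_zero (inv_ne_zero (hx0 i)) hS0, heA, ?_, ?_⟩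
  · rw [← Finset.sum_div, ← hS, div_self hS0]
  · intro i
    show ((x i)⁻¹ / S)⁻¹ ∈ A i
    rw [he_eq, inv_inv, hxS]
    exact (A i).add_mem (A i).one_mem (hc i).1
  · intro i j hji
    show (x i)⁻¹ / S ∈ JK (A j)
    have : (x i)⁻¹ / S = (x j * ((x j)⁻¹ / S)) * (x i)⁻¹ := by
      have := hx0 j
      field_simp
    rw [this]
    exact JK_mul ((A j).mul_mem (hxA j) (heA j)) (hz i j hji)

/-- if `e ^ n * a` eventually lies in every `A j`, then some `e ^ N * a` lies in `⨅ j, A j`. -/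
theorem exists_pow_mul_mem_iInf {ι : Type*} [Fintype ι] (A : ι → Subring K) (e a : K)
    (h : ∀ j, ∃ N : ℕ, ∀ n, N ≤ n → e ^ n * a ∈ A j) : ∃ N : ℕ, e ^ N * a ∈ ⨅ j, A j := by
  choose N hN using h
  refine ⟨Finset.univ.sup N, ?_⟩
  rw [Subring.mem_iInf]
  intro j
  exact hN j _ (Finset.le_sup (Finset.mem_univ j))

end Groth.Agent.Helper9.SLD2
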