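import Mathlib

set_option autoImplicit false
universe u

namespace Groth.Agent.Helper9.SLD3

theorem ringKrullDim_eq_one_of {R : Type*} [CommRing R] [IsDomain R]
    (hmax : ∀ I : Ideal R, I ≠ ⊥ → I.IsPrime → I.IsMaximal) (hnf : ¬ IsField R) :
    ringKrullDim R = 1 := by
  refine eq_of_le_of_not_lt (Ring.krullDimLE_iff (n := 1).mp ?_) fun h ↦ ?_
  · exact Ring.krullDimLE_one_iff_of_noZeroDivisors.mpr hmax
  · have : Ring.KrullDimLE 0 R := Ring.krullDimLE_iff.mpr (ENat.WithBot.lt_add_one_iff.mp h)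
    exact hnf Ring.KrullDimLE.isField_of_isDomain

section Glue

variable {R : Type u} [CommRing R] [IsDomain R] {ι : Type*} [Fintype ι] (e : ι → R)
  (he : ∑ i, e i = 1)
  (A : ι → Type u) [∀ i, CommRing (A i)] [∀ i, IsDomain (A i)] [∀ i, Algebra R (A i)]
  [hloc : ∀ i, IsLocalization.Away (e i) (A i)]

include he in
theorem exists_notMem (p : Ideal R) (hp : p ≠ ⊤) : ∃ i, e i ∉ p := by
  by_contra hcon
  push Not at hcon
  apply hp
  rw [Ideal.eq_top_iff_one, ← he]
  exact Ideal.sum_mem _ (fun i _ => hcon i)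

omit [IsDomain R] [Fintype ι] in
theorem disjoint_powers {p : Ideal R} (hp : p.IsPrime) {i : ι} (h : e i ∉ p) :
    Disjoint (Submonoid.powers (e i) : Set R) (p : Set R) := by
  rw [Set.disjoint_left]
  rintro _ ⟨n, rfl⟩ hmem
  exact h (hp.mem_of_pow_mem n hmem)

omit [IsDomain R] [Fintype ι] [∀ i, IsDomain (A i)] in
theorem under_map {p : Ideal R} (hp : p.IsPrime) {i : ι} (h : e i ∉ p) :
    (Ideal.map (algebraMap R (A i)) p).comap (algebraMap R (A i)) = p :=
  IsLocalization.under_map_of_isPrime_disjoint (Submonoid.powers (e i)) (A i) hp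
    (disjoint_powers e hp h)

omit [IsDomain R] [Fintype ι] [∀ i, IsDomain (A i)] in
theorem map_isPrime {p : Ideal R} (hp : p.IsPrime) {i : ι} (h : e i ∉ p) :
    (Ideal.map (algebraMap R (A i)) p).IsPrime :=
  IsLocalization.isPrime_of_isPrime_disjoint (Submonoid.powers (e i)) (A i) p hp
    (disjoint_powers e hp h)

omit [Fintype ι] [∀ i, IsDomain (A i)] in
theorem injective_algebraMap {i : ι} (h : e i ≠ 0) : Function.Injective (algebraMap R (A i)) :=
  IsLocalization.injective (A i) (powers_le_nonZeroDivisors_of_noZeroDivisors h)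

omit [Fintype ι] [∀ i, IsDomain (A i)] in
theorem map_ne_bot {p : Ideal R} (hp : p.IsPrime) {i : ι} (h : e i ∉ p) (hp0 : p ≠ ⊥) :
    Ideal.map (algebraMap R (A i)) p ≠ ⊥ := by
  intro hbot
  apply hp0
  have h1 := under_map e A hp h
  rw [hbot] at h1
  rw [← h1, eq_bot_iff]
  intro x hx
  have he0 : e i ≠ 0 := fun h0 => h (h0 ▸ p.zero_mem)
  have : algebraMap R (A i) x = 0 := hx
  rw [Ideal.mem_bot]
  exact injective_algebraMap e A he0 (by rw [this, map_zero])

omit [Fintype ι] [∀ i, IsDomain (A i)] in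
/-- Lemma U. -/
theorem eq_bot_of_two
    (hmaxA : ∀ i (P : Ideal (A i)), P ≠ ⊥ → P.IsPrime → P.IsMaximal)
    (hJ : ∀ i k, k ≠ i → algebraMap R (A i) (e k) ∈ (⊥ : Ideal (A i)).jacobson)
    {p : Ideal R} (hp : p.IsPrime) {i k : ι} (hik : k ≠ i) (hi : e i ∉ p) (hk : e k ∉ p) :
    p = ⊥ := by
  by_contra hp0
  have hP0 := map_ne_bot e A hp hi hp0
  have hPmax := hmaxA i _ hP0 (map_isPrime e A hp hi)
  have hJle : (⊥ : Ideal (A i)).jacobson ≤ Ideal.map (algebraMap R (A i)) p :=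
    sInf_le ⟨bot_le, hPmax⟩
  have h1 : e k ∈ (Ideal.map (algebraMap R (A i)) p).comap (algebraMap R (A i)) :=
    hJle (hJ i k hik)
  rw [under_map e A hp hi] at h1
  exact hk h1

include he in
omit [∀ i, IsDomain (A i)] in
theorem isMaximal_of_ne_bot [DecidableEq ι]
    (hmaxA : ∀ i (P : Ideal (A i)), P ≠ ⊥ → P.IsPrime → P.IsMaximal)
    (hJ : ∀ i k, k ≠ i → algebraMap R (A i) (e k) ∈ (⊥ : Ideal (A i)).jacobson)
    (p : Ideal R) (hp0 : p ≠ ⊥) (hp : p.IsPrime) : p.IsMaximal := by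
  obtain ⟨i, hi⟩ := exists_notMem e he p hp.ne_top
  obtain ⟨q, hq, hpq⟩ := Ideal.exists_le_maximal p hp.ne_top
  obtain ⟨k, hk⟩ := exists_notMem e he q hq.ne_top
  have hkp : e k ∉ p := fun h => hk (hpq h)
  have hki : k = i := by
    by_contra hne
    exact hp0 (eq_bot_of_two e A hmaxA hJ hp hne hi hkp)
  subst hki
  have hP0 := map_ne_bot e A hp hkp hp0
  have hPmax := hmaxA k _ hP0 (map_isPrime e A hp hkp)
  have hQ := map_isPrime e A hq.isPrime hk
  have hPQ : Ideal.map (algebraMap R (A k)) p = Ideal.map (algebraMap R (A k)) q :=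
    hPmax.eq_of_le hQ.ne_top (Ideal.map_mono hpq)
  have : p = q := by
    rw [← under_map e A hp hkp, hPQ, under_map e A hq.isPrime hk]
  rw [this]; exact hq

include hloc in
omit [Fintype ι] in
theorem not_isField (i : ι) (hnf : ¬ IsField (A i)) : ¬ IsField R := by
  obtain ⟨I, hI0, hI1⟩ := Ring.not_isField_iff_exists_ideal_bot_lt_and_lt_top.mp hnf
  rw [Ring.not_isField_iff_exists_ideal_bot_lt_and_lt_top]
  refine ⟨I.comap (algebraMap R (A i)), bot_lt_iff_ne_bot.mpr ?_, lt_top_iff_ne_top.mpr ?_⟩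
  · intro hbot
    have h1 := IsLocalization.map_under (Submonoid.powers (e i)) (A i) I
    rw [Ideal.under_def, hbot, Ideal.map_bot] at h1
    exact hI0.ne h1
  · exact Ideal.comap_ne_top _ hI1.ne

include he in
theorem existsUnique_notMem [DecidableEq ι]
    (hmaxA : ∀ i (P : Ideal (A i)), P ≠ ⊥ → P.IsPrime → P.IsMaximal)
    (hJ : ∀ i k, k ≠ i → algebraMap R (A i) (e k) ∈ (⊥ : Ideal (A i)).jacobson)
    (hnf : ¬ IsField R) (m : Ideal R) (hm : m.IsMaximal) : ∃! i, e i ∉ m := by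
  obtain ⟨i, hi⟩ := exists_notMem e he m hm.ne_top
  refine ⟨i, hi, fun k hk => ?_⟩
  by_contra hne
  exact Ring.ne_bot_of_isMaximal_of_not_isField hm hnf
    (eq_bot_of_two e A hmaxA hJ hm.isPrime hne hi hk)

include he in
theorem finite_maximalSpectrum [DecidableEq ι]
    (hmaxA : ∀ i (P : Ideal (A i)), P ≠ ⊥ → P.IsPrime → P.IsMaximal)
    (hnf : ¬ IsField R) (hfin : ∀ i, Finite (MaximalSpectrum (A i))) :
    Finite (MaximalSpectrum R) := by
  have hex : ∀ m : MaximalSpectrum R, ∃ x : (Σ i, MaximalSpectrum (A i)),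
      x.2.asIdeal.comap (algebraMap R (A x.1)) = m.asIdeal := by
    intro m
    obtain ⟨i, hi⟩ := exists_notMem e he m.asIdeal m.isMaximal.ne_top
    have hm0 := Ring.ne_bot_of_isMaximal_of_not_isField m.isMaximal hnf
    have hP0 := map_ne_bot e A m.isMaximal.isPrime hi hm0
    have hPmax := hmaxA i _ hP0 (map_isPrime e A m.isMaximal.isPrime hi)
    exact ⟨⟨i, ⟨_, hPmax⟩⟩, under_map e A m.isMaximal.isPrime hi⟩
  choose g hg using hex
  haveI : Finite (Σ i, MaximalSpectrum (A i)) := inferInstance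
  refine Finite.of_injective g (fun m m' hmm => ?_)
  ext1
  rw [← hg m, ← hg m', hmm]

include he in
omit [IsDomain R] [∀ i, IsDomain (A i)] in
theorem isNoetherianRing [DecidableEq R] (hN : ∀ i, IsNoetherianRing (A i)) : IsNoetherianRing R := by
  classical
  refine AlgebraicGeometry.isNoetherianRing_of_away (Finset.univ.image e) ?_ ?_
  · rw [Ideal.eq_top_iff_one, ← he]
    refine Ideal.sum_mem _ (fun i _ => Ideal.subset_span ?_)
    exact Finset.mem_coe.mpr (Finset.mem_image_of_mem e (Finset.mem_univ i))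
  · rintro ⟨s, hs⟩
    obtain ⟨i, -, rfl⟩ := Finset.mem_image.mp hs
    haveI := hN i
    exact isNoetherianRing_of_ringEquiv (A i)
      (IsLocalization.algEquiv (Submonoid.powers (e i)) (A i) (Localization.Away (e i))).toRingEquiv

end Glue

end Groth.Agent.Helper9.SLD3
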