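import Mathlib

universe u
open CategoryTheory CategoryTheory.Limits AlgebraicGeometry

namespace Groth.Agent.Helper9.SigmaFin

theorem isEmpty_sigma {ι : Type u} [IsEmpty ι] (Y : ι → Scheme.{u}) : IsEmpty ↥(∐ Y) := by
  refine ⟨fun x => ?_⟩
  obtain ⟨i, _⟩ := (sigmaOpenCover Y).exists_eq x
  exact isEmptyElim (show ι from i)

theorem isFinite_of_isEmpty {X Y : Scheme.{u}} (f : X ⟶ Y) [IsEmpty ↥X] : IsFinite f := by
  haveI : IsClosedImmersion f := by
    refine IsClosedImmersion.of_isPreimmersion f ?_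
    have h : Set.range f = ∅ := Set.range_eq_empty _
    rw [h]; exact isClosed_empty
  infer_instance

noncomputable def optMap {α : Type u} (Y : Option α → Scheme.{u}) :
    ∀ o, Y o ⟶ (∐ fun a => Y (some a)) ⨿ Y none
  | none => coprod.inr
  | some a => Sigma.ι (fun a => Y (some a)) a ≫ coprod.inl

theorem isFinite_sigmaDesc_option {α : Type u} {X : Scheme.{u}} (Y : Option α → Scheme.{u})
    (f : ∀ o, Y o ⟶ X)
    (hsome : IsFinite (Sigma.desc fun a => f (some a))) (hnone : IsFinite (f none)) :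
    IsFinite (Sigma.desc f) := by
  have h1 : Sigma.desc (optMap Y) ≫
      coprod.desc (Sigma.desc fun a => Sigma.ι Y (some a)) (Sigma.ι Y none) = 𝟙 _ := by
    refine Sigma.hom_ext _ _ (fun o => ?_)
    rw [← Category.assoc, Sigma.ι_desc, Category.comp_id]
    cases o with
    | none => exact coprod.inr_desc _ _
    | some a =>
      show (Sigma.ι (fun a => Y (some a)) a ≫ coprod.inl) ≫ _ = _
      rw [Category.assoc, coprod.inl_desc, Sigma.ι_desc]
  have h2 : coprod.desc (Sigma.desc fun a => Sigma.ι Y (some a)) (Sigma.ι Y none) ≫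
      Sigma.desc (optMap Y) = 𝟙 _ := by
    refine coprod.hom_ext ?_ ?_
    · rw [← Category.assoc, coprod.inl_desc, Category.comp_id]
      refine Sigma.hom_ext _ _ (fun a => ?_)
      rw [← Category.assoc, Sigma.ι_desc, Sigma.ι_desc]
      rfl
    · rw [← Category.assoc, coprod.inr_desc, Category.comp_id, Sigma.ι_desc]
      rfl
  have h3 : coprod.desc (Sigma.desc fun a => Sigma.ι Y (some a)) (Sigma.ι Y none) ≫ Sigma.desc f =
      coprod.desc (Sigma.desc fun a => f (some a)) (f none) := by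
    refine coprod.hom_ext ?_ ?_
    · rw [← Category.assoc, coprod.inl_desc, coprod.inl_desc]
      refine Sigma.hom_ext _ _ (fun a => ?_)
      rw [← Category.assoc, Sigma.ι_desc, Sigma.ι_desc, Sigma.ι_desc]
    · rw [← Category.assoc, coprod.inr_desc, coprod.inr_desc, Sigma.ι_desc]
  haveI : IsIso (coprod.desc (Sigma.desc fun a => Sigma.ι Y (some a)) (Sigma.ι Y none)) :=
    ⟨Sigma.desc (optMap Y), h2, h1⟩
  have h4 : IsFinite (coprod.desc (Sigma.desc fun a => Sigma.ι Y (some a)) (Sigma.ι Y none) ≫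
      Sigma.desc f) := by
    rw [h3]; infer_instance
  exact (MorphismProperty.cancel_left_of_respectsIso (P := @IsFinite)
    (coprod.desc (Sigma.desc fun a => Sigma.ι Y (some a)) (Sigma.ι Y none)) _).mp h4

theorem isFinite_sigmaDesc (ι : Type u) [Finite ι] :
    ∀ (X : Scheme.{u}) (Y : ι → Scheme.{u}) (f : ∀ i, Y i ⟶ X),
      (∀ i, IsFinite (f i)) → IsFinite (Sigma.desc f) := by
  refine Finite.induction_empty_option (P := fun ι : Type u => ∀ (X : Scheme.{u})
    (Y : ι → Scheme.{u}) (f : ∀ i, Y i ⟶ X), (∀ i, IsFinite (f i)) → IsFinite (Sigma.desc f))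
    ?_ ?_ ?_ ι
  · intro α β e ih X Y f hf
    have key : (Sigma.reindex e Y).hom ≫ Sigma.desc f = Sigma.desc (fun a => f (e a)) := by
      refine Sigma.hom_ext _ _ (fun a => ?_)
      rw [← Category.assoc, Sigma.ι_reindex_hom, Sigma.ι_desc, Sigma.ι_desc]
    have ih' : IsFinite ((Sigma.reindex e Y).hom ≫ Sigma.desc f) := by
      rw [key]
      exact ih X (Y ∘ e) (fun a => f (e a)) (fun a => hf _)
    exact (MorphismProperty.cancel_left_of_respectsIso (P := @IsFinite)
      (Sigma.reindex e Y).hom _).mp ih'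
  · intro X Y f hf
    haveI := isEmpty_sigma Y
    exact isFinite_of_isEmpty _
  · intro α _ ih X Y f hf
    exact isFinite_sigmaDesc_option Y f (ih X _ _ (fun a => hf _)) (hf _)

theorem exists_geomPoint {Z : Scheme.{u}} (z : Z) :
    ∃ (Ω : Type u) (_ : Field Ω) (_ : IsAlgClosed Ω) (c : Spec (.of Ω) ⟶ Z),
      c (IsLocalRing.closedPoint Ω) = z := by
  refine ⟨AlgebraicClosure (Z.residueField z), inferInstance, inferInstance,
    Spec.map (CommRingCat.ofHom (algebraMap (Z.residueField z)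
      (AlgebraicClosure (Z.residueField z)))) ≫ Z.fromSpecResidueField z, ?_⟩
  rw [Scheme.Hom.comp_apply]
  exact Scheme.fromSpecResidueField_apply z _

theorem pointTrans {X S : Scheme.{u}} (q : X ⟶ S) {G : Type u} [Group G] (ρ : G →* Aut X)
    (htrans : ∀ (Ω : Type u) [Field Ω] [IsAlgClosed Ω] (τ₁ τ₂ : Spec (CommRingCat.of Ω) ⟶ X),
      τ₁ ≫ q = τ₂ ≫ q → ∃ g : G, τ₁ ≫ (ρ g).hom = τ₂)
    (x y : X) (hxy : q x = q y) : ∃ g : G, (ρ g).hom x = y := by
  obtain ⟨w, hw1, hw2⟩ := Scheme.Pullback.exists_preimage_pullback x y hxy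
  obtain ⟨Ω, _, _, c, hc⟩ := exists_geomPoint w
  obtain ⟨g, hg⟩ := htrans Ω (c ≫ pullback.fst q q) (c ≫ pullback.snd q q)
    (by rw [Category.assoc, Category.assoc, pullback.condition])
  refine ⟨g, ?_⟩
  have h0 : ((c ≫ pullback.fst q q) ≫ (ρ g).hom) (IsLocalRing.closedPoint Ω) =
      (c ≫ pullback.snd q q) (IsLocalRing.closedPoint Ω) := by rw [hg]
  rw [Scheme.Hom.comp_apply, Scheme.Hom.comp_apply, Scheme.Hom.comp_apply, hc, hw1, hw2] at h0
  exact h0

end Groth.Agent.Helper9.SigmaFin
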