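import Mathlib
import Groth.Prelude.Def_SGA1

set_option autoImplicit false

open CategoryTheory CategoryTheory.Limits AlgebraicGeometry MorphismProperty

universe u

namespace Groth.Agent.Helper9.SubmDescent

instance univSubm_stable :
    (SGA1.UnivSubmersive : MorphismProperty Scheme.{u}).IsStableUnderBaseChange := by
  unfold SGA1.UnivSubmersive; infer_instance

theorem quot_of_isPullback {X Y X' Y' : Scheme.{u}} {g : X ⟶ Y} (hg : SGA1.UnivSubmersive g)
    {g' : X' ⟶ Y'} {i₁ : X' ⟶ X} {i₂ : Y' ⟶ Y} (h : IsPullback g' i₁ i₂ g) :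
    Topology.IsQuotientMap g'.base := hg _ _ _ h

/-- Topological descent of open/closed maps along a quotient map in a pullback square. -/
theorem top_descend {P X Y Z : Scheme.{u}} {fst : P ⟶ X} {snd : P ⟶ Y} {f : X ⟶ Z} {g : Y ⟶ Z}
    (h : IsPullback fst snd f g) (hq : Topology.IsQuotientMap g.base) :
    (IsOpenMap snd.base → IsOpenMap f.base) ∧ (IsClosedMap snd.base → IsClosedMap f.base) := by
  constructor
  · intro ho s hs
    have : IsOpen (g.base ⁻¹' (f.base '' s)) := by
      rw [← Scheme.image_preimage_eq_of_isPullback h]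
      exact ho _ (hs.preimage fst.continuous)
    rwa [hq.isOpen_preimage] at this
  · intro hc s hs
    have : IsClosed (g.base ⁻¹' (f.base '' s)) := by
      rw [← Scheme.image_preimage_eq_of_isPullback h]
      exact hc _ (hs.preimage fst.continuous)
    rwa [hq.isClosed_preimage] at this

instance descUC :
    DescendsAlong @UniversallyClosed (SGA1.UnivSubmersive : MorphismProperty Scheme.{u}) := by
  apply DescendsAlong.mk'
  intro X Y Z φ g _ hφ hfst
  haveI : UniversallyClosed (pullback.fst φ g) := hfst
  refine ⟨universally_mk' _ _ fun {T} f _ s hs ↦ ?_⟩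
  have hq : Topology.IsQuotientMap (pullback.snd φ f).base :=
    hφ _ _ _ (IsPullback.of_hasPullback φ f).flip
  have : IsClosed ((pullback.snd φ f).base ⁻¹' ((pullback.fst f g).base '' s)) := by
    rw [← Scheme.image_preimage_eq_of_isPullback (isPullback_map_snd_snd ..)]
    exact (pullback.fst (pullback.fst φ f) (pullback.fst φ g)).isClosedMap _
      (hs.preimage (Scheme.Hom.continuous _))
  rwa [hq.isClosed_preimage] at this

instance descUO :
    DescendsAlong @UniversallyOpen (SGA1.UnivSubmersive : MorphismProperty Scheme.{u}) := by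
  apply DescendsAlong.mk'
  intro X Y Z φ g _ hφ hfst
  haveI : UniversallyOpen (pullback.fst φ g) := hfst
  refine ⟨universally_mk' _ _ fun {T} f _ s hs ↦ ?_⟩
  have hq : Topology.IsQuotientMap (pullback.snd φ f).base :=
    hφ _ _ _ (IsPullback.of_hasPullback φ f).flip
  have : IsOpen ((pullback.snd φ f).base ⁻¹' ((pullback.fst f g).base '' s)) := by
    rw [← Scheme.image_preimage_eq_of_isPullback (isPullback_map_snd_snd ..)]
    exact (pullback.fst (pullback.fst φ f) (pullback.fst φ g)).isOpenMap _
      (hs.preimage (Scheme.Hom.continuous _))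
  rwa [hq.isOpen_preimage] at this

theorem isSeparated_of_isPullback {A X Y Z : Scheme.{u}} {fst : A ⟶ X} {snd : A ⟶ Y}
    {φ : X ⟶ Z} {g : Y ⟶ Z} (h : IsPullback fst snd φ g)
    (hφ : SGA1.UnivSubmersive φ) [IsSeparated fst] : IsSeparated g := by
  have h1 : (diagonal @UniversallyClosed) fst := by
    show UniversallyClosed (pullback.diagonal fst)
    infer_instance
  have h2 : (diagonal @UniversallyClosed) g :=
    of_isPullback_of_descendsAlong (P := diagonal @UniversallyClosed)
      (Q := (SGA1.UnivSubmersive : MorphismProperty Scheme.{u})) h hφ h1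
  haveI h3 : UniversallyClosed (pullback.diagonal g) := h2
  haveI : IsClosedImmersion (pullback.diagonal g) :=
    IsClosedImmersion.of_isPreimmersion _ (pullback.diagonal g).isClosedMap.isClosed_range
  exact ⟨inferInstance⟩

theorem universallyClosed_of_isPullback {A X Y Z : Scheme.{u}} {fst : A ⟶ X} {snd : A ⟶ Y}
    {φ : X ⟶ Z} {g : Y ⟶ Z} (h : IsPullback fst snd φ g)
    (hφ : SGA1.UnivSubmersive φ) [hf : UniversallyClosed fst] : UniversallyClosed g :=
  of_isPullback_of_descendsAlong (P := @UniversallyClosed)
    (Q := (SGA1.UnivSubmersive : MorphismProperty Scheme.{u})) h hφ hf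

theorem universallyOpen_of_isPullback {A X Y Z : Scheme.{u}} {fst : A ⟶ X} {snd : A ⟶ Y}
    {φ : X ⟶ Z} {g : Y ⟶ Z} (h : IsPullback fst snd φ g)
    (hφ : SGA1.UnivSubmersive φ) [hf : UniversallyOpen fst] : UniversallyOpen g :=
  of_isPullback_of_descendsAlong (P := @UniversallyOpen)
    (Q := (SGA1.UnivSubmersive : MorphismProperty Scheme.{u})) h hφ hf

end Groth.Agent.Helper9.SubmDescent
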