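import Mathlib
import Groth.Prelude.Def_SymProd
import Groth.Agent.H3.AffineAvoid

set_option autoImplicit false
universe u

namespace Groth.Agent.Helper9.SymLib

open AlgebraicGeometry CategoryTheory CategoryTheory.Limits TopologicalSpace

/-- A (small) limit of affine schemes is affine. -/
theorem isAffine_limit {J : Type} [SmallCategory J] (F : J ⥤ Scheme.{u})
    (h : ∀ j, IsAffine (F.obj j)) [HasLimit F] : IsAffine (limit F) := by
  let F' : J ⥤ AffineScheme.{u} :=
    ObjectProperty.lift Scheme.Spec.essImage F (fun j => essImage_Spec.mpr (h j))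
  have e0 : F' ⋙ AffineScheme.forgetToScheme ≅ F :=
    ObjectProperty.liftCompιIso Scheme.Spec.essImage F (fun j => essImage_Spec.mpr (h j))
  haveI : HasLimit (F' ⋙ AffineScheme.forgetToScheme) := hasLimit_of_iso e0.symm
  haveI : PreservesLimitsOfSize.{0, 0} AffineScheme.forgetToScheme.{u} :=
    preservesSmallestLimits_of_preservesLimits _
  let e1 : AffineScheme.forgetToScheme.obj (limit F') ≅ limit (F' ⋙ AffineScheme.forgetToScheme) :=
    preservesLimitIso AffineScheme.forgetToScheme F'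
  let e2 : limit (F' ⋙ AffineScheme.forgetToScheme) ≅ limit F := HasLimit.isoOfNatIso e0
  haveI : IsAffine (AffineScheme.forgetToScheme.obj (limit F')) :=
    isAffine_affineScheme (limit F')
  exact IsAffine.of_isIso (e1 ≪≫ e2).inv

variable {X S : Scheme.{u}} (f : X ⟶ S) (d : ℕ)

/-- The open `base⁻¹ V ∩ ⋂ i, π_i⁻¹ U` of the fibre power. -/
noncomputable def boxOpen (V : S.Opens) (U : X.Opens) : (SymProd.fibPow f d).Opens :=
  ⟨(((WidePullback.base (fun _ : Fin d => f)).base ⁻¹' (V : Set S)) ∩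
    ⋂ i : Fin d, (WidePullback.π (fun _ : Fin d => f) i).base ⁻¹' (U : Set X) :
      Set ↥(SymProd.fibPow f d)),
   ((WidePullback.base (fun _ : Fin d => f)).continuous.isOpen_preimage _ V.isOpen).inter
    (isOpen_iInter_of_finite fun i =>
      (WidePullback.π (fun _ : Fin d => f) i).continuous.isOpen_preimage _ U.isOpen)⟩

theorem mem_boxOpen (V : S.Opens) (U : X.Opens) (z : ↥(SymProd.fibPow f d)) :
    z ∈ boxOpen f d V U ↔ (WidePullback.base (fun _ : Fin d => f)).base z ∈ V ∧
      ∀ i : Fin d, (WidePullback.π (fun _ : Fin d => f) i).base z ∈ U := by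
  have h0 : z ∈ boxOpen f d V U ↔ z ∈ ((((WidePullback.base (fun _ : Fin d => f)).base ⁻¹' (V : Set S)) ∩
    ⋂ i : Fin d, (WidePullback.π (fun _ : Fin d => f) i).base ⁻¹' (U : Set X) :
      Set ↥(SymProd.fibPow f d))) := Iff.rfl
  rw [h0, Set.mem_inter_iff, Set.mem_iInter]
  rfl

theorem isAffineOpen_boxOpen (V : S.Opens) (hV : IsAffineOpen V) (U : X.Opens) (hU : IsAffineOpen U)
    (hUV : U ≤ f ⁻¹ᵁ V) : IsAffineOpen (boxOpen f d V U) := by
  haveI : IsAffine (V : Scheme.{u}) := hV
  haveI : IsAffine (U : Scheme.{u}) := hU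
  obtain ⟨W, hWdef⟩ : ∃ W, W = boxOpen f d V U := ⟨_, rfl⟩
  rw [← hWdef]
  have hWmem : ∀ z, z ∈ W ↔ (WidePullback.base (fun _ : Fin d => f)).base z ∈ V ∧
      ∀ i : Fin d, (WidePullback.π (fun _ : Fin d => f) i).base z ∈ U := by
    intro z; rw [hWdef]; exact mem_boxOpen f d V U z
  let fU : (U : Scheme.{u}) ⟶ (V : Scheme.{u}) := f.resLE V U hUV
  have hfU : fU ≫ V.ι = U.ι ≫ f := Scheme.Hom.resLE_comp_ι f hUV
  let P' : Scheme.{u} := widePullback (V : Scheme.{u}) (fun _ : Fin d => (U : Scheme.{u})) (fun _ => fU)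
  haveI hP' : IsAffine P' := by
    apply isAffine_limit
    rintro (_ | j)
    · exact hV
    · exact hU
  -- the map P' ⟶ P
  let j : P' ⟶ SymProd.fibPow f d :=
    WidePullback.lift (WidePullback.base (fun _ : Fin d => fU) ≫ V.ι)
      (fun i => WidePullback.π (fun _ : Fin d => fU) i ≫ U.ι)
      (by intro i; rw [Category.assoc, ← hfU, ← Category.assoc, WidePullback.π_arrow])
  have hjπ : ∀ i, j ≫ WidePullback.π (fun _ : Fin d => f) i =
      WidePullback.π (fun _ : Fin d => fU) i ≫ U.ι := fun i => WidePullback.lift_π _ _ _ _ i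
  have hjb : j ≫ WidePullback.base (fun _ : Fin d => f) =
      WidePullback.base (fun _ : Fin d => fU) ≫ V.ι := WidePullback.lift_base _ _ _ _
  -- lifts
  have hrb : Set.range (W.ι ≫ WidePullback.base (fun _ : Fin d => f)).base ⊆ Set.range V.ι.base := by
    rintro _ ⟨z, rfl⟩
    rw [Scheme.Opens.range_ι]
    have hz : (W.ι.base z) ∈ W := z.2
    rw [Scheme.Hom.comp_base, TopCat.comp_app]
    exact ((hWmem _).mp hz).1
  have hri : ∀ i, Set.range (W.ι ≫ WidePullback.π (fun _ : Fin d => f) i).base ⊆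
      Set.range U.ι.base := by
    intro i
    rintro _ ⟨z, rfl⟩
    rw [Scheme.Opens.range_ι]
    have hz : (W.ι.base z) ∈ W := z.2
    rw [Scheme.Hom.comp_base, TopCat.comp_app]
    exact ((hWmem _).mp hz).2 i
  let kb : (W : Scheme.{u}) ⟶ (V : Scheme.{u}) := IsOpenImmersion.lift V.ι _ hrb
  have hkb : kb ≫ V.ι = W.ι ≫ WidePullback.base (fun _ : Fin d => f) :=
    IsOpenImmersion.lift_fac _ _ _
  let ki : ∀ i : Fin d, (W : Scheme.{u}) ⟶ (U : Scheme.{u}) := fun i =>
    IsOpenImmersion.lift U.ι _ (hri i)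
  have hki : ∀ i, ki i ≫ U.ι = W.ι ≫ WidePullback.π (fun _ : Fin d => f) i := fun i =>
    IsOpenImmersion.lift_fac _ _ _
  let k : (W : Scheme.{u}) ⟶ P' := WidePullback.lift kb ki (by
    intro i
    rw [← cancel_mono V.ι, Category.assoc, hfU, ← Category.assoc, hki, hkb, Category.assoc,
      WidePullback.π_arrow])
  have hkπ : ∀ i, k ≫ WidePullback.π (fun _ : Fin d => fU) i = ki i :=
    fun i => WidePullback.lift_π _ _ _ _ i
  have hkbase : k ≫ WidePullback.base (fun _ : Fin d => fU) = kb := WidePullback.lift_base _ _ _ _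
  have hkj : k ≫ j = W.ι := by
    apply WidePullback.hom_ext
    · intro i
      rw [Category.assoc, hjπ, ← Category.assoc, hkπ, hki]
    · rw [Category.assoc, hjb, ← Category.assoc, hkbase, hkb]
  have hrj : Set.range j.base ⊆ Set.range W.ι.base := by
    rintro _ ⟨z, rfl⟩
    rw [Scheme.Opens.range_ι]
    change j.base z ∈ W
    rw [hWmem]
    constructor
    · have h1 : (j ≫ WidePullback.base (fun _ : Fin d => f)).base z ∈ V := by
        rw [hjb, Scheme.Hom.comp_base, TopCat.comp_app]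
        have h0 : V.ι.base ((WidePullback.base (fun _ : Fin d => fU)).base z) ∈ Set.range V.ι.base :=
          ⟨_, rfl⟩
        rwa [Scheme.Opens.range_ι] at h0
      rw [Scheme.Hom.comp_base, TopCat.comp_app] at h1
      exact h1
    · intro i
      have h1 : (j ≫ WidePullback.π (fun _ : Fin d => f) i).base z ∈ U := by
        rw [hjπ, Scheme.Hom.comp_base, TopCat.comp_app]
        have h0 : U.ι.base ((WidePullback.π (fun _ : Fin d => fU) i).base z) ∈ Set.range U.ι.base :=
          ⟨_, rfl⟩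
        rwa [Scheme.Opens.range_ι] at h0
      rw [Scheme.Hom.comp_base, TopCat.comp_app] at h1
      exact h1
  let j' : P' ⟶ (W : Scheme.{u}) := IsOpenImmersion.lift W.ι j hrj
  have hj' : j' ≫ W.ι = j := IsOpenImmersion.lift_fac _ _ _
  have h1 : j' ≫ k = 𝟙 P' := by
    apply WidePullback.hom_ext
    · intro i
      rw [Category.assoc, hkπ, Category.id_comp, ← cancel_mono U.ι, Category.assoc, hki,
        ← Category.assoc, hj', hjπ]
    · rw [Category.assoc, hkbase, Category.id_comp, ← cancel_mono V.ι, Category.assoc, hkb,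
        ← Category.assoc, hj', hjb]
  have h2 : k ≫ j' = 𝟙 _ := by
    rw [← cancel_mono W.ι, Category.assoc, hj', hkj, Category.id_comp]
  haveI : IsIso k := ⟨j', h2, h1⟩
  exact IsAffine.of_isIso k

theorem permHom_preimage_boxOpen (V : S.Opens) (U : X.Opens) (σ : Equiv.Perm (Fin d)) :
    (SymProd.permHom f d σ) ⁻¹ᵁ (boxOpen f d V U) = boxOpen f d V U := by
  ext z
  change (SymProd.permHom f d σ).base z ∈ boxOpen f d V U ↔ z ∈ boxOpen f d V U
  rw [mem_boxOpen, mem_boxOpen]
  have hb : (WidePullback.base (fun _ : Fin d => f)).base ((SymProd.permHom f d σ).base z) =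
      (WidePullback.base (fun _ : Fin d => f)).base z := by
    have hc : (SymProd.permHom f d σ ≫ WidePullback.base (fun _ : Fin d => f)).base z =
        (WidePullback.base (fun _ : Fin d => f)).base z := by rw [SymProd.permHom_base]
    exact hc
  have hπ : ∀ i, (WidePullback.π (fun _ : Fin d => f) i).base ((SymProd.permHom f d σ).base z) =
      (WidePullback.π (fun _ : Fin d => f) (σ.symm i)).base z := by
    intro i
    have hc : (SymProd.permHom f d σ ≫ WidePullback.π (fun _ : Fin d => f) i).base z =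
        (WidePullback.π (fun _ : Fin d => f) (σ.symm i)).base z := by rw [SymProd.permHom_π]
    exact hc
  rw [hb]
  constructor
  · rintro ⟨h1, h2⟩
    refine ⟨h1, fun i => ?_⟩
    have := h2 (σ i)
    rw [hπ, Equiv.symm_apply_apply] at this
    exact this
  · rintro ⟨h1, h2⟩
    refine ⟨h1, fun i => ?_⟩
    rw [hπ]
    exact h2 _

theorem exists_affine_le (hAF : SymProd.IsAF f) (V : S.Opens) (s : S) (hs : s ∈ V) (T : Finset X)
    (hT : ∀ x ∈ T, f.base x = s) :
    ∃ U : X.Opens, IsAffineOpen U ∧ U ≤ f ⁻¹ᵁ V ∧ ∀ x ∈ T, x ∈ U := by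
  obtain ⟨U₀, hU₀, hTU⟩ := hAF s T hT
  haveI : IsAffine (U₀ : Scheme.{u}) := hU₀
  let F : Set ↥(U₀ : Scheme.{u}) := U₀.ι.base ⁻¹' (T : Set X)
  have hF : F.Finite := T.finite_toSet.preimage (U₀.ι.isOpenEmbedding.injective.injOn)
  obtain ⟨h, hFh, hhW⟩ := Groth.Agent.H3.AffineAvoid.exists_basicOpen_of_finite (U₀ : Scheme.{u})
    (U₀.ι ⁻¹ᵁ (f ⁻¹ᵁ V)) F hF (by
      intro z hz
      change f.base (U₀.ι.base z) ∈ V
      rw [hT _ hz]; exact hs)
  refine ⟨U₀.ι ''ᵁ ((U₀ : Scheme.{u}).basicOpen h), ?_, ?_, ?_⟩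
  · exact ((isAffineOpen_top (U₀ : Scheme.{u})).basicOpen h).image_of_isOpenImmersion U₀.ι
  · rintro _ ⟨z, hz, rfl⟩
    exact hhW hz
  · intro x hx
    refine ⟨⟨x, hTU x hx⟩, hFh ?_, rfl⟩
    exact hx

/-- the key consequence of (AF): a point of the fibre power lies, with its whole orbit, in an
affine permutation-stable box `base⁻¹V ∩ ⋂ π_i⁻¹U` (with `V` a prescribed affine nbhd downstairs). -/
theorem exists_box (hAF : SymProd.IsAF f) (x : ↥(SymProd.fibPow f d)) (V : S.Opens)
    (hV : IsAffineOpen V) (hxV : (WidePullback.base (fun _ : Fin d => f)).base x ∈ V) :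
    ∃ U : X.Opens, IsAffineOpen U ∧ U ≤ f ⁻¹ᵁ V ∧ IsAffineOpen (boxOpen f d V U) ∧
      x ∈ boxOpen f d V U := by
  classical
  let T : Finset X := Finset.univ.image (fun i : Fin d => (WidePullback.π (fun _ : Fin d => f) i).base x)
  obtain ⟨U, hU, hUV, hTU⟩ := exists_affine_le f hAF V _ hxV T (by
    intro t ht
    obtain ⟨i, -, rfl⟩ := Finset.mem_image.mp ht
    have hc : (WidePullback.π (fun _ : Fin d => f) i ≫ f).base x =
        (WidePullback.base (fun _ : Fin d => f)).base x := by rw [WidePullback.π_arrow]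
    exact hc)
  refine ⟨U, hU, hUV, isAffineOpen_boxOpen f d V hV U hU hUV, ?_⟩
  rw [mem_boxOpen]
  exact ⟨hxV, fun i => hTU _ (Finset.mem_image.mpr ⟨i, Finset.mem_univ _, rfl⟩)⟩

end Groth.Agent.Helper9.SymLib
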