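import Mathlib
import Groth.Prelude.Def_W4c6katofiltaWFil

set_option autoImplicit false

/-!
# Helper library for the `WittFil` rows (filtered pieces of truncated Witt vectors)
-/

namespace Groth.Agent.Helper9.WittFilLib

open WittVector

section Teich

variable (p : ℕ) [hp : Fact p.Prime] {R : Type*} [CommRing R]

/-- the vector with coordinates `x_n * v^(p^n)` -/
noncomputable def mulT (x : WittVector p R) (v : R) : WittVector p R :=
  WittVector.mk p (fun n => x.coeff n * v ^ p ^ n)

theorem ghostComponent_mulT (x : WittVector p R) (v : R) (n : ℕ) :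
    ghostComponent n (mulT p x v) = ghostComponent n x * v ^ p ^ n := by
  simp only [ghostComponent_apply, aeval_wittPolynomial, mulT, coeff_mk, Finset.sum_mul]
  refine Finset.sum_congr rfl fun i hi => ?_
  have hi' : i ≤ n := Nat.lt_succ_iff.mp (Finset.mem_range.mp hi)
  have : p ^ i * p ^ (n - i) = p ^ n := by rw [← pow_add, Nat.add_sub_cancel' hi']
  rw [mul_pow, ← pow_mul, this]
  ring

theorem map_mulT {S : Type*} [CommRing S] (f : R →+* S) (x : WittVector p R) (v : R) :
    WittVector.map f (mulT p x v) = mulT p (WittVector.map f x) (f v) := by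
  ext n
  simp [mulT, map_coeff]

private theorem aux₁ {σ : Type*} (x : WittVector p (MvPolynomial σ ℚ)) (v : MvPolynomial σ ℚ) :
    x * teichmuller p v = mulT p x v := by
  apply (ghostMap.bijective_of_invertible p (MvPolynomial σ ℚ)).1
  rw [map_mul]
  ext1 n
  simp only [Pi.mul_apply, ghostMap_apply, ghostComponent_teichmuller, ghostComponent_mulT]

private theorem aux₂ {σ : Type*} (x : WittVector p (MvPolynomial σ ℤ)) (v : MvPolynomial σ ℤ) :
    x * teichmuller p v = mulT p x v := by
  refine map_injective (MvPolynomial.map (Int.castRingHom ℚ))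
    (MvPolynomial.map_injective _ Int.cast_injective) ?_
  rw [map_mul, map_teichmuller, map_mulT, aux₁]

theorem mul_teichmuller_eq (x : WittVector p R) (v : R) :
    x * teichmuller p v = mulT p x v := by
  obtain ⟨v', rfl⟩ := MvPolynomial.counit_surjective R v
  let x' : WittVector p (MvPolynomial R ℤ) :=
    WittVector.mk p (fun n => MvPolynomial.X (x.coeff n))
  have hx' : WittVector.map (MvPolynomial.counit R) x' = x := by
    ext n
    simp [x', map_coeff]
  rw [← hx', ← map_teichmuller, ← map_mul, aux₂, map_mulT]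

/-- Multiplying by a Teichmüller representative scales the `n`-th coordinate by `v^(p^n)`. -/
theorem coeff_mul_teichmuller (x : WittVector p R) (v : R) (n : ℕ) :
    (x * teichmuller p v).coeff n = x.coeff n * v ^ p ^ n := by
  rw [mul_teichmuller_eq, mulT, coeff_mk]

theorem coeff_teichmuller_mul (x : WittVector p R) (v : R) (n : ℕ) :
    (teichmuller p v * x).coeff n = v ^ p ^ n * x.coeff n := by
  rw [mul_comm, coeff_mul_teichmuller, mul_comm]

end Teich

section InA

variable {p : ℕ} [hp : Fact p.Prime] (A : Type*) {B : Type*} [CommRing A] [CommRing B] [Algebra A B]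

/-- truncated vectors all of whose coordinates are in the image of `A` -/
def InA (m : ℕ) (w : TruncatedWittVector p m B) : Prop :=
  ∀ j : Fin m, TruncatedWittVector.coeff j w ∈ (algebraMap A B).range

theorem inA_iff (m : ℕ) (w : TruncatedWittVector p m B) :
    InA A m w ↔ ∃ v : WittVector p A, truncate m (WittVector.map (algebraMap A B) v) = w := by
  constructor
  · intro h
    choose f hf using h
    refine ⟨WittVector.mk p (fun j => if h : j < m then f ⟨j, h⟩ else 0), ?_⟩
    ext j
    rw [coeff_truncate, map_coeff, coeff_mk, dif_pos j.2]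
    exact hf j
  · rintro ⟨v, rfl⟩ j
    exact ⟨v.coeff j, by rw [coeff_truncate, map_coeff]⟩

variable {A}

theorem InA.sub {m : ℕ} {w w' : TruncatedWittVector p m B} (h : InA A m w) (h' : InA A m w') :
    InA A m (w - w') := by
  rw [inA_iff] at h h' ⊢
  obtain ⟨v, rfl⟩ := h
  obtain ⟨v', rfl⟩ := h'
  exact ⟨v - v', by simp only [map_sub]⟩

theorem InA.add {m : ℕ} {w w' : TruncatedWittVector p m B} (h : InA A m w) (h' : InA A m w') :
    InA A m (w + w') := by
  rw [inA_iff] at h h' ⊢
  obtain ⟨v, rfl⟩ := h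
  obtain ⟨v', rfl⟩ := h'
  exact ⟨v + v', by simp only [map_add]⟩

theorem InA.mul {m : ℕ} {w w' : TruncatedWittVector p m B} (h : InA A m w) (h' : InA A m w') :
    InA A m (w * w') := by
  rw [inA_iff] at h h' ⊢
  obtain ⟨v, rfl⟩ := h
  obtain ⟨v', rfl⟩ := h'
  exact ⟨v * v', by simp only [map_mul]⟩

end InA

section G

variable {p : ℕ} [hp : Fact p.Prime] {A B : Type*} [CommRing A] [CommRing B] [Algebra A B]
  [CharP B p]

/-- `F^(m-1)(w) * [c]` truncated to length `m`. -/
noncomputable def G (m : ℕ) (c : B) (w : WittVector p B) : TruncatedWittVector p m B :=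
  truncate m ((frobenius^[m - 1]) w * teichmuller p c)

theorem coeff_G (m : ℕ) (c : B) (w : WittVector p B) (j : Fin m) :
    (G m c w).coeff j = (w.coeff j) ^ p ^ (m - 1) * c ^ p ^ (j : ℕ) := by
  rw [G, coeff_truncate, coeff_mul_teichmuller, iterate_frobenius_coeff]

theorem G_sub (m : ℕ) (c : B) (w w' : WittVector p B) :
    G m c (w - w') = G m c w - G m c w' := by
  simp only [G, iterate_map_sub, sub_mul, map_sub]

theorem G_add (m : ℕ) (c : B) (w w' : WittVector p B) :
    G m c (w + w') = G m c w + G m c w' := by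
  simp only [G, iterate_map_add, add_mul, map_add]

theorem G_mul (m : ℕ) (c c' : B) (w w' : WittVector p B) :
    G m (c * c') (w * w') = G m c w * G m c' w' := by
  simp only [G, iterate_map_mul, map_mul]
  ring

theorem pow_eq_aux {m : ℕ} (j : Fin m) : p ^ (m - 1) = p ^ (m - 1 - (j : ℕ)) * p ^ (j : ℕ) := by
  rw [← pow_add, Nat.sub_add_cancel (by have := j.2; omega)]

/-- the Frobenius trick: under normality of `A` in `B`, membership in `fil` is membership of
`F^(m-1)(w)[c]` in the subring of vectors with coordinates in `A`. -/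
theorem mem_fil_iff_G
    (hN : ∀ (y : B) (k : ℕ), 0 < k → y ^ k ∈ (algebraMap A B).range → y ∈ (algebraMap A B).range)
    (m : ℕ) (c : B) (w : WittVector p B) :
    truncate m w ∈ WittFil.fil p m (A := A) c ↔ InA A m (G m c w) := by
  unfold WittFil.fil InA
  simp only [Set.mem_ofPred_eq, coeff_truncate, coeff_G]
  refine forall_congr' fun j => ?_
  have e : (w.coeff j) ^ p ^ (m - 1) * c ^ p ^ (j : ℕ) =
      ((w.coeff j) ^ p ^ (m - 1 - (j : ℕ)) * c) ^ p ^ (j : ℕ) := by
    rw [mul_pow, ← pow_mul, ← pow_eq_aux]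
  rw [e]
  constructor
  · intro h
    exact pow_mem h _
  · intro h
    exact hN _ _ (pow_pos hp.out.pos _) h

theorem sub_mem_fil_of_normal
    (hN : ∀ (y : B) (k : ℕ), 0 < k → y ^ k ∈ (algebraMap A B).range → y ∈ (algebraMap A B).range)
    (m : ℕ) (c : B) {a b : TruncatedWittVector p m B}
    (ha : a ∈ WittFil.fil p m (A := A) c) (hb : b ∈ WittFil.fil p m (A := A) c) :
    a - b ∈ WittFil.fil p m (A := A) c := by
  obtain ⟨wa, rfl⟩ := truncate_surjective p m B a
  obtain ⟨wb, rfl⟩ := truncate_surjective p m B b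
  rw [mem_fil_iff_G hN] at ha hb
  rw [← map_sub, mem_fil_iff_G hN, G_sub]
  exact ha.sub hb

theorem add_mem_fil_of_normal
    (hN : ∀ (y : B) (k : ℕ), 0 < k → y ^ k ∈ (algebraMap A B).range → y ∈ (algebraMap A B).range)
    (m : ℕ) (c : B) {a b : TruncatedWittVector p m B}
    (ha : a ∈ WittFil.fil p m (A := A) c) (hb : b ∈ WittFil.fil p m (A := A) c) :
    a + b ∈ WittFil.fil p m (A := A) c := by
  obtain ⟨wa, rfl⟩ := truncate_surjective p m B a
  obtain ⟨wb, rfl⟩ := truncate_surjective p m B b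
  rw [mem_fil_iff_G hN] at ha hb
  rw [← map_add, mem_fil_iff_G hN, G_add]
  exact ha.add hb

theorem mul_mem_fil_of_normal
    (hN : ∀ (y : B) (k : ℕ), 0 < k → y ^ k ∈ (algebraMap A B).range → y ∈ (algebraMap A B).range)
    (m : ℕ) (c c' : B) {a b : TruncatedWittVector p m B}
    (ha : a ∈ WittFil.fil p m (A := A) c) (hb : b ∈ WittFil.fil p m (A := A) c') :
    a * b ∈ WittFil.fil p m (A := A) (c * c') := by
  obtain ⟨wa, rfl⟩ := truncate_surjective p m B a
  obtain ⟨wb, rfl⟩ := truncate_surjective p m B b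
  rw [mem_fil_iff_G hN] at ha hb
  rw [← map_mul, mem_fil_iff_G hN, G_mul]
  exact ha.mul hb

end G

section TruncTeich

variable {p : ℕ} [hp : Fact p.Prime] {B : Type*} [CommRing B]

theorem coeff_mul_truncate_teichmuller {m : ℕ} (a : TruncatedWittVector p m B) (v : B)
    (j : Fin m) :
    TruncatedWittVector.coeff j (a * truncate m (teichmuller p v)) =
      TruncatedWittVector.coeff j a * v ^ p ^ (j : ℕ) := by
  obtain ⟨wa, rfl⟩ := truncate_surjective p m B a
  rw [← map_mul, coeff_truncate, coeff_truncate, coeff_mul_teichmuller]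

theorem coeff_truncate_teichmuller_mul {m : ℕ} (a : TruncatedWittVector p m B) (v : B)
    (j : Fin m) :
    TruncatedWittVector.coeff j (truncate m (teichmuller p v) * a) =
      v ^ p ^ (j : ℕ) * TruncatedWittVector.coeff j a := by
  rw [mul_comm, coeff_mul_truncate_teichmuller, mul_comm]

end TruncTeich

section Loc

variable {A B : Type*} [CommRing A] [IsDomain A] [CommRing B] [Algebra A B] {r : ℕ}
  (x : Fin r → A) (hx : ∀ i, Prime (x i)) (hxa : ∀ i j, Associated (x i) (x j) → i = j)
  [IsLocalization.Away (∏ i, x i) B] (u : Fin r → Bˣ)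
  (hu : ∀ i, (u i : B) = algebraMap A B (x i))

include hx in
theorem prod_ne_zero : (∏ i, x i) ≠ 0 :=
  Finset.prod_ne_zero_iff.mpr fun i _ => (hx i).ne_zero

include hx in
theorem algebraMap_injective : Function.Injective (algebraMap A B) :=
  IsLocalization.injective B (M := Submonoid.powers (∏ i, x i))
    (powers_le_nonZeroDivisors_of_noZeroDivisors (prod_ne_zero x hx))

include hx hxa in
theorem prod_dvd_of_forall_dvd {a : A} (h : ∀ k, x k ∣ a) : (∏ i, x i) ∣ a := by
  classical
  suffices H : ∀ s : Finset (Fin r), (∏ i ∈ s, x i) ∣ a from H Finset.univ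
  intro s
  induction s using Finset.induction_on with
  | empty => simp
  | insert k s hk ih =>
    rw [Finset.prod_insert hk]
    obtain ⟨t, rfl⟩ := ih
    rcases (hx k).dvd_or_dvd (h k) with h1 | h1
    · exfalso
      obtain ⟨i, hi, h2⟩ := (Prime.dvd_finsetProd_iff (hx k) _).mp h1
      have := hxa k i ((hx k).associated_of_dvd (hx i) h2)
      exact hk (this ▸ hi)
    · obtain ⟨t', rfl⟩ := h1
      exact ⟨t', by ring⟩

theorem zmon_add (n n' : Fin r → ℤ) :
    WittFil.zmon u (n + n') = WittFil.zmon u n * WittFil.zmon u n' := by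
  unfold WittFil.zmon
  rw [← Units.val_mul, ← Finset.prod_mul_distrib]
  simp only [Pi.add_apply, zpow_add]

theorem zmon_mul_nat (q : ℕ) (n : Fin r → ℤ) :
    WittFil.zmon u (fun i => (q : ℤ) * n i) = WittFil.zmon u n ^ q := by
  unfold WittFil.zmon
  rw [← Units.val_pow_eq_pow_val, ← Finset.prod_pow]
  congr 2
  funext i
  show u i ^ ((q : ℤ) * n i) = (u i ^ n i) ^ q
  rw [mul_comm, zpow_mul, zpow_natCast]

include hu in
theorem zmon_natCast (e : Fin r → ℕ) :
    WittFil.zmon u (fun i => (e i : ℤ)) = algebraMap A B (∏ i, x i ^ e i) := by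
  unfold WittFil.zmon
  simp only [zpow_natCast, Units.coe_prod, Units.val_pow_eq_pow_val, hu, map_prod, map_pow]

include hx hxa in
/-- master lemma: if `z^q * ∏ x_k^(e_k)` lies in `A` with all `e_k < q` then `z` lies in `A`. -/
theorem mem_range_of_pow_mul_aux (q : ℕ) (e : Fin r → ℕ) (he : ∀ k, e k < q) :
    ∀ (N : ℕ) (z : B) (a : A), z * (algebraMap A B (∏ i, x i)) ^ N = algebraMap A B a →
      z ^ q * algebraMap A B (∏ i, x i ^ e i) ∈ (algebraMap A B).range →
      z ∈ (algebraMap A B).range := by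
  classical
  intro N
  induction N with
  | zero =>
    intro z a h _
    exact ⟨a, by simpa using h.symm⟩
  | succ N ih =>
    intro z a h h'
    obtain ⟨a', ha'⟩ := h'
    have hinj := algebraMap_injective (B := B) x hx
    have key : a ^ q * ∏ i, x i ^ e i = a' * (∏ i, x i) ^ ((N + 1) * q) := by
      apply hinj
      rw [map_mul, map_pow, ← h, map_mul, ha', map_pow]
      ring
    have hdvd : ∀ k, x k ∣ a := by
      intro k
      by_contra hk
      have h1 : x k ^ (e k + 1) ∣ a ^ q * ∏ i, x i ^ e i := by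
        rw [key]
        apply Dvd.dvd.mul_left
        calc x k ^ (e k + 1) ∣ (∏ i, x i) ^ (e k + 1) :=
              pow_dvd_pow_of_dvd (Finset.dvd_prod_of_mem x (Finset.mem_univ k)) _
          _ ∣ (∏ i, x i) ^ ((N + 1) * q) :=
              pow_dvd_pow _ (Nat.le_trans (he k) (Nat.le_mul_of_pos_left q (Nat.succ_pos N)))
      rw [← Finset.mul_prod_erase Finset.univ (fun i => x i ^ e i) (Finset.mem_univ k)] at h1
      have h2 : x k ∣ a ^ q * ∏ i ∈ Finset.univ.erase k, x i ^ e i := by
        have : x k ^ e k * x k ∣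
            x k ^ e k * (a ^ q * ∏ i ∈ Finset.univ.erase k, x i ^ e i) := by
          rw [← pow_succ]
          convert h1 using 1
          ring
        exact (mul_dvd_mul_iff_left (pow_ne_zero _ (hx k).ne_zero)).mp this
      rcases (hx k).dvd_or_dvd h2 with h3 | h3
      · exact hk ((hx k).dvd_of_dvd_pow h3)
      · obtain ⟨i, hi, h4⟩ := (Prime.dvd_finsetProd_iff (hx k) _).mp h3
        have h5 := (hx k).dvd_of_dvd_pow h4
        have := hxa k i ((hx k).associated_of_dvd (hx i) h5)
        exact (Finset.ne_of_mem_erase hi) this.symm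
    obtain ⟨a₁, rfl⟩ := prod_dvd_of_forall_dvd x hx hxa hdvd
    have hunit : IsUnit (algebraMap A B (∏ i, x i)) :=
      IsLocalization.Away.algebraMap_isUnit (∏ i, x i)
    have h2 : z * (algebraMap A B (∏ i, x i)) ^ N = algebraMap A B a₁ := by
      apply hunit.mul_left_cancel
      rw [map_mul] at h
      rw [← h]
      ring
    exact ih z a₁ h2 ⟨a', ha'⟩

include hx hxa in
theorem mem_range_of_pow_mul (q : ℕ) (e : Fin r → ℕ) (he : ∀ k, e k < q) (z : B)
    (h : z ^ q * algebraMap A B (∏ i, x i ^ e i) ∈ (algebraMap A B).range) :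
    z ∈ (algebraMap A B).range := by
  obtain ⟨N, a, hNa⟩ := IsLocalization.Away.surj (∏ i, x i) z
  exact mem_range_of_pow_mul_aux x hx hxa q e he N z a hNa h

include hx hxa in
/-- normality of `A` in `B`. -/
theorem mem_range_of_pow_mem (z : B) (k : ℕ) (hk : 0 < k)
    (h : z ^ k ∈ (algebraMap A B).range) : z ∈ (algebraMap A B).range := by
  apply mem_range_of_pow_mul x hx hxa k (fun _ => 0) (fun _ => hk) z
  simpa using h

end Loc

section PowIff

variable {p : ℕ} [hp : Fact p.Prime] {A B : Type*} [CommRing A] [CommRing B] [Algebra A B]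

theorem mem_fil_pow_iff
    (hN : ∀ (y : B) (k : ℕ), 0 < k → y ^ k ∈ (algebraMap A B).range → y ∈ (algebraMap A B).range)
    (m : ℕ) (c : B) (a : TruncatedWittVector p m B) :
    a ∈ WittFil.fil p m (A := A) (c ^ p ^ (m - 1)) ↔
      InA A m (a * truncate m (teichmuller p c)) := by
  unfold WittFil.fil InA
  simp only [Set.mem_ofPred_eq]
  refine forall_congr' fun j => ?_
  rw [coeff_mul_truncate_teichmuller]
  have e : (TruncatedWittVector.coeff j a) ^ p ^ (m - 1 - (j : ℕ)) * c ^ p ^ (m - 1) =
      (TruncatedWittVector.coeff j a * c ^ p ^ (j : ℕ)) ^ p ^ (m - 1 - (j : ℕ)) := by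
    rw [mul_pow, ← pow_mul, mul_comm (p ^ (j : ℕ)), ← pow_eq_aux]
  rw [e]
  constructor
  · intro h
    exact hN _ _ (pow_pos hp.out.pos _) h
  · intro h
    exact pow_mem h _

end PowIff

section VF

variable {p : ℕ} [hp : Fact p.Prime] {A B : Type*} [CommRing A] [CommRing B] [Algebra A B]

theorem verschiebung_mem_fil (c : B) (m : ℕ) (w : WittVector p B)
    (hw : truncate m w ∈ WittFil.fil p m (A := A) c) :
    truncate (m + 1) (verschiebung w) ∈ WittFil.fil p (m + 1) (A := A) c := by
  unfold WittFil.fil at hw ⊢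
  simp only [Set.mem_ofPred_eq, coeff_truncate] at hw ⊢
  intro j
  obtain ⟨j, hj⟩ := j
  cases j with
  | zero =>
    simp only [verschiebung_coeff_zero]
    rw [zero_pow (pow_ne_zero _ hp.out.ne_zero), zero_mul]
    exact zero_mem _
  | succ j =>
    simp only [verschiebung_coeff_succ]
    have h := hw ⟨j, Nat.lt_of_succ_lt_succ hj⟩
    have e : m + 1 - 1 - (j + 1) = m - 1 - j := by omega
    rw [e]
    exact h

end VF

section Single

variable {p : ℕ} [hp : Fact p.Prime] {A B : Type*} [CommRing A] [IsDomain A] [CommRing B]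
  [Algebra A B] (x : A) (hx : Prime x) [IsLocalization.Away x B] (u : Bˣ)
  (hu : (u : B) = algebraMap A B x)

include hx in
theorem single_injective : Function.Injective (algebraMap A B) :=
  IsLocalization.injective B (M := Submonoid.powers x)
    (powers_le_nonZeroDivisors_of_noZeroDivisors hx.ne_zero)

include hx in
theorem single_KL (q e : ℕ) (he : e < q) (z : B)
    (h : z ^ q * algebraMap A B (x ^ e) ∈ (algebraMap A B).range) :
    z ∈ (algebraMap A B).range := by
  let x' : Fin 1 → A := fun _ => x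
  have hx' : ∀ i, Prime (x' i) := fun _ => hx
  have hxa' : ∀ i j, Associated (x' i) (x' j) → i = j := fun i j _ => Subsingleton.elim i j
  have hprod : (∏ i, x' i) = x := by simp [x']
  have : IsLocalization.Away (∏ i, x' i) B := by rw [hprod]; infer_instance
  apply mem_range_of_pow_mul x' hx' hxa' q (fun _ => e) (fun _ => he) z
  simpa [x'] using h

include hx in
theorem single_normal (y : B) (k : ℕ) (hk : 0 < k) (h : y ^ k ∈ (algebraMap A B).range) :
    y ∈ (algebraMap A B).range := by
  apply single_KL x hx k 0 hk y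
  simpa using h

theorem zpow_val_add (k l : ℤ) :
    ((u ^ (k + l) : Bˣ) : B) = ((u ^ k : Bˣ) : B) * ((u ^ l : Bˣ) : B) := by
  rw [zpow_add, Units.val_mul]

theorem zpow_val_mul (k : ℤ) (q : ℕ) :
    ((u ^ (k * (q : ℤ)) : Bˣ) : B) = ((u ^ k : Bˣ) : B) ^ q := by
  rw [zpow_mul, zpow_natCast, Units.val_pow_eq_pow_val]

include hu in
theorem zpow_val_nat (s : ℕ) : ((u ^ (s : ℤ) : Bˣ) : B) = algebraMap A B (x ^ s) := by
  rw [zpow_natCast, Units.val_pow_eq_pow_val, hu, map_pow]

include hu in
theorem mul_zpow_mono (t : B) (k : ℤ)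
    (h : t * ((u ^ (k - 1) : Bˣ) : B) ∈ (algebraMap A B).range) :
    t * ((u ^ k : Bˣ) : B) ∈ (algebraMap A B).range := by
  have : ((u ^ k : Bˣ) : B) = ((u ^ (k - 1) : Bˣ) : B) * algebraMap A B (x ^ 1) := by
    rw [← zpow_val_nat x u hu 1, ← zpow_val_add]
    congr 2
    ring
  rw [this, ← mul_assoc]
  exact mul_mem h ⟨_, rfl⟩

include hx hu in
/-- if `q ∤ n` and `z^q u^n ∈ A` then `z^q u^(n-1) ∈ A`. -/
theorem pow_mul_zpow_pred_mem (q : ℕ) (hq0 : 0 < q) (n : ℤ) (hn : ¬ ((q : ℤ) ∣ n)) (a0 : B)
    (h0 : a0 ^ q * ((u ^ n : Bˣ) : B) ∈ (algebraMap A B).range) :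
    a0 ^ q * ((u ^ (n - 1) : Bˣ) : B) ∈ (algebraMap A B).range := by
  have hq0' : (0 : ℤ) < (q : ℤ) := by exact_mod_cast hq0
  have hspos : 0 < n % (q : ℤ) := (Int.emod_pos_of_not_dvd hn).resolve_left hq0'.ne'
  have hslt : n % (q : ℤ) < q := Int.emod_lt_of_pos n hq0'
  obtain ⟨s', hs'⟩ : ∃ s' : ℕ, ((s' : ℕ) : ℤ) + 1 = n % (q : ℤ) :=
    ⟨(n % (q : ℤ) - 1).toNat, by rw [Int.toNat_of_nonneg (by omega)]; ring⟩
  have hs'lt : s' + 1 < q := by omega
  have hndecomp : n = (n / (q : ℤ)) * (q : ℤ) + ((s' + 1 : ℕ) : ℤ) := by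
    push_cast
    rw [hs', mul_comm]
    exact (Int.mul_ediv_add_emod n q).symm
  set z := a0 * ((u ^ (n / (q : ℤ)) : Bˣ) : B) with hz
  have hz1 : z ^ q * algebraMap A B (x ^ (s' + 1)) = a0 ^ q * ((u ^ n : Bˣ) : B) := by
    conv_rhs => rw [hndecomp, zpow_val_add, zpow_val_mul, zpow_val_nat x u hu]
    rw [hz]; ring
  obtain ⟨z', hz'⟩ := single_KL x hx q (s' + 1) hs'lt z (by rw [hz1]; exact h0)
  have hdec : n - 1 = (n / (q : ℤ)) * (q : ℤ) + ((s' : ℕ) : ℤ) := by
    have h := hndecomp
    push_cast at h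
    linarith
  have : a0 ^ q * ((u ^ (n - 1) : Bˣ) : B) = z ^ q * algebraMap A B (x ^ s') := by
    conv_lhs => rw [hdec, zpow_val_add, zpow_val_mul, zpow_val_nat x u hu]
    rw [hz]; ring
  rw [this, ← hz', ← map_pow, ← map_mul]
  exact ⟨_, rfl⟩

include hx hu in
/-- the decomposition `fil_{m+1}(u^n) ⊆ fil_{m+1}(u^(n-1)) + V fil_m(u^n)` for `p^m ∤ n`. -/
theorem single_decomp [CharP B p] (m : ℕ) (n : ℤ) (hn : ¬ ((p : ℤ) ^ m ∣ n)) :
    ∀ a ∈ WittFil.fil p (m + 1) (A := A) ((u ^ n : Bˣ) : B),
      ∃ b ∈ WittFil.fil p (m + 1) (A := A) ((u ^ (n - 1) : Bˣ) : B),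
        ∃ y : WittVector p B,
          WittVector.truncate m y ∈ WittFil.fil p m (A := A) ((u ^ n : Bˣ) : B) ∧
            a = b + WittVector.truncate (m + 1) (WittVector.verschiebung y) := by
  have hp' : p.Prime := hp.out
  have hN : ∀ (y : B) (k : ℕ), 0 < k → y ^ k ∈ (algebraMap A B).range →
      y ∈ (algebraMap A B).range := fun y k hk h => single_normal x hx y k hk h
  intro a ha
  obtain ⟨wa, rfl⟩ := WittVector.truncate_surjective p (m + 1) B a
  set a0 := wa.coeff 0 with ha0
  set q : ℕ := p ^ m with hq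
  have hqz : ((q : ℕ) : ℤ) = (p : ℤ) ^ m := by rw [hq]; push_cast; rfl
  have hn' : ¬ ((q : ℤ) ∣ n) := by rw [hqz]; exact hn
  have h0 : a0 ^ q * ((u ^ n : Bˣ) : B) ∈ (algebraMap A B).range := by
    have := ha 0
    simpa [WittVector.coeff_truncate] using this
  have h1 := pow_mul_zpow_pred_mem x hx u hu q (pow_pos hp'.pos _) n hn' a0 h0
  have hb : WittVector.truncate (m + 1) (WittVector.teichmuller p a0) ∈
      WittFil.fil p (m + 1) (A := A) ((u ^ (n - 1) : Bˣ) : B) := by
    intro j
    rw [WittVector.coeff_truncate]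
    obtain ⟨j, hj⟩ := j
    cases j with
    | zero =>
      simpa using h1
    | succ j =>
      rw [WittVector.teichmuller_coeff_pos p a0 (j + 1) (Nat.succ_pos j),
        zero_pow (pow_ne_zero _ hp'.ne_zero), zero_mul]
      exact zero_mem _
  have hb' : WittVector.truncate (m + 1) (WittVector.teichmuller p a0) ∈
      WittFil.fil p (m + 1) (A := A) ((u ^ n : Bˣ) : B) :=
    fun j => mul_zpow_mono x u hu _ _ (hb j)
  set w := wa - WittVector.teichmuller p a0 with hw
  have hw0 : w.coeff 0 = 0 := by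
    have : WittVector.constantCoeff w = WittVector.constantCoeff wa -
        WittVector.constantCoeff (WittVector.teichmuller p a0) := by rw [hw, map_sub]
    simp only [WittVector.constantCoeff_apply, WittVector.teichmuller_coeff_zero] at this
    rw [this, ha0, sub_self]
  let y : WittVector p B := WittVector.mk p (fun k => w.coeff (k + 1))
  have hVy : WittVector.verschiebung y = w := by
    ext k
    cases k with
    | zero => rw [WittVector.verschiebung_coeff_zero, hw0]
    | succ k => rw [WittVector.verschiebung_coeff_succ, WittVector.coeff_mk]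
  have hwfil : WittVector.truncate (m + 1) w ∈
      WittFil.fil p (m + 1) (A := A) ((u ^ n : Bˣ) : B) := by
    rw [hw, map_sub]
    exact sub_mem_fil_of_normal hN (m + 1) _ ha hb'
  refine ⟨_, hb, y, ?_, ?_⟩
  · intro j
    rw [WittVector.coeff_truncate, WittVector.coeff_mk]
    have h := hwfil ⟨(j : ℕ) + 1, Nat.succ_lt_succ j.2⟩
    rw [WittVector.coeff_truncate] at h
    have e : m + 1 - 1 - ((j : ℕ) + 1) = m - 1 - (j : ℕ) := by omega
    simp only at h
    rw [e] at h
    exact h
  · rw [hVy, hw, map_sub]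
    ring

end Single

end Groth.Agent.Helper9.WittFilLib
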